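/-
Six coordinates: a group of isometries with the signed even permutations whose elements fixing a
coordinate line are monomial. Columns with small supports and the centraliser of a sign change.
-/
import Cfsg.Agent.Lib.ClassicalMax.OrthMonCore
set_option autoImplicit false
set_option linter.unusedSectionVars false

namespace CfsgLib.ClassicalMax.OmSix

open Matrix Module
open CfsgLib.ClassicalMax.MonG CfsgLib.ClassicalMax.OmL

variable {F : Type*} [Field F]

/-- The hypotheses. -/
structure Six (G : Subgroup (GL (Fin 6) F)) : Prop where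
  hyp : Hyp G
  two : (2 : F) ≠ 0
  det : ∀ g ∈ G, Matrix.det (g : Matrix (Fin 6) (Fin 6) F) = 1
  fixed : FixedMon G

/-- Six different points. -/
def Dist (a b c d e f : Fin 6) : Prop :=
  a ≠ b ∧ a ≠ c ∧ a ≠ d ∧ a ≠ e ∧ a ≠ f ∧ b ≠ c ∧ b ≠ d ∧ b ≠ e ∧ b ≠ f ∧ c ≠ d ∧ c ≠ e ∧ c ≠ f ∧
    d ≠ e ∧ d ≠ f ∧ e ≠ f

lemma exists_dist {a b : Fin 6} (hab : a ≠ b) : ∃ c d e f, Dist a b c d e f := by
  obtain ⟨c, hc⟩ := exists_fresh 2 {a, b} Finset.card_le_two (by simp)
  obtain ⟨d, hd⟩ := exists_fresh 3 {a, b, c} Finset.card_le_three (by simp)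
  obtain ⟨e, he⟩ := exists_fresh 4 {a, b, c, d} Finset.card_le_four (by simp)
  obtain ⟨f, hf⟩ := exists_fresh 5 {a, b, c, d, e} Finset.card_le_five (by simp)
  simp only [Finset.mem_insert, Finset.mem_singleton, not_or] at hc hd he hf
  exact ⟨c, d, e, f, hab, Ne.symm hc.1, Ne.symm hd.1, Ne.symm he.1, Ne.symm hf.1, Ne.symm hc.2,
    Ne.symm hd.2.1, Ne.symm he.2.1, Ne.symm hf.2.1, Ne.symm hd.2.2, Ne.symm he.2.2.1,
    Ne.symm hf.2.2.1, Ne.symm he.2.2.2, Ne.symm hf.2.2.2.1, Ne.symm hf.2.2.2.2⟩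

lemma Dist.univ {a b c d e f : Fin 6} (h : Dist a b c d e f) (x : Fin 6) :
    x = a ∨ x = b ∨ x = c ∨ x = d ∨ x = e ∨ x = f := by
  obtain ⟨h1, h3, h4, h5, h6, h7, h8, h9, h10, h11, h12, h13, h14, h15, h16⟩ := h
  have hU : ({a, b, c, d, e, f} : Finset (Fin 6)) = Finset.univ := Finset.eq_univ_of_card _ (by
    simp [h1, h3, h4, h5, h6, h7, h8, h9, h10, h11, h12, h13, h14, h15, h16])
  have := hU ▸ Finset.mem_univ x
  simpa using this

lemma Dist.sum {a b c d e f : Fin 6} (h : Dist a b c d e f) (v : Fin 6 → F) :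
    ∑ x, v x = v a + v b + v c + v d + v e + v f := by
  obtain ⟨h1, h3, h4, h5, h6, h7, h8, h9, h10, h11, h12, h13, h14, h15, h16⟩ := h
  have hU : ({a, b, c, d, e, f} : Finset (Fin 6)) = Finset.univ := Finset.eq_univ_of_card _ (by
    simp [h1, h3, h4, h5, h6, h7, h8, h9, h10, h11, h12, h13, h14, h15, h16])
  rw [← hU, Finset.sum_insert (by simp [h1, h3, h4, h5, h6]),
    Finset.sum_insert (by simp [h7, h8, h9, h10]), Finset.sum_insert (by simp [h11, h12, h13]),
    Finset.sum_insert (by simp [h14, h15]), Finset.sum_pair h16]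
  ring

lemma act_mul (g h : GL (Fin 6) F) (v : Fin 6 → F) : act (g * h) v = act g (act h v) :=
  gl_mulVec_mul g h v

lemma act_one (v : Fin 6 → F) : act (1 : GL (Fin 6) F) v = v := by
  rw [act, Units.val_one, one_mulVec]

lemma act_inv (g : GL (Fin 6) F) (v : Fin 6 → F) : act g⁻¹ (act g v) = v :=
  gl_inv_mulVec_mulVec g v

lemma inv_act (g : GL (Fin 6) F) (v : Fin 6 → F) : act g (act g⁻¹ v) = v :=
  gl_mulVec_inv_mulVec g v

lemma perm_act (σ : Equiv.Perm (Fin 6)) (v : Fin 6 → F) (x : Fin 6) :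
    act (mon σ 1) v (σ x) = v x := by
  rw [act, mon_mulVec, Equiv.symm_apply_apply, Pi.one_apply, Units.val_one, one_mul]

lemma Mon_col {g : GL (Fin 6) F} (hg : Mon g) (b : Fin 6) {x y : Fin 6} (hxy : x ≠ y) :
    act g (E b) x = 0 ∨ act g (E b) y = 0 := by
  obtain ⟨a, ha⟩ := hg b
  by_cases h : x = a
  · exact Or.inr (by rw [act, E, col_eq]; exact ha y (fun e => hxy (h.trans e.symm)))
  · exact Or.inl (by rw [act, E, col_eq]; exact ha x h)

variable {G : Subgroup (GL (Fin 6) F)} (S : Six G)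

include S

lemma mon_of_col {g : GL (Fin 6) F} (hg : g ∈ G) {j a : Fin 6} {t : F}
    (h : act g (E j) = t • E a) : Mon g := by
  by_cases hja : j = a
  · exact S.fixed g hg a t (hja ▸ h)
  obtain ⟨c, hc⟩ := exists_fresh 2 {j, a} Finset.card_le_two (by simp)
  simp only [Finset.mem_insert, Finset.mem_singleton, not_or] at hc
  set σ := (Equiv.swap j a * Equiv.swap a c)⁻¹ with hσdef
  have hσs : Equiv.Perm.sign σ = 1 := by
    rw [hσdef, Equiv.Perm.sign_inv, sign_cycle hja (fun e => hc.2 e.symm)]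
  have hσ : σ a = j := by
    rw [hσdef, Equiv.Perm.inv_eq_iff_eq, Equiv.Perm.mul_apply,
      Equiv.swap_apply_of_ne_of_ne hja (fun e => hc.1 e.symm), Equiv.swap_apply_left]
  have hm := S.hyp.alt σ hσs
  have h' : act (mon σ 1 * g) (E j) = t • E j := by
    rw [act_mul, h, act, mulVec_smul, E, mon_mulVec_single, hσ]
    simp [E]
  have := Mon_mul (Mon_inv (mon_Mon σ (1 : Fin 6 → Fˣ))) (S.fixed _ (G.mul_mem hm hg) j t h')
  rwa [← mul_assoc, inv_mul_cancel, one_mul] at this

/-- An element which is monomial in the columns permutes them. -/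
lemma perm_cols {g h : GL (Fin 6) F} (hg : g ∈ G) (hh : h ∈ G) (hm : Mon (g⁻¹ * h * g))
    (q : Fin 6) :
    act h (act g (E q)) ⬝ᵥ act g (E q) = 0 ∨ act h (act g (E q)) = act g (E q) ∨
      act h (act g (E q)) = -act g (E q) := by
  have hmem := G.mul_mem (G.mul_mem (G.inv_mem hg) hh) hg
  obtain ⟨σ, d, e⟩ := exists_mon_of_Mon hm
  have hd := mon_data S.hyp (e ▸ hmem) q
  have e2 : h * g = g * mon σ d := by rw [← e]; group
  have e3 : act h (act g (E q)) = (d q : F) • act g (E (σ q)) := by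
    rw [← act_mul, e2, act_mul, act, act, E, mon_mulVec_single, act, E, ← mulVec_smul,
      ← Pi.single_smul, smul_eq_mul]
  by_cases hσ : σ q = q
  · rw [hσ] at e3
    rcases mul_self_eq_one_iff.1 hd with h1 | h1
    · exact Or.inr (Or.inl (by rw [e3, h1, one_smul]))
    · exact Or.inr (Or.inr (by rw [e3, h1, neg_one_smul]))
  · exact Or.inl (by rw [e3, smul_dotProduct, colorth S.hyp hg hσ, smul_zero])

/-- An element fixing a column line permutes the columns. -/
lemma key {g h : GL (Fin 6) F} (hg : g ∈ G) (hh : h ∈ G) {p : Fin 6} {t : F}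
    (hfix : act h (act g (E p)) = t • act g (E p)) (q : Fin 6) :
    act h (act g (E q)) ⬝ᵥ act g (E q) = 0 ∨ act h (act g (E q)) = act g (E q) ∨
      act h (act g (E q)) = -act g (E q) :=
  perm_cols S hg hh (S.fixed _ (G.mul_mem (G.mul_mem (G.inv_mem hg) hh) hg) p t (by
    rw [act_mul, act_mul, hfix, act, mulVec_smul]
    exact congrArg (t • ·) (act_inv g _))) q

/-- The key lemma for a change of two signs. -/
lemma key_sgn {g : GL (Fin 6) F} (hg : g ∈ G) {p k l : Fin 6} (hkl : k ≠ l)
    (hk : act g (E p) k = 0) (hl : act g (E p) l = 0) (q : Fin 6) :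
    2 * (act g (E q) k * act g (E q) k + act g (E q) l * act g (E q) l) = 1 ∨
      (act g (E q) k = 0 ∧ act g (E q) l = 0) ∨
      (∀ x, x ≠ k → x ≠ l → act g (E q) x = 0) := by
  have hfix : act (sgn k l) (act g (E p)) = (1 : F) • act g (E p) := funext fun x => by
    rw [sgn_apply hkl, one_smul]
    split_ifs with hx
    · rcases hx with rfl | rfl
      · rw [hk, neg_zero]
      · rw [hl, neg_zero]
    · rfl
  rcases key S hg (S.hyp.sgn k l hkl) hfix q with h | h | h
  · left
    rw [sgn_dot hkl, colnorm S.hyp hg] at h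
    linear_combination -h
  · refine Or.inr (Or.inl ⟨?_, ?_⟩)
    · have := congrFun h k
      rw [sgn_apply hkl, if_pos (Or.inl rfl)] at this
      exact (mul_eq_zero.1 (show (2 : F) * _ = 0 by linear_combination -this)).resolve_left S.two
    · have := congrFun h l
      rw [sgn_apply hkl, if_pos (Or.inr rfl)] at this
      exact (mul_eq_zero.1 (show (2 : F) * _ = 0 by linear_combination -this)).resolve_left S.two
  · refine Or.inr (Or.inr fun x h1 h2 => ?_)
    have := congrFun h x
    rw [sgn_apply hkl, if_neg (by simp [h1, h2]), Pi.neg_apply] at this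
    exact (mul_eq_zero.1 (show (2 : F) * _ = 0 by linear_combination this)).resolve_left S.two

/-- Two columns on disjoint pairs of coordinates. -/
lemma pair_pair {g : GL (Fin 6) F} (hg : g ∈ G) {p q a b m m' : Fin 6} (hab : a ≠ b)
    (ham : a ≠ m) (ham' : a ≠ m') (hbm : b ≠ m) (hbm' : b ≠ m')
    (hp : ∀ x, x ≠ m → x ≠ m' → act g (E p) x = 0)
    (hq : ∀ x, x ≠ a → x ≠ b → act g (E q) x = 0)
    (ha : act g (E q) a ≠ 0) (hb : act g (E q) b ≠ 0) : False := by
  obtain ⟨r, hr⟩ := exists_fresh 4 {a, b, m, m'} Finset.card_le_four (by simp)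
  obtain ⟨r', hr'⟩ := exists_fresh 5 {a, b, m, m', r} Finset.card_le_five (by simp)
  simp only [Finset.mem_insert, Finset.mem_singleton, not_or] at hr hr'
  obtain ⟨hra, hrb, hrm, hrm'⟩ := hr
  obtain ⟨hr'a, hr'b, hr'm, hr'm', hr'r⟩ := hr'
  set σ := Equiv.swap b r * Equiv.swap r r' with hσ
  have sfix : ∀ x, x ≠ b → x ≠ r → x ≠ r' → σ x = x := fun x h1 h2 h3 => by
    rw [hσ, Equiv.Perm.mul_apply, Equiv.swap_apply_of_ne_of_ne h2 h3,
      Equiv.swap_apply_of_ne_of_ne h1 h2]
  have sb : σ b = r := by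
    rw [hσ, Equiv.Perm.mul_apply, Equiv.swap_apply_of_ne_of_ne (Ne.symm hrb) (Ne.symm hr'b),
      Equiv.swap_apply_left]
  have sr' : σ r' = b := by
    rw [hσ, Equiv.Perm.mul_apply, Equiv.swap_apply_right, Equiv.swap_apply_right]
  have hfix : act (mon σ 1) (act g (E p)) = (1 : F) • act g (E p) := funext fun y => by
    rw [one_smul]
    obtain ⟨x, rfl⟩ := σ.surjective y
    rw [perm_act]
    by_cases h1 : x = m
    · subst h1; rw [sfix _ (Ne.symm hbm) (Ne.symm hrm) (Ne.symm hr'm)]
    by_cases h2 : x = m'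
    · subst h2; rw [sfix _ (Ne.symm hbm') (Ne.symm hrm') (Ne.symm hr'm')]
    rw [hp x h1 h2, hp (σ x)]
    · intro e
      exact h1 (σ.injective (e.trans (sfix m (Ne.symm hbm) (Ne.symm hrm) (Ne.symm hr'm)).symm))
    · intro e
      exact h2 (σ.injective (e.trans (sfix m' (Ne.symm hbm') (Ne.symm hrm') (Ne.symm hr'm')).symm))
  set u := act g (E q) with hu
  have va : act (mon σ 1) u a = u a := by
    conv_lhs => rw [← sfix a hab (Ne.symm hra) (Ne.symm hr'a)]
    exact perm_act σ u a
  have vb : act (mon σ 1) u b = 0 := by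
    rw [← sr', perm_act, hq r' hr'a hr'b]
  have vr : act (mon σ 1) u r = u b := by rw [← sb, perm_act]
  rcases key S hg (S.hyp.alt σ (sign_cycle (Ne.symm hrb) (Ne.symm hr'r))) hfix q with h | h | h <;>
    simp only [← hu] at h
  · rw [dotProduct, Fintype.sum_eq_add a b hab fun x hx => by rw [hq x hx.1 hx.2, mul_zero], va, vb,
      zero_mul, add_zero] at h
    exact ha (mul_self_eq_zero.1 h)
  · exact hb (by rw [← vr, h, hq r hra hrb])
  · exact hb (by rw [← vr, h, Pi.neg_apply, hq r hra hrb, neg_zero])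

omit S in
/-- The conjugate of a sign change is the product of two reflections. -/
lemma conj_sgn_apply (hG : Hyp G) {g : GL (Fin 6) F} (hg : g ∈ G) {p q : Fin 6} (hpq : p ≠ q)
    (v : Fin 6 → F) :
    act (g * sgn p q * g⁻¹) v = v - (2 * (v ⬝ᵥ act g (E p))) • act g (E p)
      - (2 * (v ⬝ᵥ act g (E q))) • act g (E q) := by
  set w := act g⁻¹ v with hw
  have hv : v = act g w := (inv_act g v).symm
  have hs : act (sgn p q) w = w - (2 * w p) • E p - (2 * w q) • E q := by
    funext k
    rw [sgn_apply hpq]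
    by_cases h1 : k = p
    · subst h1; simp [E, hpq]; ring
    by_cases h2 : k = q
    · subst h2; simp [E, h1]; ring
    simp [E, h1, h2]
  rw [act_mul, act_mul, ← hw, hs, act, mulVec_sub, mulVec_sub, mulVec_smul, mulVec_smul]
  change act g w - (2 * w p) • act g (E p) - (2 * w q) • act g (E q) = _
  rw [← hv]
  congr 2
  · congr 1
    rw [hv, hG.dot g hg, E, dotProduct_single, mul_one]
  · congr 1
    rw [hv, hG.dot g hg, E, dotProduct_single, mul_one]

/-- A column on two coordinates and a half column on the other four. -/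
lemma half_pair {g : GL (Fin 6) F} (hg : g ∈ G) {p q a a' : Fin 6} (haa : a ≠ a')
    (hf : ∀ x, x ≠ a → x ≠ a' → act g (E q) x = 0)
    (hγ : act g (E q) a ≠ 0) (hδ : act g (E q) a' ≠ 0)
    (h0 : act g (E p) a = 0) (h0' : act g (E p) a' = 0)
    (hh : ∀ x, x ≠ a → x ≠ a' → 4 * (act g (E p) x * act g (E p) x) = 1) : False := by
  set f := act g (E q) with hfdef
  set h := act g (E p) with hhdef
  have hpq : p ≠ q := fun e => hγ (by rw [hfdef, ← e]; exact h0)
  have hne : ∀ x, x ≠ a → x ≠ a' → h x ≠ 0 := fun x h1 h2 e =>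
    one_ne_zero (α := F) (by rw [← hh x h1 h2, e]; ring)
  set u := g * sgn p q * g⁻¹ with hudef
  have huG : u ∈ G := G.mul_mem (G.mul_mem hg (S.hyp.sgn p q hpq)) (G.inv_mem hg)
  have husq : u * u = 1 := by
    rw [hudef, show g * sgn p q * g⁻¹ * (g * sgn p q * g⁻¹) = g * (sgn p q * sgn p q) * g⁻¹ by group,
      sgn_mul_self hpq]
    group
  have hu : ∀ v, act u v = v - (2 * (v ⬝ᵥ h)) • h - (2 * (v ⬝ᵥ f)) • f :=
    fun v => conj_sgn_apply S.hyp hg hpq v
  obtain ⟨b, x, y, z, hD⟩ := exists_dist haa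
  have hD' := hD
  obtain ⟨-, hab, hax, hay, haz, ha'b, ha'x, ha'y, ha'z, hbx, hby, hbz, hxy, hxz, hyz⟩ := hD'
  have hEh : ∀ k, E k ⬝ᵥ h = h k := fun k => by simp [E]
  have hEf : ∀ k, E k ⬝ᵥ f = f k := fun k => by simp [E]
  have hub : act u (E b) = E b - (2 * h b) • h := by
    rw [hu, hEh, hEf, hf b hab.symm ha'b.symm, mul_zero, zero_smul, sub_zero]
  have hnm : ¬ Mon u := by
    intro hm
    rcases Mon_col hm b hxy with e | e
    · rw [hub] at e
      simp [E, hbx.symm, S.two, hne b hab.symm ha'b.symm, hne x hax.symm ha'x.symm] at e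
    · rw [hub] at e
      simp [E, hby.symm, S.two, hne b hab.symm ha'b.symm, hne y hay.symm ha'y.symm] at e
  -- two equal entries
  obtain ⟨c, c', hcc, hca, hca', hc'a, hc'a', hcb, hc'b, heq⟩ : ∃ c c', c ≠ c' ∧ c ≠ a ∧ c ≠ a' ∧
      c' ≠ a ∧ c' ≠ a' ∧ c ≠ b ∧ c' ≠ b ∧ h c = h c' := by
    have sq : ∀ {i j : Fin 6}, i ≠ a → i ≠ a' → j ≠ a → j ≠ a' → h i = h j ∨ h i = -h j :=
      fun {i j} h1 h2 h3 h4 => mul_self_eq_mul_self_iff.1 (by
        have e1 := hh i h1 h2
        have e2 := hh j h3 h4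
        exact mul_left_cancel₀ (mul_ne_zero S.two S.two) (by linear_combination e1 - e2))
    rcases sq hax.symm ha'x.symm hay.symm ha'y.symm with e | e
    · exact ⟨x, y, hxy, hax.symm, ha'x.symm, hay.symm, ha'y.symm, hbx.symm, hby.symm, e⟩
    rcases sq hax.symm ha'x.symm haz.symm ha'z.symm with e' | e'
    · exact ⟨x, z, hxz, hax.symm, ha'x.symm, haz.symm, ha'z.symm, hbx.symm, hbz.symm, e'⟩
    exact ⟨y, z, hyz, hay.symm, ha'y.symm, haz.symm, ha'z.symm, hby.symm, hbz.symm,
      neg_inj.1 (e.symm.trans e')⟩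
  set σ := Equiv.swap a a' * Equiv.swap c c' with hσ
  have hσs : Equiv.Perm.sign σ = 1 := by
    rw [hσ, Equiv.Perm.sign_mul, Equiv.Perm.sign_swap haa, Equiv.Perm.sign_swap hcc]; rfl
  have hnG := S.hyp.alt σ hσs
  have nfix : act (mon σ 1) (act u (E b)) = act u (E b) := funext fun l => by
    obtain ⟨k, rfl⟩ := σ.surjective l
    rw [perm_act, hub, hσ, Equiv.Perm.mul_apply]
    by_cases k1 : k = c
    · subst k1
      simp [E, hcb, hc'b, Equiv.swap_apply_of_ne_of_ne hc'a hc'a', heq]
    by_cases k2 : k = c'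
    · subst k2
      simp [E, hcb, hc'b, Equiv.swap_apply_of_ne_of_ne hca hca', heq]
    rw [Equiv.swap_apply_of_ne_of_ne k1 k2]
    by_cases k3 : k = a
    · subst k3; simp [E, hab.symm, ha'b, h0, h0', hab]
    by_cases k4 : k = a'
    · subst k4; simp [E, hab, ha'b, h0, h0']
    rw [Equiv.swap_apply_of_ne_of_ne k3 k4]
  have hunu : Mon (u * mon σ 1 * u) := S.fixed _ (G.mul_mem (G.mul_mem huG hnG) huG) b 1 (by
    rw [act_mul, act_mul, nfix, ← act_mul, husq, act_one, one_smul])
  set γ := f a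
  set δ := f a'
  have hN : γ * γ + δ * δ = 1 := by
    have := colnorm S.hyp hg q
    rw [← hfdef, dotProduct, Fintype.sum_eq_add a a' haa fun l hl => by
      rw [hf l hl.1 hl.2, mul_zero]] at this
    exact this
  have hplane : ∀ v : Fin 6 → F, (∀ l, l ≠ a → l ≠ a' → v l = 0) →
      (∀ l, l ≠ a → l ≠ a' → act u v l = 0) ∧
        act u v a = v a - 2 * (v a * γ + v a' * δ) * γ ∧
        act u v a' = v a' - 2 * (v a * γ + v a' * δ) * δ := by
    intro v hv
    have e1 : v ⬝ᵥ h = 0 := by
      rw [dotProduct, Fintype.sum_eq_add a a' haa fun l hl => by rw [hv l hl.1 hl.2, zero_mul],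
        h0, h0', mul_zero, mul_zero, add_zero]
    have e2 : v ⬝ᵥ f = v a * γ + v a' * δ := by
      rw [dotProduct, Fintype.sum_eq_add a a' haa fun l hl => by rw [hv l hl.1 hl.2, zero_mul]]
    rw [hu, e1, e2, mul_zero, zero_smul, sub_zero]
    refine ⟨fun l h1 h2 => by simp [hv l h1 h2, hf l h1 h2], ?_, ?_⟩ <;> simp [γ, δ]
  obtain ⟨p0, p1, p2⟩ := hplane (E a) (fun l h1 _ => by simp [E, h1])
  simp only [E, Pi.single_eq_same, Pi.single_eq_of_ne haa.symm, one_mul, zero_mul, add_zero,
    zero_sub] at p1 p2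
  set w := act u (E a) with hw
  by_cases hγ2 : 2 * (γ * γ) = 1
  · refine hnm (mon_of_col S huG (j := a) (a := a') (t := w a') (funext fun l => ?_))
    by_cases h1 : l = a'
    · subst h1; simp [E, hw]
    rw [Pi.smul_apply, show (E a' : Fin 6 → F) l = 0 by simp [E, h1], smul_zero]
    by_cases h2 : l = a
    · subst h2
      rw [← hw, p1]; linear_combination -hγ2
    exact p0 l h2 h1
  have h8 : 8 * (γ * γ) * (δ * δ) = 1 := by
    set v := act (mon σ 1) w with hv
    have sa : σ a = a' := by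
      rw [hσ, Equiv.Perm.mul_apply, Equiv.swap_apply_of_ne_of_ne hca.symm hc'a.symm,
        Equiv.swap_apply_left]
    have sa' : σ a' = a := by
      rw [hσ, Equiv.Perm.mul_apply, Equiv.swap_apply_of_ne_of_ne hca'.symm hc'a'.symm,
        Equiv.swap_apply_right]
    have va : v a = w a' := by rw [hv, ← sa', perm_act]
    have va' : v a' = w a := by rw [hv, ← sa, perm_act]
    obtain ⟨-, q1, q2⟩ := hplane v fun l h1 h2 => by
      obtain ⟨k, rfl⟩ := σ.surjective l
      rw [hv, perm_act]
      exact p0 k (fun e => h2 (by rw [e, sa])) (fun e => h1 (by rw [e, sa']))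
    rcases Mon_col hunu a haa with e | e
    · rw [act_mul, act_mul, ← hw, ← hv, q1, va, va', p1, p2] at e
      exfalso
      have : (4 * γ * δ) * (2 * (γ * γ) - 1) = 0 := by linear_combination e
      rcases mul_eq_zero.1 this with e' | e'
      · exact mul_ne_zero (mul_ne_zero (mul_ne_zero S.two S.two) hγ) hδ (by linear_combination e')
      · exact hγ2 (sub_eq_zero.1 e')
    · rw [act_mul, act_mul, ← hw, ← hv, q2, va, va', p1, p2] at e
      linear_combination e + 2 * hN
  -- the commutator with a sign change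
  set t := sgn a b * u * sgn a b * u with ht
  have htG : t ∈ G := G.mul_mem (G.mul_mem (G.mul_mem (S.hyp.sgn a b hab) huG) (S.hyp.sgn a b hab)) huG
  have htm : Mon t := by
    set v := act (sgn a b) w with hv
    have va : v a = -w a := by rw [hv, sgn_apply hab, if_pos (Or.inl rfl)]
    have va' : v a' = w a' := by
      rw [hv, sgn_apply hab, if_neg (by simp [haa.symm, ha'b])]
    obtain ⟨q0, q1, -⟩ := hplane v fun l h1 h2 => by
      rw [hv, sgn_apply hab]
      split_ifs <;> simp [p0 l h1 h2]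
    refine mon_of_col S htG (j := a) (a := a') (t := act t (E a) a') (funext fun l => ?_)
    by_cases h1 : l = a'
    · subst h1; simp [E]
    rw [Pi.smul_apply, show (E a' : Fin 6 → F) l = 0 by simp [E, h1], smul_zero, ht, act_mul,
      act_mul, act_mul, ← hw, ← hv, sgn_apply hab]
    by_cases h2 : l = a
    · subst h2
      rw [if_pos (Or.inl rfl), q1, va, va', p1, p2, neg_eq_zero]
      linear_combination h8 - (4 * (γ * γ)) * hN
    · split_ifs <;> simp [q0 l h2 h1]
  have hb2 : 4 * (h b * h b) = 1 := hh b hab.symm ha'b.symm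
  have htb : act t (E b) = act (sgn a b) ((2 * h b) • h) := by
    have e1 : act (sgn a b) (act u (E b)) = -((2 * h b) • h) := funext fun l => by
      rw [sgn_apply hab, hub]
      by_cases k1 : l = a
      · subst k1; simp [E, h0, hab]
      by_cases k2 : l = b
      · subst k2
        simp [E]
        linear_combination hb2
      simp [E, k1, k2]
    rw [ht, act_mul, act_mul, act_mul, e1, hu]
    congr 1
    rw [neg_dotProduct, neg_dotProduct, smul_dotProduct, smul_dotProduct, colnorm S.hyp hg,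
      hhdef, hfdef, colorth S.hyp hg hpq]
    simp only [smul_eq_mul, mul_one, mul_zero, neg_zero, zero_smul, sub_zero]
    module
  rcases Mon_col htm b hxy with e | e
  · rw [htb, sgn_apply hab, if_neg (by simp [hax.symm, hbx.symm])] at e
    simp [S.two, hne b hab.symm ha'b.symm, hne x hax.symm ha'x.symm] at e
  · rw [htb, sgn_apply hab, if_neg (by simp [hay.symm, hby.symm])] at e
    simp [S.two, hne b hab.symm ha'b.symm, hne y hay.symm ha'y.symm] at e

/-- The centraliser of a change of two signs is monomial. -/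
lemma mon_of_comm {c : GL (Fin 6) F} (hc : c ∈ G) {a b : Fin 6} (hab : a ≠ b)
    (hcom : c * sgn a b = sgn a b * c) : Mon c := by
  by_contra hnm
  have hcol : ∀ m, act (sgn a b) (act c (E m)) = act c (act (sgn a b) (E m)) := fun m => by
    rw [← act_mul, ← hcom, act_mul]
  set f := act c (E a) with hf
  have hfsupp : ∀ x, x ≠ a → x ≠ b → f x = 0 := fun x h1 h2 => by
    have h := congrFun (hcol a) x
    rw [sgn_apply hab, if_neg (by simp [h1, h2]),
      show act (sgn a b) (E a : Fin 6 → F) = -E a from funext fun l => by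
        rw [sgn_apply hab]
        by_cases e : l = a
        · subst e; simp
        · simp [E, e], show act c (-E a) = -act c (E a) from mulVec_neg _ _, Pi.neg_apply] at h
    exact (mul_eq_zero.1 (show (2 : F) * f x = 0 by linear_combination h)).resolve_left S.two
  have hfa : f a ≠ 0 := fun e => hnm (mon_of_col S hc (j := a) (a := b) (t := f b) (funext fun l => by
    by_cases h2 : l = b
    · subst h2; simp [E, hf]
    by_cases h1 : l = a
    · subst h1; simp [E, h2, ← hf, e]
    simp [E, h2, ← hf, hfsupp l h1 h2]))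
  have hfb : f b ≠ 0 := fun e => hnm (mon_of_col S hc (j := a) (a := a) (t := f a) (funext fun l => by
    by_cases h1 : l = a
    · subst h1; simp [E, hf]
    by_cases h2 : l = b
    · subst h2; simp [E, h1, ← hf, e]
    simp [E, h1, ← hf, hfsupp l h1 h2]))
  obtain ⟨m, m', m'', m''', hm⟩ := exists_dist hab
  set v := act c (E m) with hv
  have hva : ∀ x, x = a ∨ x = b → v x = 0 := fun x hx => by
    have h := congrFun (hcol m) x
    rw [sgn_apply hab, if_pos hx,
      show act (sgn a b) (E m : Fin 6 → F) = E m from funext fun l => by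
        rw [sgn_apply hab]
        split_ifs with e
        · rcases e with rfl | rfl <;> simp [E, hm.2.1, hm.2.2.2.2.2.1]
        · rfl] at h
    exact (mul_eq_zero.1 (show (2 : F) * v x = 0 by linear_combination -h)).resolve_left S.two
  obtain ⟨k, hk⟩ : ∃ k, v k ≠ 0 := by
    by_contra h
    push Not at h
    have h1 := colnorm S.hyp hc m
    rw [← hv, show v = 0 from funext h, zero_dotProduct] at h1
    exact zero_ne_one h1
  have hka : k ≠ a := fun e => hk (hva k (Or.inl e))
  have hkb : k ≠ b := fun e => hk (hva k (Or.inr e))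
  -- a column on two coordinates
  have two : ∀ l, l ≠ a → l ≠ b → (∀ x, x ≠ k → x ≠ l → v x = 0) → False := fun l hla hlb hsupp => by
    by_cases hl : l = k ∨ v l = 0
    · refine hnm (mon_of_col S hc (j := m) (a := k) (t := v k) (funext fun x => ?_))
      by_cases h1 : x = k
      · subst h1; simp [E, hv]
      simp only [Pi.smul_apply, show (E k : Fin 6 → F) x = 0 by simp [E, h1], smul_zero]
      by_cases h2 : x = l
      · rcases hl with e | e
        · exact absurd (h2.trans e) h1
        · rw [h2]; exact e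
      · exact hsupp x h1 h2
    push Not at hl
    exact pair_pair S hc (p := a) (q := m) (Ne.symm hl.1) hka hkb hla hlb hfsupp hsupp hk hl.2
  obtain ⟨x, y, z, hD⟩ : ∃ x y z, Dist a b k x y z := by
    obtain ⟨x, hx⟩ := exists_fresh 3 {a, b, k} Finset.card_le_three (by simp)
    obtain ⟨y, hy⟩ := exists_fresh 4 {a, b, k, x} Finset.card_le_four (by simp)
    obtain ⟨z, hz⟩ := exists_fresh 5 {a, b, k, x, y} Finset.card_le_five (by simp)
    simp only [Finset.mem_insert, Finset.mem_singleton, not_or] at hx hy hz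
    exact ⟨x, y, z, hab, hka.symm, Ne.symm hx.1, Ne.symm hy.1, Ne.symm hz.1, hkb.symm, Ne.symm hx.2.1,
      Ne.symm hy.2.1, Ne.symm hz.2.1, Ne.symm hx.2.2, Ne.symm hy.2.2.1, Ne.symm hz.2.2.1,
      Ne.symm hy.2.2.2, Ne.symm hz.2.2.2.1, Ne.symm hz.2.2.2.2⟩
  have hD' := hD
  obtain ⟨-, -, hax, hay, haz, -, hbx, hby, hbz, hkx, hky, hkz, hxy, hxz, hyz⟩ := hD'
  have pr : ∀ l, l ≠ a → l ≠ b → l ≠ k → 2 * (v k * v k + v l * v l) = 1 := fun l hla hlb hlk => by
    rcases key_sgn S hc (p := a) (Ne.symm hlk) (hfsupp k hka hkb) (hfsupp l hla hlb) m with h | h | h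
    · exact h
    · exact absurd h.1 hk
    · exact (two l hla hlb h).elim
  have ex := pr x hax.symm hbx.symm hkx.symm
  have ey := pr y hay.symm hby.symm hky.symm
  have ez := pr z haz.symm hbz.symm hkz.symm
  rcases key_sgn S hc (p := a) hxy (hfsupp x hax.symm hbx.symm) (hfsupp y hay.symm hby.symm) m with
    h | h | h
  · rw [← hv] at h
    have qk : 4 * (v k * v k) = 1 := by linear_combination ex + ey - h
    refine half_pair S hc (p := m) (q := a) hab hfsupp hfa hfb (hva a (Or.inl rfl))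
      (hva b (Or.inr rfl)) fun l h1 h2 => ?_
    rw [← hv]
    rcases hD.univ l with e | e | e | e | e | e
    · exact absurd e h1
    · exact absurd e h2
    · rw [e]; exact qk
    · rw [e]; linear_combination 2 * ex - qk
    · rw [e]; linear_combination 2 * ey - qk
    · rw [e]; linear_combination 2 * ez - qk
  · rw [← hv] at h
    refine two x hax.symm hbx.symm fun l h1 h2 => ?_
    have hz0 : v z = 0 := mul_self_eq_zero.1 (mul_left_cancel₀ S.two
      (by linear_combination ez - ex + 2 * (v x) * h.1))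
    rcases hD.univ l with e | e | e | e | e | e
    · exact hva l (Or.inl e)
    · exact hva l (Or.inr e)
    · exact absurd e h1
    · exact absurd e h2
    · rw [e]; exact h.2
    · rw [e]; exact hz0
  · exact hk (h k hkx hky)

end CfsgLib.ClassicalMax.OmSix
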