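/-
Six coordinates: monomial involutions up to signed permutations, change of coordinates.
-/
import Cfsg.Agent.Lib.ClassicalMax.OrthSix.Base
set_option autoImplicit false
set_option linter.unusedSectionVars false

namespace CfsgLib.ClassicalMax.OmSix

open Matrix Module
open CfsgLib.ClassicalMax.MonG CfsgLib.ClassicalMax.OmL

variable {F : Type*} [Field F]

lemma mon_mul (σ τ : Equiv.Perm (Fin 6)) (d e : Fin 6 → Fˣ) :
    mon σ d * mon τ e = mon (σ * τ) fun y => d (τ y) * e y := by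
  refine gl_ext_mulVec fun x => funext fun i => ?_
  rw [gl_mulVec_mul, mon_mulVec, mon_mulVec, mon_mulVec, Equiv.Perm.mul_def]
  simp [mul_assoc]

lemma mon_one : (mon 1 1 : GL (Fin 6) F) = 1 := by
  refine gl_ext_mulVec fun x => funext fun i => ?_
  rw [mon_mulVec, Equiv.Perm.one_def]
  simp

lemma neg_mon (σ : Equiv.Perm (Fin 6)) (d : Fin 6 → Fˣ) :
    -(mon σ d : GL (Fin 6) F) = mon σ fun y => -d y := by
  refine gl_ext_mulVec fun x => funext fun i => ?_
  rw [Units.val_neg, Matrix.neg_mulVec, Pi.neg_apply, mon_mulVec, mon_mulVec, Units.val_neg, neg_mul]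

lemma trace_mon (σ : Equiv.Perm (Fin 6)) (d : Fin 6 → Fˣ) :
    Matrix.trace (mon σ d : Matrix (Fin 6) (Fin 6) F) = ∑ x, if σ x = x then (d x : F) else 0 := by
  refine Finset.sum_congr rfl fun x _ => ?_
  by_cases h : σ x = x
  · simp [coe_mon, monMat, h]
  · simp [coe_mon, monMat, h, Ne.symm h]

lemma mon_inj {σ τ : Equiv.Perm (Fin 6)} {d e : Fin 6 → Fˣ} (h : (mon σ d : GL (Fin 6) F) = mon τ e) :
    σ = τ ∧ d = e := by
  have key : ∀ y, σ y = τ y ∧ d y = e y := fun y => by
    have h1 := congrArg (fun g : GL (Fin 6) F => (g : Matrix (Fin 6) (Fin 6) F) *ᵥ Pi.single y 1) h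
    simp only [mon_mulVec_single, mul_one] at h1
    by_cases hs : σ y = τ y
    · rw [hs] at h1
      exact ⟨hs, Units.ext (by simpa using congrFun h1 (τ y))⟩
    · have := congrFun h1 (σ y)
      rw [Pi.single_eq_same, Pi.single_eq_of_ne hs] at this
      exact absurd this (d y).ne_zero
  exact ⟨Equiv.ext fun y => (key y).1, funext fun y => (key y).2⟩

/-- The double transposition `(01)(23)`. -/
noncomputable def T2 (F : Type*) [Field F] : GL (Fin 6) F :=
  mon (Equiv.swap 0 1 * Equiv.swap 2 3) 1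

/-- The transposition `(01)` times a sign change at `2`. -/
noncomputable def T3 (F : Type*) [Field F] : GL (Fin 6) F :=
  mon (Equiv.swap 0 1) ![1, 1, -1, 1, 1, 1]

lemma T2_apply (v : Fin 6 → F) : act (T2 F) v = ![v 1, v 0, v 3, v 2, v 4, v 5] := by
  funext i
  rw [T2, act, mon_mulVec, Equiv.Perm.mul_def]
  fin_cases i <;> simp [Equiv.swap_apply_def]

lemma T3_apply (v : Fin 6 → F) : act (T3 F) v = ![v 1, v 0, -v 2, v 3, v 4, v 5] := by
  funext i
  rw [T3, act, mon_mulVec]
  fin_cases i <;> simp [Equiv.swap_apply_def]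

/-- The equivalence given by six different points. -/
noncomputable def Dist.perm {a b c d e f : Fin 6} (h : Dist a b c d e f) : Equiv.Perm (Fin 6) :=
  Equiv.ofBijective ![a, b, c, d, e, f] (Finite.injective_iff_bijective.1 (by
    obtain ⟨h1, h3, h4, h5, h6, h7, h8, h9, h10, h11, h12, h13, h14, h15, h16⟩ := h
    intro i j hij
    fin_cases i <;> fin_cases j <;> first
      | rfl
      | (simp at hij; simp_all)))

lemma Dist.prod_eq {a b c d e f : Fin 6} (h : Dist a b c d e f) {M : Type*} [CommMonoid M]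
    (v : Fin 6 → M) : ∏ x, v x = v a * v b * v c * v d * v e * v f := by
  rw [← Equiv.prod_comp h.perm, Fin.prod_univ_six]
  rfl

lemma Dist.perm_apply {a b c d e f : Fin 6} (h : Dist a b c d e f) (i : Fin 6) :
    h.perm i = ![a, b, c, d, e, f] i := rfl

variable {G : Subgroup (GL (Fin 6) F)}

lemma mon_one_mem' (h2 : (2 : F) ≠ 0) (hs : ∀ i j : Fin 6, i ≠ j → sgn i j ∈ G) {d : Fin 6 → Fˣ}
    (hd : ∀ x, (d x : F) * d x = 1) (hp : ∏ x, (d x : F) = 1) : mon 1 d ∈ G := by
  classical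
  suffices H : ∀ (n : ℕ) (d : Fin 6 → Fˣ), (∀ x, (d x : F) * d x = 1) → ∏ x, (d x : F) = 1 →
      (Finset.univ.filter fun x => d x ≠ 1).card ≤ n → mon 1 d ∈ G from
    H _ d hd hp le_rfl
  intro n
  induction n with
  | zero =>
    intro d _ _ hn
    have : d = 1 := funext fun x => by
      by_contra hx
      exact absurd (Finset.card_pos.2 ⟨x, by simpa using hx⟩) (not_lt.2 hn)
    rw [this, mon_one]
    exact G.one_mem
  | succ n ih =>
    intro d hd hp hn
    by_cases h0 : d = 1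
    · rw [h0, mon_one]; exact G.one_mem
    obtain ⟨a, ha⟩ := Function.ne_iff.1 h0
    have hneg : ∀ x, d x ≠ 1 → d x = -1 := fun x hx => Units.ext (by
      rcases mul_self_eq_one_iff.1 (hd x) with e | e
      · exact absurd (Units.ext e) hx
      · simpa using e)
    obtain ⟨b, hba, hb⟩ : ∃ b, b ≠ a ∧ d b ≠ 1 := by
      by_contra h
      push Not at h
      rw [Fintype.prod_eq_single a fun x hx => by rw [h x hx, Units.val_one], hneg a ha] at hp
      exact h2 (by simp at hp; linear_combination -hp)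
    set d' : Fin 6 → Fˣ := fun x => d x * dfun a (-1) b (-1) x with hd'
    have hval : ∀ x, d' x = if x = a ∨ x = b then -d x else d x := fun x => by
      rw [hd']
      by_cases h1 : x = b
      · subst h1; simp [dfun]
      by_cases h2 : x = a
      · subst h2; simp [dfun, h1]
      simp [dfun, h1, h2]
    have e : mon 1 d = mon 1 d' * sgn a b := by
      rw [sgn, mon_mul]
      congr 1
      funext y
      rw [Equiv.Perm.one_apply, hval]
      by_cases h1 : y = b
      · subst h1; simp [dfun]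
      by_cases h2 : y = a
      · subst h2; simp [dfun, h1]
      simp [dfun, h1, h2]
    rw [e]
    refine G.mul_mem (ih d' (fun x => by rw [hval]; split_ifs <;> simp [hd x]) ?_ ?_)
      (hs a b hba.symm)
    · rw [hd']
      simp only [Units.val_mul]
      rw [Finset.prod_mul_distrib, hp, prod_dfun hba.symm]
      simp
    · refine Nat.le_of_lt_succ (lt_of_lt_of_le (Finset.card_lt_card ?_) hn)
      refine Finset.ssubset_iff_of_subset (fun x hx => ?_) |>.2 ⟨a, by simpa using ha, ?_⟩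
      · simp only [Finset.mem_filter, Finset.mem_univ, true_and, hval] at hx ⊢
        by_cases hxab : x = a ∨ x = b
        · rcases hxab with rfl | rfl
          · exact ha
          · exact hb
        · rwa [if_neg hxab] at hx
      · simp [hval, hneg a ha]

variable (S : Six G)

include S

lemma mon_one_mem {d : Fin 6 → Fˣ} (hd : ∀ x, (d x : F) * d x = 1) (hp : ∏ x, (d x : F) = 1) :
    mon 1 d ∈ G :=
  mon_one_mem' S.two S.hyp.sgn hd hp

lemma mon_mem {σ : Equiv.Perm (Fin 6)} {d : Fin 6 → Fˣ} (hσ : Equiv.Perm.sign σ = 1)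
    (hd : ∀ x, (d x : F) * d x = 1) (hp : ∏ x, (d x : F) = 1) : mon σ d ∈ G := by
  have := G.mul_mem (S.hyp.alt σ hσ) (mon_one_mem S hd hp)
  rw [mon_mul, mul_one] at this
  simpa using this

lemma T2_mem : T2 F ∈ G := S.hyp.alt _ (by decide)

lemma neg_one_mem : (-1 : GL (Fin 6) F) ∈ G := by
  rw [show (-1 : GL (Fin 6) F) = mon 1 fun _ => -1 by rw [← mon_one, neg_mon]; rfl]
  exact mon_one_mem S (fun _ => by simp) (by simp; norm_num)

omit S in
lemma neg_mem_iff (hn : (-1 : GL (Fin 6) F) ∈ G) {z : GL (Fin 6) F} : -z ∈ G ↔ z ∈ G := by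
  have e : -z = -1 * z := by simp
  rw [e]
  exact ⟨fun h => by have := G.mul_mem hn h; simpa using this, fun h => G.mul_mem hn h⟩

/-- Change of coordinates by a signed permutation. -/
lemma six_conj {π : Equiv.Perm (Fin 6)} {ε : Fin 6 → Fˣ} (hε : ∀ x, (ε x : F) * ε x = 1) :
    Six (G.comap (MulAut.conj (mon π ε : GL (Fin 6) F)).toMonoidHom) := by
  set Q : GL (Fin 6) F := mon π ε with hQ
  have hmem : ∀ g, g ∈ G.comap (MulAut.conj Q).toMonoidHom ↔ Q * g * Q⁻¹ ∈ G := fun g => Iff.rfl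
  have hiso : ∀ x y : Fin 6 → F, act Q x ⬝ᵥ act Q y = x ⬝ᵥ y := fun x y => by
    rw [dotProduct, dotProduct, ← Equiv.sum_comp π]
    refine Finset.sum_congr rfl fun k _ => ?_
    rw [hQ, act, act, mon_mulVec, mon_mulVec, Equiv.symm_apply_apply]
    linear_combination (x k * y k) * hε k
  have hback : ∀ g v, act g v = act Q⁻¹ (act (Q * g * Q⁻¹) (act Q v)) := fun g v => by
    rw [← act_mul, ← act_mul]
    congr 1
    group
  have hiso' : ∀ x y : Fin 6 → F, act Q⁻¹ x ⬝ᵥ act Q⁻¹ y = x ⬝ᵥ y := fun x y => by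
    rw [← hiso, inv_act, inv_act]
  refine ⟨⟨fun g hg x y => ?_, fun i j hij => ?_, fun σ hσ => ?_⟩, S.two, fun g hg => ?_,
    fun g hg a t ha => ?_⟩
  · rw [hback g x, hback g y, hiso', S.hyp.dot _ ((hmem g).1 hg), hiso]
  · rw [hmem, sgn, hQ, mon_inv, mon_mul, mon_mul]
    refine mon_mem S (by simp) (fun x => ?_) ?_
    · simp only [Units.val_mul, Units.val_inv_eq_inv_val]
      have h1 : ((ε (π⁻¹ x) : F))⁻¹ = ε (π⁻¹ x) := inv_eq_of_mul_eq_one_right (hε _)
      have h2 : ((dfun i (-1) j (-1) (π⁻¹ x) : Fˣ) : F) * ((dfun i (-1) j (-1) (π⁻¹ x) : Fˣ) : F) = 1 := by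
        by_cases k1 : π⁻¹ x = j
        · simp [dfun, k1]
        by_cases k2 : π⁻¹ x = i
        · simp [dfun, k2, hij]
        rw [dfun, Function.update_of_ne k1, Function.update_of_ne k2]
        simp
      rw [Equiv.Perm.one_apply, h1]
      linear_combination ((ε (π⁻¹ x) : F) ^ 2 * ((dfun i (-1) j (-1) (π⁻¹ x) : Fˣ) : F) ^ 2) * hε (π⁻¹ x) +
        ((dfun i (-1) j (-1) (π⁻¹ x) : Fˣ) : F) ^ 2 * hε (π⁻¹ x) + h2
    · simp only [Units.val_mul, Units.val_inv_eq_inv_val, Equiv.Perm.one_apply,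
        Finset.prod_mul_distrib, Finset.prod_inv_distrib]
      rw [Equiv.prod_comp π⁻¹ (fun y => (ε y : F)),
        Equiv.prod_comp π⁻¹ (fun y => ((dfun i (-1) j (-1) y : Fˣ) : F)), prod_dfun hij,
        mul_right_comm, mul_inv_cancel₀ (Finset.prod_ne_zero_iff.2 fun y _ => (ε y).ne_zero)]
      simp
  · rw [hmem, hQ, mon_inv, mon_mul, mon_mul]
    refine mon_mem S (by simp [hσ, mul_comm, ← mul_assoc]) (fun x => ?_) ?_
    · simp only [Units.val_mul, Units.val_inv_eq_inv_val, Pi.one_apply, mul_one]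
      have h1 : ((ε (π⁻¹ x) : F))⁻¹ = ε (π⁻¹ x) := inv_eq_of_mul_eq_one_right (hε _)
      rw [h1]
      linear_combination ((ε (σ (π⁻¹ x)) : F) ^ 2) * hε (π⁻¹ x) + hε (σ (π⁻¹ x))
    · simp only [Units.val_mul, Units.val_inv_eq_inv_val, Pi.one_apply, mul_one,
        Finset.prod_mul_distrib, Finset.prod_inv_distrib]
      rw [Equiv.prod_comp π⁻¹ (fun y => (ε y : F)), Equiv.prod_comp π⁻¹ (fun y => (ε (σ y) : F)),
        Equiv.prod_comp σ (fun y => (ε y : F)),
        mul_inv_cancel₀ (Finset.prod_ne_zero_iff.2 fun y _ => (ε y).ne_zero)]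
  · have := S.det _ ((hmem g).1 hg)
    rw [Units.val_mul, Units.val_mul, Matrix.det_units_conj] at this
    exact this
  · have hm : Mon (Q * g * Q⁻¹) := S.fixed _ ((hmem g).1 hg) (π a) t (by
      have e1 : act Q (E a) = (ε a : F) • E (π a) := by
        rw [hQ, act, E, mon_mulVec_single, mul_one, E, ← Pi.single_smul, smul_eq_mul, mul_one]
      have e2 : act (Q * g * Q⁻¹) (act Q (E a)) = t • act Q (E a) := by
        rw [act_mul, act_mul, act_inv, ha, act, mulVec_smul]
      rw [e1, act, mulVec_smul, smul_comm] at e2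
      exact smul_right_injective _ (ε a).ne_zero e2)
    have := Mon_mul (Mon_mul (Mon_inv (hQ ▸ mon_Mon π ε : Mon Q)) hm) (hQ ▸ mon_Mon π ε : Mon Q)
    rwa [show Q⁻¹ * (Q * g * Q⁻¹) * Q = g by group] at this

omit S in
lemma conj_eq {σ π τ : Equiv.Perm (Fin 6)} {d ε e : Fin 6 → Fˣ}
    (h : ∀ i, σ (π i) = π (τ i) ∧ d (π i) * ε i = ε (τ i) * e i) :
    (mon σ d : GL (Fin 6) F) = mon π ε * mon τ e * (mon π ε)⁻¹ := by
  rw [eq_mul_inv_iff_mul_eq, mon_mul, mon_mul,
    show σ * π = π * τ from Equiv.ext fun i => (h i).1,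
    show (fun y => d (π y) * ε y) = fun y => ε (τ y) * e y from funext fun i => (h i).2]

omit S in
open scoped Classical in
lemma prod_signs {d : Fin 6 → Fˣ} (hd1 : ∀ x, d x = 1 ∨ d x = -1) (T : Finset (Fin 6)) :
    ∏ x ∈ T, (d x : F) = (-1) ^ (T.filter fun x => d x ≠ 1).card := by
  classical
  rw [← Finset.prod_const, Finset.prod_filter]
  refine Finset.prod_congr rfl fun x _ => ?_
  by_cases h : d x = 1
  · simp [h]
  · rw [if_pos h, (hd1 x).resolve_left h]
    simp

/-- A monomial involution is, up to sign, a change of signs or one of the two standard elements. -/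
lemma classify {z : GL (Fin 6) F} (hz : z ∈ G) (hm : Mon z) (hsq : z * z = 1) :
    ((z = 1 ∨ z = -1) ∨ ∃ a b, a ≠ b ∧ (z = sgn a b ∨ z = -(sgn (F := F) a b))) ∨
      ∃ (π : Equiv.Perm (Fin 6)) (ε : Fin 6 → Fˣ), (∀ x, (ε x : F) * ε x = 1) ∧
        ((z = mon π ε * T2 F * (mon π ε)⁻¹ ∨ -z = mon π ε * T2 F * (mon π ε)⁻¹) ∨
          (z = mon π ε * T3 F * (mon π ε)⁻¹ ∨ -z = mon π ε * T3 F * (mon π ε)⁻¹)) := by
  classical
  obtain ⟨σ, d, rfl⟩ := exists_mon_of_Mon hm
  have hd := fun x => mon_data S.hyp hz x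
  have hd1 : ∀ x, d x = 1 ∨ d x = -1 := fun x => by
    rcases mul_self_eq_one_iff.1 (hd x) with e | e
    · exact Or.inl (Units.ext e)
    · exact Or.inr (Units.ext (by simpa using e))
  have hu : ∀ x, d x * d x = 1 := fun x => Units.ext (by simpa using hd x)
  have hσσ : ∀ x, σ (σ x) = x := fun x => (mon_inv_data S.hyp hsq x).1
  have hdσ : ∀ x, d (σ x) = d x := fun x => Units.ext (by
    have h1 := (mon_inv_data S.hyp hsq x).2
    linear_combination (d x : F) * h1 - (d (σ x) : F) * hd x)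
  have hdet := S.det _ hz
  rw [det_mon] at hdet
  have two2 : ¬ ((1 : F) = -1) := fun e => S.two (by linear_combination e)
  by_cases h0 : ∀ x, σ x = x
  · left
    have hσ1 : σ = 1 := Equiv.ext h0
    subst hσ1
    simp only [Equiv.Perm.sign_one, Units.val_one, Int.cast_one, one_mul] at hdet
    set T := Finset.univ.filter fun x => d x ≠ 1 with hT
    have hmemT : ∀ x, x ∈ T ↔ d x ≠ 1 := fun x => by simp [hT]
    rw [prod_signs hd1, ← hT] at hdet
    have hev : Even T.card := by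
      rw [← Nat.not_odd_iff_even]
      intro ho
      rw [ho.neg_one_pow] at hdet
      exact two2 hdet.symm
    have hle : T.card ≤ 6 := (Finset.card_le_univ _).trans (le_of_eq (Fintype.card_fin 6))
    have h1f : T.card = 0 → mon 1 d = 1 := fun h => by
      rw [show d = 1 from funext fun x => by_contra fun hx =>
        Finset.notMem_empty x (Finset.card_eq_zero.1 h ▸ (hmemT x).2 hx), mon_one]
    have h6f : T.card = 6 → mon 1 d = -1 := fun h => by
      rw [show d = fun _ => -1 from funext fun x => (hd1 x).resolve_left ((hmemT x).1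
        ((Finset.card_eq_iff_eq_univ _).1 (h.trans (Fintype.card_fin 6).symm) ▸ Finset.mem_univ x)),
        ← mon_one, neg_mon]
      rfl
    have hsgn : ∀ a b : Fin 6, a ≠ b → ∀ e : Fin 6 → Fˣ,
        (∀ x, e x = if x = a ∨ x = b then -1 else 1) → mon 1 e = sgn a b := fun a b hab e he => by
      rw [sgn]
      congr 1
      funext x
      rw [he]
      by_cases k1 : x = b
      · subst k1; simp [dfun]
      by_cases k2 : x = a
      · subst k2; simp [dfun, k1]
      simp [dfun, k1, k2]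
    obtain h | h | h | h : T.card = 0 ∨ T.card = 2 ∨ T.card = 4 ∨ T.card = 6 := by
      obtain ⟨r, hr⟩ := hev; omega
    · exact Or.inl (Or.inl (h1f h))
    · obtain ⟨a, b, hab, hs⟩ := Finset.card_eq_two.1 h
      refine Or.inr ⟨a, b, hab, Or.inl (hsgn a b hab d fun x => ?_)⟩
      split_ifs with hx
      · exact (hd1 x).resolve_left ((hmemT x).1 (by rw [hs]; simpa using hx))
      · exact by_contra fun k => hx (by simpa [hs] using (hmemT x).2 k)
    · obtain ⟨a, b, hab, hs⟩ := Finset.card_eq_two.1 (show Tᶜ.card = 2 by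
        rw [Finset.card_compl, h]; rfl)
      refine Or.inr ⟨a, b, hab, Or.inr ?_⟩
      rw [← hsgn a b hab (fun x => -d x) fun x => ?_, neg_mon]
      · simp
      split_ifs with hx
      · rw [by_contra fun k => Finset.mem_compl.1 (show x ∈ Tᶜ by rw [hs]; simpa using hx)
          ((hmemT x).2 k)]
      · rw [(hd1 x).resolve_left ((hmemT x).1 (by_contra fun k => hx (by
          simpa [hs] using Finset.mem_compl.2 k))), neg_neg]
    · exact Or.inl (Or.inr (h6f h))
  right
  push Not at h0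
  obtain ⟨a, ha⟩ := h0
  set b := σ a with hb
  have hba : σ b = a := hσσ a
  by_cases h1 : ∀ x, x ≠ a → x ≠ b → σ x = x
  · -- one transposition
    have hσs : σ = Equiv.swap a b := Equiv.ext fun x => by
      rcases eq_or_ne x a with rfl | k1
      · rw [Equiv.swap_apply_left]
      rcases eq_or_ne x b with rfl | k2
      · rw [Equiv.swap_apply_right, hba]
      rw [Equiv.swap_apply_of_ne_of_ne k1 k2, h1 x k1 k2]
    rw [hσs, Equiv.Perm.sign_swap (Ne.symm ha)] at hdet
    set U : Finset (Fin 6) := {a, b}ᶜ with hU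
    have hsp : (∏ x ∈ ({a, b} : Finset (Fin 6)), (d x : F)) * ∏ x ∈ U, (d x : F) = ∏ x, (d x : F) :=
      Finset.prod_mul_prod_compl _ _
    rw [Finset.prod_pair (Ne.symm ha), hdσ, hd, one_mul, prod_signs hd1] at hsp
    rw [← hsp] at hdet
    set T := U.filter fun x => d x ≠ 1 with hT
    have hodd : Odd T.card := by
      rw [← Nat.not_even_iff_odd]
      intro he
      rw [he.neg_one_pow] at hdet
      simp at hdet
      exact two2 hdet.symm
    have hU4 : U.card = 4 := by
      rw [hU, Finset.card_compl, Finset.card_pair (Ne.symm ha)]; rfl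
    have hle : T.card ≤ 4 := hU4 ▸ Finset.card_filter_le _ _
    have build : ∀ (d' : Fin 6 → Fˣ) (c : Fin 6), c ∈ U → d' b = d' a → d' a * d' a = 1 → d' c = -1 →
        (∀ x ∈ U, x ≠ c → d' x = 1) → ∃ (π : Equiv.Perm (Fin 6)) (ε : Fin 6 → Fˣ),
          (∀ x, (ε x : F) * ε x = 1) ∧ mon σ d' = mon π ε * T3 F * (mon π ε)⁻¹ := by
      intro d' c hc hdb hsq' hdc hrest
      have hc' : c ≠ a ∧ c ≠ b := by simpa [hU] using hc
      obtain ⟨x, hx⟩ := exists_fresh 3 {a, b, c} Finset.card_le_three (by simp)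
      obtain ⟨y, hy⟩ := exists_fresh 4 {a, b, c, x} Finset.card_le_four (by simp)
      obtain ⟨w, hw⟩ := exists_fresh 5 {a, b, c, x, y} Finset.card_le_five (by simp)
      simp only [Finset.mem_insert, Finset.mem_singleton, not_or] at hx hy hw
      have hD : Dist a b c x y w := ⟨Ne.symm ha, hc'.1.symm, Ne.symm hx.1, Ne.symm hy.1, Ne.symm hw.1,
        hc'.2.symm, Ne.symm hx.2.1, Ne.symm hy.2.1, Ne.symm hw.2.1, Ne.symm hx.2.2, Ne.symm hy.2.2.1,
        Ne.symm hw.2.2.1, Ne.symm hy.2.2.2, Ne.symm hw.2.2.2.1, Ne.symm hw.2.2.2.2⟩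
      have hsa : (d' a : F) * d' a = 1 := by rw [← Units.val_mul, hsq', Units.val_one]
      refine ⟨hD.perm, ![1, d' a, 1, 1, 1, 1], fun i => ?_, conj_eq fun i => ?_⟩
      · fin_cases i <;> simp [hsa]
      · fin_cases i <;> simp [Dist.perm_apply, hb.symm, hba, hdb, hdc, h1 _ hc'.1 hc'.2,
          h1 _ hx.1 hx.2.1, h1 _ hy.1 hy.2.1, h1 _ hw.1 hw.2.1, hsq',
          hrest x (by simp [hU, hx.1, hx.2.1]) hx.2.2, hrest y (by simp [hU, hy.1, hy.2.1]) hy.2.2.1,
          hrest w (by simp [hU, hw.1, hw.2.1]) hw.2.2.1, Equiv.swap_apply_def]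
    obtain h | h : T.card = 1 ∨ T.card = 3 := by obtain ⟨r, hr⟩ := hodd; omega
    · obtain ⟨c, hc⟩ := Finset.card_eq_one.1 h
      have hcT : c ∈ T := hc ▸ Finset.mem_singleton_self c
      rw [hT, Finset.mem_filter] at hcT
      obtain ⟨π, ε, hε, e⟩ := build d c hcT.1 (hdσ a) (hu a) ((hd1 c).resolve_left hcT.2)
        fun x hx hxc => by_contra fun k => hxc (Finset.mem_singleton.1
          (hc ▸ Finset.mem_filter.2 ⟨hx, k⟩))
      exact ⟨π, ε, hε, Or.inr (Or.inl e)⟩
    · obtain ⟨c, hc⟩ := Finset.card_eq_one.1 (show (U \ T).card = 1 by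
        rw [Finset.card_sdiff_of_subset (Finset.filter_subset _ _), h, hU4])
      have hcU : c ∈ U ∧ c ∉ T := Finset.mem_sdiff.1 (hc ▸ Finset.mem_singleton_self c)
      obtain ⟨π, ε, hε, e⟩ := build (fun x => -d x) c hcU.1 (by rw [hdσ a]) (by rw [neg_mul_neg, hu])
        (by rw [by_contra fun k => hcU.2 (Finset.mem_filter.2 ⟨hcU.1, k⟩)])
        fun x hx hxc => by
          rw [(hd1 x).resolve_left fun k => hxc (Finset.mem_singleton.1 (hc ▸ Finset.mem_sdiff.2
            ⟨hx, fun k' => (Finset.mem_filter.1 k').2 k⟩)), neg_neg]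
      exact ⟨π, ε, hε, Or.inr (Or.inr (by rw [neg_mon]; exact e))⟩
  push Not at h1
  obtain ⟨c, hca, hcb, hc⟩ := h1
  set c' := σ c with hc'
  have hc'c : σ c' = c := hσσ c
  have hc'a : c' ≠ a := fun e => hcb (by rw [hb, ← e, hc', hσσ])
  have hc'b : c' ≠ b := fun e => hca (σ.injective e)
  obtain ⟨x, hx⟩ := exists_fresh 4 {a, b, c, c'} Finset.card_le_four (by simp)
  obtain ⟨y, hy⟩ := exists_fresh 5 {a, b, c, c', x} Finset.card_le_five (by simp)
  simp only [Finset.mem_insert, Finset.mem_singleton, not_or] at hx hy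
  have hD : Dist a b c c' x y := ⟨Ne.symm ha, hca.symm, hc'a.symm, Ne.symm hx.1, Ne.symm hy.1,
    hcb.symm, hc'b.symm, Ne.symm hx.2.1, Ne.symm hy.2.1, Ne.symm hc, Ne.symm hx.2.2.1,
    Ne.symm hy.2.2.1, Ne.symm hx.2.2.2, Ne.symm hy.2.2.2.1, Ne.symm hy.2.2.2.2⟩
  have hσx : σ x = x ∨ σ x = y := by
    rcases hD.univ (σ x) with e | e | e | e | e | e
    · exact absurd (by rw [← hσσ x, e]) hx.2.1
    · exact absurd (σ.injective e) hx.1
    · exact absurd (by rw [← hσσ x, e]) hx.2.2.2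
    · exact absurd (σ.injective e) hx.2.2.1
    · exact Or.inl e
    · exact Or.inr e
  rcases hσx with hσx | hσx
  swap
  · -- three transpositions: determinant minus one
    exfalso
    have hσy : σ y = x := by rw [← hσx, hσσ]
    rw [hD.prod_eq, hdσ, hdσ, show d y = d x by rw [← hσx, hdσ]] at hdet
    have hs : σ = hD.perm * (Equiv.swap 0 1 * Equiv.swap 2 3 * Equiv.swap 4 5) * hD.perm⁻¹ := by
      rw [eq_mul_inv_iff_mul_eq]
      refine Equiv.ext fun i => ?_
      fin_cases i <;> simp [Dist.perm_apply, hba, hb.symm, hc'.symm, hc'c, hσσ, hσx, hσy, Equiv.swap_apply_def]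
    rw [hs, Equiv.Perm.sign_mul, Equiv.Perm.sign_mul, Equiv.Perm.sign_inv,
      show Equiv.Perm.sign (Equiv.swap (0 : Fin 6) 1 * Equiv.swap 2 3 * Equiv.swap 4 5) = -1 by decide,
      mul_right_comm, Int.units_mul_self, one_mul] at hdet
    simp [mul_assoc, hd] at hdet
    exact two2 hdet.symm
  have hσy : σ y = y := by
    rcases hD.univ (σ y) with e | e | e | e | e | e
    · exact absurd (by rw [← hσσ y, e]) hy.2.1
    · exact absurd (σ.injective e) hy.1
    · exact absurd (by rw [← hσσ y, e]) hy.2.2.2.1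
    · exact absurd (σ.injective e) hy.2.2.1
    · exact absurd (σ.injective (e.trans hσx.symm)) hy.2.2.2.2
    · exact e
  have hxy : d y = d x := by
    rw [hD.prod_eq, hdσ, hdσ] at hdet
    have hs : σ = hD.perm * (Equiv.swap 0 1 * Equiv.swap 2 3) * hD.perm⁻¹ := by
      rw [eq_mul_inv_iff_mul_eq]
      refine Equiv.ext fun i => ?_
      fin_cases i <;> simp [Dist.perm_apply, hba, hb.symm, hc'.symm, hc'c, hσσ, hσx, hσy, Equiv.swap_apply_def]
    rw [hs, Equiv.Perm.sign_mul, Equiv.Perm.sign_mul, Equiv.Perm.sign_inv,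
      show Equiv.Perm.sign (Equiv.swap (0 : Fin 6) 1 * Equiv.swap 2 3) = 1 by decide,
      mul_one, Int.units_mul_self] at hdet
    simp [mul_assoc, hd] at hdet
    refine Units.ext ?_
    linear_combination (d x : F) * hdet - (d y : F) * hd x
  have build : ∀ d' : Fin 6 → Fˣ, d' b = d' a → d' c' = d' c → d' a * d' a = 1 → d' c * d' c = 1 →
      d' x = 1 → d' y = 1 → ∃ (π : Equiv.Perm (Fin 6)) (ε : Fin 6 → Fˣ),
        (∀ x, (ε x : F) * ε x = 1) ∧ mon σ d' = mon π ε * T2 F * (mon π ε)⁻¹ := by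
    intro d' hb' hcc hsa hsc hx1 hy1
    refine ⟨hD.perm, ![1, d' a, 1, d' c, 1, 1], fun i => ?_, conj_eq fun i => ?_⟩
    · fin_cases i <;> simp [← Units.val_mul, hsa, hsc]
    · fin_cases i <;> simp [Dist.perm_apply, hba, hb.symm, hc'.symm, hc'c, hσσ, hσx, hσy, hb', hcc, hsa,
        hsc, hx1, hy1, Equiv.swap_apply_def]
  rcases hd1 x with e | e
  · obtain ⟨π, ε, hε, h⟩ := build d (hdσ a) (hdσ c) (hu a) (hu c) e (hxy.trans e)
    exact ⟨π, ε, hε, Or.inl (Or.inl h)⟩
  · obtain ⟨π, ε, hε, h⟩ := build (fun i => -d i) (by rw [hdσ a]) (by rw [hdσ c])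
      (by rw [neg_mul_neg, hu]) (by rw [neg_mul_neg, hu]) (by rw [e, neg_neg])
      (by rw [hxy, e, neg_neg])
    exact ⟨π, ε, hε, Or.inl (Or.inr (by rw [neg_mon]; exact h))⟩

end CfsgLib.ClassicalMax.OmSix
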