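/-
Six coordinates: a change of two signs is not conjugate to a transposition type involution; hence
the conjugates of it by non-monomial elements are not monomial. The centraliser of the transposition
type.
-/
import Cfsg.Agent.Lib.ClassicalMax.OrthSix.Types
set_option autoImplicit false
set_option linter.unusedSectionVars false

namespace CfsgLib.ClassicalMax.OmSix

open Matrix Module
open CfsgLib.ClassicalMax.MonG CfsgLib.ClassicalMax.OmL

variable {F : Type*} [Field F]

lemma dot_six (u v : Fin 6 → F) :
    u ⬝ᵥ v = u 0 * v 0 + u 1 * v 1 + u 2 * v 2 + u 3 * v 3 + u 4 * v 4 + u 5 * v 5 := by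
  rw [dotProduct, Fin.sum_univ_six]

lemma half_zero (h2 : (2 : F) ≠ 0) {x : F} (h : x = -x) : x = 0 :=
  (mul_eq_zero.1 (show (2 : F) * x = 0 by linear_combination h)).resolve_left h2

lemma sgn_E {a b : Fin 6} (hab : a ≠ b) (j : Fin 6) :
    act (sgn (F := F) a b) (E j) = if j = a ∨ j = b then -E j else E j := by
  funext l
  rw [sgn_apply hab]
  by_cases hl : l = j
  · subst hl
    split_ifs <;> simp [E]
  · split_ifs <;> simp [E, hl]

variable {G : Subgroup (GL (Fin 6) F)} (S : Six G)

include S

lemma sgn_E_col {g z : GL (Fin 6) F} {a b : Fin 6} (hab : a ≠ b) (h : g * sgn a b = z * g)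
    (j : Fin 6) : act z (act g (E j)) = if j = a ∨ j = b then -act g (E j) else act g (E j) := by
  rw [← act_mul, ← h, act_mul, sgn_E hab]
  split_ifs
  · exact mulVec_neg _ _
  · rfl

/-- The images of the columns under an element commuting with the conjugate. -/
lemma perm_cols_comm {g z n : GL (Fin 6) F} (hg : g ∈ G) (hn : n ∈ G) {a b : Fin 6} (hab : a ≠ b)
    (h : g * sgn a b = z * g) (hcom : n * z = z * n) (q : Fin 6) :
    act n (act g (E q)) ⬝ᵥ act g (E q) = 0 ∨ act n (act g (E q)) = act g (E q) ∨
      act n (act g (E q)) = -act g (E q) := by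
  refine perm_cols S hg hn (mon_of_comm S (G.mul_mem (G.mul_mem (G.inv_mem hg) hn) hg) hab ?_) q
  have hz : z = g * sgn a b * g⁻¹ := by rw [h]; group
  rw [show g⁻¹ * n * g * sgn a b = g⁻¹ * (n * z) * g by rw [hz]; group, hcom, hz]
  group

/-- Some column avoiding the pair meets the coordinate `x`. -/
lemma exists_col {g : GL (Fin 6) F} {a b x : Fin 6} (hga : act g (E a) x = 0)
    (hgb : act g (E b) x = 0) : ∃ j, j ≠ a ∧ j ≠ b ∧ act g (E j) x ≠ 0 := by
  by_contra hcon
  push Not at hcon
  have hrow : ∀ i, (g : Matrix (Fin 6) (Fin 6) F) x i = 0 := fun i => by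
    have : act g (E i) x = 0 := by
      rcases eq_or_ne i a with rfl | h1
      · exact hga
      rcases eq_or_ne i b with rfl | h3
      · exact hgb
      exact hcon i h1 h3
    rwa [act, E, col_eq] at this
  have hone := congrFun (inv_act g (E x)) x
  rw [act, mulVec, dotProduct, Finset.sum_eq_zero (fun i _ => by rw [hrow i, zero_mul])] at hone
  simp [E] at hone

lemma no_fusion_T2 {g : GL (Fin 6) F} (hg : g ∈ G) {a b : Fin 6} (hab : a ≠ b)
    (h : g * sgn a b = T2 F * g) : False := by
  have h2 := S.two
  set v := act g (E a) with hvdef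
  have hv : act (T2 F) v = -v := by rw [hvdef, sgn_E_col S hab h a, if_pos (Or.inl rfl)]
  have hw : act (T2 F) (act g (E b)) = -act g (E b) := by rw [sgn_E_col S hab h b, if_pos (Or.inr rfl)]
  rw [T2_apply] at hv hw
  have hv45 : v 4 = 0 ∧ v 5 = 0 :=
    ⟨half_zero h2 (by simpa using congrFun hv 4), half_zero h2 (by simpa using congrFun hv 5)⟩
  have hv1 : v 1 = -v 0 := by simpa using congrFun hv 0
  have hv3 : v 3 = -v 2 := by simpa using congrFun hv 2
  have hw4 : act g (E b) 4 = 0 := half_zero h2 (by simpa using congrFun hw 4)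
  -- the other columns
  have hf : ∀ j, j ≠ a → j ≠ b →
      act g (E j) 1 = act g (E j) 0 ∧ act g (E j) 3 = act g (E j) 2 ∧
        (act g (E j) 4 ≠ 0 → act g (E j) 0 = 0 ∧ act g (E j) 2 = 0) := by
    intro j hja hjb
    set f := act g (E j) with hfdef
    have hf : act (T2 F) f = f := by rw [hfdef, sgn_E_col S hab h j, if_neg (by simp [hja, hjb])]
    rw [T2_apply] at hf
    have f1 : f 1 = f 0 := by simpa using congrFun hf 0
    have f3 : f 3 = f 2 := by simpa using congrFun hf 2
    refine ⟨f1, f3, fun hp => ?_⟩
    have hN := colnorm S.hyp hg j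
    rw [← hfdef, dot_six, f1, f3] at hN
    have k : ∀ k l : Fin 6, k ≠ l → sgn k l * T2 F = T2 F * sgn k l →
        2 * (f k * f k + f l * f l) = 1 ∨ (f k = 0 ∧ f l = 0) ∨ (∀ x, x ≠ k → x ≠ l → f x = 0) := by
      intro k l hkl hcom
      rcases perm_cols_comm S hg (S.hyp.sgn k l hkl) hab h hcom j with e | e | e
      · left
        rw [sgn_dot hkl, colnorm S.hyp hg] at e
        linear_combination -e
      · refine Or.inr (Or.inl ⟨half_zero h2 ?_, half_zero h2 ?_⟩)
        · have := congrFun e k
          rw [sgn_apply hkl, if_pos (Or.inl rfl)] at this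
          exact this.symm
        · have := congrFun e l
          rw [sgn_apply hkl, if_pos (Or.inr rfl)] at this
          exact this.symm
      · refine Or.inr (Or.inr fun x h1 h3 => half_zero h2 ?_)
        have := congrFun e x
        rw [sgn_apply hkl, if_neg (by simp [h1, h3])] at this
        exact this
    have hc : ∀ k l : Fin 6, k ≠ l → (∀ v : Fin 6 → F, act (sgn k l) (![v 1, v 0, v 3, v 2, v 4, v 5])
        = ![act (sgn k l) v 1, act (sgn k l) v 0, act (sgn k l) v 3, act (sgn k l) v 2,
          act (sgn k l) v 4, act (sgn k l) v 5]) → sgn k l * T2 F = T2 F * sgn k l :=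
      fun k l _ he => gl_ext_mulVec fun v => by
        rw [gl_mulVec_mul, gl_mulVec_mul]
        change act (sgn k l) (act (T2 F) v) = act (T2 F) (act (sgn k l) v)
        rw [T2_apply, T2_apply, he]
    have c01 := hc 0 1 (by decide) fun v => by
      funext i; simp only [sgn_apply (show (0 : Fin 6) ≠ 1 by decide)]; fin_cases i <;> simp
    have c23 := hc 2 3 (by decide) fun v => by
      funext i; simp only [sgn_apply (show (2 : Fin 6) ≠ 3 by decide)]; fin_cases i <;> simp
    have c45 := hc 4 5 (by decide) fun v => by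
      funext i; simp only [sgn_apply (show (4 : Fin 6) ≠ 5 by decide)]; fin_cases i <;> simp
    have p01 := k 0 1 (by decide) c01
    have p23 := k 2 3 (by decide) c23
    have p45 := k 4 5 (by decide) c45
    set σ : Equiv.Perm (Fin 6) := Equiv.swap 0 2 * Equiv.swap 1 3 with hσ
    have himg : act (mon σ 1) f = ![f 2, f 3, f 0, f 1, f 4, f 5] := funext fun i => by
      rw [act, mon_mulVec, hσ, Equiv.Perm.mul_def]
      fin_cases i <;> simp [Equiv.swap_apply_def]
    have csw : mon σ 1 * T2 F = T2 F * mon σ 1 := by
      rw [T2, mon_mul, mon_mul, show σ * (Equiv.swap 0 1 * Equiv.swap 2 3)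
        = Equiv.swap 0 1 * Equiv.swap 2 3 * σ by rw [hσ]; decide]
      simp
    have hsw := perm_cols_comm S hg (S.hyp.alt σ (by rw [hσ]; decide)) hab h csw j
    rw [← hfdef, himg] at hsw
    rcases hsw with e | e | e
    · rw [dot_six] at e
      simp only [Matrix.cons_val, f1, f3] at e
      by_cases h0 : f 0 = 0
      · refine ⟨h0, by_contra fun hy => ?_⟩
        rcases p23 with q | q | q
        · rw [f3] at q
          exact one_ne_zero (α := F) (by linear_combination 2 * e - 2 * hN + q + (4 * f 0 - 8 * f 2) * h0)
        · exact hy q.1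
        · exact hp (q 4 (by decide) (by decide))
      · exfalso
        rcases p01 with q | q | q
        · by_cases hy : f 2 = 0
          · rw [f1] at q
            exact one_ne_zero (α := F) (by linear_combination 2 * e - 2 * hN + q + (4 * f 2 - 8 * f 0) * hy)
          · rcases p23 with q' | q' | q'
            · rw [f1] at q
              rw [f3] at q'
              rcases p45 with r | r | r
              · exact one_ne_zero (α := F) (by linear_combination 2 * hN - q - q' - r)
              · exact hp r.1
              · exact h0 (r 0 (by decide) (by decide))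
            · exact hy q'.1
            · exact hp (q' 4 (by decide) (by decide))
        · exact h0 q.1
        · exact hp (q 4 (by decide) (by decide))
    · have e0 : f 2 = f 0 := by simpa using congrFun e 0
      by_cases h0 : f 0 = 0
      · exact ⟨h0, e0.trans h0⟩
      exfalso
      rcases p01 with q | q | q
      · rcases p23 with q' | q' | q'
        · rw [f1] at q
          rw [f3] at q'
          rcases p45 with r | r | r
          · exact one_ne_zero (α := F) (by linear_combination 2 * hN - q - q' - r)
          · exact hp r.1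
          · exact h0 (r 0 (by decide) (by decide))
        · exact h0 (e0 ▸ q'.1)
        · exact h0 (q' 0 (by decide) (by decide))
      · exact h0 q.1
      · exact hp (q 4 (by decide) (by decide))
    · exact absurd (half_zero h2 (by simpa using congrFun e 4)) hp
  obtain ⟨j, hja, hjb, hj4⟩ := exists_col S (g := g) (a := a) (b := b) (x := 4) hv45.1 hw4
  obtain ⟨f1, f3, hz⟩ := hf j hja hjb
  obtain ⟨z0, z2⟩ := hz hj4
  have huz : ∀ x : Fin 6, x ≠ 4 → x ≠ 5 → act g (E j) x = 0 := by
    intro x h4 h5
    fin_cases x
    · exact z0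
    · exact f1.trans z0
    · exact z2
    · exact f3.trans z2
    · exact absurd rfl h4
    · exact absurd rfl h5
  by_cases h5 : act g (E j) 5 = 0
  · -- monomial: the column at `a` is not an axis
    have hm := mon_of_col S hg (j := j) (a := 4) (t := act g (E j) 4) (funext fun x => by
      by_cases k1 : x = 4
      · subst k1; simp [E]
      by_cases k2 : x = 5
      · subst k2; simp [E, h5]
      simp [E, k1, huz x k1 k2])
    have hn := colnorm S.hyp hg a
    rw [← hvdef, dot_six, hv1, hv3, hv45.1, hv45.2] at hn
    rcases Mon_col hm a (show (0 : Fin 6) ≠ 1 by decide) with e | e <;>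
      rcases Mon_col hm a (show (2 : Fin 6) ≠ 3 by decide) with e' | e' <;>
      simp only [← hvdef, hv1, hv3, neg_eq_zero] at e e' <;>
      exact zero_ne_one (by rw [← hn, e, e']; ring)
  -- the signs at `0, 1` on the column at `a`
  have c01 : sgn 0 1 * T2 F = T2 F * sgn 0 1 := gl_ext_mulVec fun v => by
    rw [gl_mulVec_mul, gl_mulVec_mul]
    change act (sgn 0 1) (act (T2 F) v) = act (T2 F) (act (sgn 0 1) v)
    funext i
    rw [T2_apply, T2_apply]
    simp only [sgn_apply (show (0 : Fin 6) ≠ 1 by decide)]
    fin_cases i <;> simp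
  have zero45 : ∀ x, x = 4 ∨ x = 5 → v x = 0 := by
    rintro x (rfl | rfl)
    exacts [hv45.1, hv45.2]
  rcases perm_cols_comm S hg (S.hyp.sgn 0 1 (by decide)) hab h c01 a with e | e | e
  · rw [sgn_dot (by decide), colnorm S.hyp hg, ← hvdef, hv1] at e
    have hn := colnorm S.hyp hg a
    rw [← hvdef, dot_six, hv1, hv3, hv45.1, hv45.2] at hn
    refine half_pair S hg (p := a) (q := j) (show (4 : Fin 6) ≠ 5 by decide) huz hj4 h5
      (zero45 4 (Or.inl rfl)) (zero45 5 (Or.inr rfl)) fun x h4 h5' => ?_
    rw [← hvdef]
    fin_cases x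
    · show 4 * (v 0 * v 0) = 1
      linear_combination -e
    · simp [hv1]; linear_combination -e
    · show 4 * (v 2 * v 2) = 1
      linear_combination 2 * hn + e
    · simp [hv3]; linear_combination 2 * hn + e
    · exact absurd rfl h4
    · exact absurd rfl h5'
  · have e0 : v 0 = 0 := half_zero h2 (by
      have := congrFun e 0
      rw [sgn_apply (by decide), if_pos (Or.inl rfl), ← hvdef] at this
      exact this.symm)
    have hn := colnorm S.hyp hg a
    have v2 : v 2 ≠ 0 := fun e2 => one_ne_zero (α := F) (by
      rw [← hn, ← hvdef, dot_six, hv1, hv3, hv45.1, hv45.2, e0, e2]; ring)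
    refine pair_pair S hg (p := j) (q := a) (a := 2) (b := 3) (m := 4) (m' := 5) (by decide)
      (by decide) (by decide) (by decide) (by decide) huz (fun x h2' h3' => ?_) v2
      (by rw [← hvdef, hv3]; exact neg_ne_zero.2 v2)
    rw [← hvdef]
    fin_cases x
    · exact e0
    · simp [hv1, e0]
    · exact absurd rfl h2'
    · exact absurd rfl h3'
    · exact hv45.1
    · exact hv45.2
  · have e2 : v 2 = 0 := half_zero h2 (by
      have := congrFun e 2
      rw [sgn_apply (by decide), if_neg (by decide), ← hvdef] at this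
      exact this)
    have hn := colnorm S.hyp hg a
    have v0 : v 0 ≠ 0 := fun e0 => one_ne_zero (α := F) (by
      rw [← hn, ← hvdef, dot_six, hv1, hv3, hv45.1, hv45.2, e0, e2]; ring)
    refine pair_pair S hg (p := j) (q := a) (a := 0) (b := 1) (m := 4) (m' := 5) (by decide)
      (by decide) (by decide) (by decide) (by decide) huz (fun x h0' h1' => ?_) v0
      (by rw [← hvdef, hv1]; exact neg_ne_zero.2 v0)
    rw [← hvdef]
    fin_cases x
    · exact absurd rfl h0'
    · exact absurd rfl h1'
    · exact e2
    · simp [hv3, e2]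
    · exact hv45.1
    · exact hv45.2

lemma no_fusion_T3 {g : GL (Fin 6) F} (hg : g ∈ G) {a b : Fin 6} (hab : a ≠ b)
    (h : g * sgn a b = T3 F * g) : False := by
  have h2 := S.two
  have neg : ∀ v : Fin 6 → F, act (T3 F) v = -v → v 1 = -v 0 ∧ v 3 = 0 ∧ v 4 = 0 ∧ v 5 = 0 := by
    intro v hv
    rw [T3_apply] at hv
    exact ⟨by simpa using congrFun hv 0, half_zero h2 (by simpa using congrFun hv 3),
      half_zero h2 (by simpa using congrFun hv 4), half_zero h2 (by simpa using congrFun hv 5)⟩
  obtain ⟨a1, a3, a4, a5⟩ := neg (act g (E a)) (by rw [sgn_E_col S hab h a, if_pos (Or.inl rfl)])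
  obtain ⟨b1, b3, b4, b5⟩ := neg (act g (E b)) (by rw [sgn_E_col S hab h b, if_pos (Or.inr rfl)])
  -- the element is not monomial
  have hnm : ¬ Mon g := by
    intro hm
    have ha := colnorm S.hyp hg a
    have hb := colnorm S.hyp hg b
    have ho := colorth S.hyp hg hab
    rw [dot_six, a1, a3, a4, a5] at ha
    rw [dot_six, b1, b3, b4, b5] at hb
    rw [dot_six, a1, a3, a4, a5, b1, b3, b4, b5] at ho
    have z : ∀ j, act g (E j) 1 = -act g (E j) 0 → act g (E j) 0 = 0 := fun j e1 => by
      rcases Mon_col hm j (show (0 : Fin 6) ≠ 1 by decide) with e | e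
      · exact e
      · rw [e1, neg_eq_zero] at e; exact e
    have za := z a a1
    have zb := z b b1
    rw [za] at ha ho
    rw [zb] at hb ho
    exact one_ne_zero (α := F) (by
      linear_combination (act g (E a) 2 * act g (E b) 2) * ho - hb - act g (E b) 2 * act g (E b) 2 * ha)
  obtain ⟨j, hja, hjb, hp⟩ := exists_col S (g := g) (a := a) (b := b) (x := 3) a3 b3
  set f := act g (E j) with hfdef
  have hf : act (T3 F) f = f := by rw [hfdef, sgn_E_col S hab h j, if_neg (by simp [hja, hjb])]
  rw [T3_apply] at hf
  have f1 : f 1 = f 0 := by simpa using congrFun hf 0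
  have f2 : f 2 = 0 := half_zero h2 (by simpa using (congrFun hf 2).symm)
  have hN := colnorm S.hyp hg j
  rw [← hfdef, dot_six, f1, f2] at hN
  have k : ∀ k l : Fin 6, k ≠ l → (∀ x, x = k ∨ x = l → Equiv.swap (0 : Fin 6) 1 x = x ∨
      (x = 0 ∧ l = 1 ∧ k = 0) ∨ (x = 1 ∧ l = 1 ∧ k = 0)) →
      2 * (f k * f k + f l * f l) = 1 ∨ (f k = 0 ∧ f l = 0) ∨ (∀ x, x ≠ k → x ≠ l → f x = 0) := by
    intro k l hkl hfix
    have hcom : sgn k l * T3 F = T3 F * sgn k l := by
      rw [sgn, T3, mon_mul, mon_mul, one_mul, mul_one]
      congr 1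
      funext y
      rw [mul_comm, Equiv.Perm.one_apply]
      congr 1
      by_cases hy : y = 0 ∨ y = 1
      · rcases hy with rfl | rfl
        · by_cases h' : (0 : Fin 6) = k ∨ (0 : Fin 6) = l
          · rcases hfix 0 (by tauto) with e | e | e
            · exact absurd e (by decide)
            · obtain ⟨-, rfl, rfl⟩ := e; simp [dfun]
            · exact absurd e.1 (by decide)
          · by_cases h1 : (1 : Fin 6) = k ∨ (1 : Fin 6) = l
            · rcases hfix 1 (by tauto) with e | e | e
              · exact absurd e (by decide)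
              · exact absurd e.1 (by decide)
              · exact absurd (Or.inl e.2.2.symm) h'
            · push Not at h' h1
              simp [dfun, h'.1, h'.2, h1.1, h1.2]
        · by_cases h' : (1 : Fin 6) = k ∨ (1 : Fin 6) = l
          · rcases hfix 1 (by tauto) with e | e | e
            · exact absurd e (by decide)
            · exact absurd e.1 (by decide)
            · obtain ⟨-, rfl, rfl⟩ := e; simp [dfun]
          · by_cases h1 : (0 : Fin 6) = k ∨ (0 : Fin 6) = l
            · rcases hfix 0 (by tauto) with e | e | e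
              · exact absurd e (by decide)
              · exact absurd (Or.inr e.2.1.symm) h'
              · exact absurd e.1 (by decide)
            · push Not at h' h1
              simp [dfun, h'.1, h'.2, h1.1, h1.2]
      · push Not at hy
        rw [Equiv.swap_apply_of_ne_of_ne hy.1 hy.2]
    rcases perm_cols_comm S hg (S.hyp.sgn k l hkl) hab h hcom j with e | e | e
    · left
      rw [sgn_dot hkl, colnorm S.hyp hg] at e
      linear_combination -e
    · refine Or.inr (Or.inl ⟨half_zero h2 ?_, half_zero h2 ?_⟩)
      · have := congrFun e k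
        rw [sgn_apply hkl, if_pos (Or.inl rfl)] at this
        exact this.symm
      · have := congrFun e l
        rw [sgn_apply hkl, if_pos (Or.inr rfl)] at this
        exact this.symm
    · refine Or.inr (Or.inr fun x h1 h3 => half_zero h2 ?_)
      have := congrFun e x
      rw [sgn_apply hkl, if_neg (by simp [h1, h3])] at this
      exact this
  set σ : Equiv.Perm (Fin 6) := Equiv.swap 3 4 * Equiv.swap 4 5 with hσ
  have himg : act (mon σ 1) f = ![f 0, f 1, f 2, f 5, f 3, f 4] := funext fun i => by
    rw [act, mon_mulVec, hσ, Equiv.Perm.mul_def]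
    fin_cases i <;> simp [Equiv.swap_apply_def]
  have ccy : mon σ 1 * T3 F = T3 F * mon σ 1 := by
    rw [T3, mon_mul, mon_mul, show σ * Equiv.swap 0 1 = Equiv.swap 0 1 * σ by rw [hσ]; decide]
    congr 1
    funext y
    rw [hσ]
    fin_cases y <;> simp [Equiv.swap_apply_def]
  have hcy := perm_cols_comm S hg (S.hyp.alt σ (by rw [hσ]; decide)) hab h ccy j
  rw [← hfdef, himg, dot_six] at hcy
  simp only [Matrix.cons_val, f1, f2] at hcy
  have p34 := k 3 4 (by decide) (by decide)
  have p35 := k 3 5 (by decide) (by decide)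
  have p45 := k 4 5 (by decide) (by decide)
  have p01 := k 0 1 (by decide) (by decide)
  have axisf : f 0 = 0 → f 4 = 0 → f 5 = 0 → False := fun e0 e4 e5 =>
    hnm (mon_of_col S hg (j := j) (a := 3) (t := f 3) (funext fun x => by
      rw [← hfdef]
      fin_cases x <;> simp [E, e0, f1, f2, e4, e5]))
  rcases hcy with e | e | e
  swap
  · -- fixed by the cycle
    have e3 : f 5 = f 3 := by simpa using congrFun e 3
    have e4 : f 3 = f 4 := by simpa using congrFun e 4
    rcases p34 with q | q | q
    · rcases p35 with r | r | r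
      · rcases p01 with s | s | s
        · rw [f1] at s
          rw [← e4] at q
          refine one_ne_zero (α := F) ?_
          linear_combination 4 * hN - 2 * s - 3 * q - (4 * f 5 + 4 * f 3) * e3 + (4 * f 4 + 4 * f 3) * e4
        · rw [s.1] at hN
          refine one_ne_zero (α := F) ?_
          rw [← e4] at q
          linear_combination -4 * hN + 3 * q + (4 * f 5 + 4 * f 3) * e3 - (4 * f 4 + 4 * f 3) * e4
        · exact hp (s 3 (by decide) (by decide))
      · exact hp r.1
      · exact hp (by rw [e4]; exact r 4 (by decide) (by decide))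
    · exact hp q.1
    · exact hp (by rw [← e3]; exact q 5 (by decide) (by decide))
  swap
  · -- negated by the cycle
    have e3 : f 5 = -f 3 := by simpa using congrFun e 3
    have e4 : f 3 = -f 4 := by simpa using congrFun e 4
    have e5 : f 4 = -f 5 := by simpa using congrFun e 5
    exact hp (half_zero h2 (by linear_combination e4 - e5 + e3))
  by_cases h4 : f 4 = 0
  · by_cases h5 : f 5 = 0
    · by_cases h0 : f 0 = 0
      · exact axisf h0 h4 h5
      · rw [h4, h5] at e
        simp at e
        exact h0 (mul_self_eq_zero.1 ((mul_eq_zero.1 (show (2 : F) * (f 0 * f 0) = 0 by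
          linear_combination e)).resolve_left h2))
    · rcases p34 with q | q | q
      · rcases p45 with r | r | r
        · rw [h4] at q r e
          simp only [mul_zero, zero_mul, add_zero, zero_add] at q r e
          rcases p01 with s | s | s
          · rw [f1] at s
            exact one_ne_zero (α := F) (by
              linear_combination 2 * hN - s - q - r - (2 * f 4) * h4)
          · rw [s.1] at e
            exact mul_ne_zero h5 hp (by linear_combination e)
          · exact hp (s 3 (by decide) (by decide))
        · exact h5 r.2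
        · exact hp (r 3 (by decide) (by decide))
      · exact hp q.1
      · exact h5 (q 5 (by decide) (by decide))
  · by_cases h5 : f 5 = 0
    · rcases p35 with q | q | q
      · rcases p45 with r | r | r
        · rw [h5] at q r e
          simp only [mul_zero, zero_mul, add_zero, zero_add] at q r e
          rcases p01 with s | s | s
          · rw [f1] at s
            exact one_ne_zero (α := F) (by
              linear_combination 2 * hN - s - q - r - (2 * f 5) * h5)
          · rw [s.1] at e
            exact mul_ne_zero hp h4 (by linear_combination e)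
          · exact hp (s 3 (by decide) (by decide))
        · exact h4 r.1
        · exact hp (r 3 (by decide) (by decide))
      · exact hp q.1
      · exact h4 (q 4 (by decide) (by decide))
    · rcases p34 with q | q | q
      swap; · exact hp q.1
      swap; · exact h5 (q 5 (by decide) (by decide))
      rcases p35 with r | r | r
      swap; · exact hp r.1
      swap; · exact h4 (r 4 (by decide) (by decide))
      rcases p45 with t | t | t
      swap; · exact h4 t.1
      swap; · exact hp (t 3 (by decide) (by decide))
      rcases p01 with s | s | s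
      swap
      · rw [s.1] at hN
        exact one_ne_zero (α := F) (by linear_combination -4 * hN + q + r + t)
      swap; · exact hp (s 3 (by decide) (by decide))
      rw [f1] at s
      exact one_ne_zero (α := F) (by linear_combination 4 * hN - q - r - t - 2 * s)

omit S in
lemma sgn_conj_mon (π : Equiv.Perm (Fin 6)) (ε : Fin 6 → Fˣ) {a b : Fin 6} (hab : a ≠ b) :
    mon π ε * sgn (F := F) (π.symm a) (π.symm b) = sgn a b * mon π ε := by
  rw [sgn, sgn, mon_mul, mon_mul, mul_one, one_mul]
  congr 1
  funext y
  rw [Equiv.Perm.one_apply, mul_comm]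
  congr 1
  by_cases k2 : y = π.symm b
  · subst k2; simp [dfun]
  by_cases k1 : y = π.symm a
  · subst k1; simp [dfun, hab]
  have e1 : π y ≠ a := fun e => k1 (by rw [← e, Equiv.symm_apply_apply])
  have e2 : π y ≠ b := fun e => k2 (by rw [← e, Equiv.symm_apply_apply])
  simp [dfun, k1, k2, e1, e2]

/-- Transport a conjugate of a change of signs to standard coordinates. -/
lemma toStd {g z T : GL (Fin 6) F} (hg : g ∈ G) {a b : Fin 6} (hab : a ≠ b)
    (hz : z = g * sgn a b * g⁻¹) {π : Equiv.Perm (Fin 6)} {ε : Fin 6 → Fˣ}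
    (_hε : ∀ x, (ε x : F) * ε x = 1) (h : z = mon π ε * T * (mon π ε)⁻¹) :
    (mon π ε)⁻¹ * g * mon π ε ∈ G.comap (MulAut.conj (mon π ε : GL (Fin 6) F)).toMonoidHom ∧
      π.symm a ≠ π.symm b ∧
      (mon π ε)⁻¹ * g * mon π ε * sgn (π.symm a) (π.symm b) =
        T * ((mon π ε)⁻¹ * g * mon π ε) := by
  set Q : GL (Fin 6) F := mon π ε with hQ
  refine ⟨?_, π.symm.injective.ne hab, ?_⟩
  · change Q * (Q⁻¹ * g * Q) * Q⁻¹ ∈ G
    rwa [show Q * (Q⁻¹ * g * Q) * Q⁻¹ = g by group]
  · rw [mul_assoc _ Q, hQ, sgn_conj_mon π ε hab, ← hQ,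
      show T = Q⁻¹ * z * Q by rw [h]; group, hz]
    group

/-- A monomial conjugate of a change of two signs has a monomial conjugator. -/
lemma mon_of_conj {g : GL (Fin 6) F} (hg : g ∈ G) {a b : Fin 6} (hab : a ≠ b)
    (hm : Mon (g * sgn a b * g⁻¹)) : Mon g := by
  have h2 := S.two
  set z := g * sgn a b * g⁻¹ with hz
  have hzG : z ∈ G := G.mul_mem (G.mul_mem hg (S.hyp.sgn a b hab)) (G.inv_mem hg)
  have hzz : z * z = 1 := by
    rw [hz, show g * sgn a b * g⁻¹ * (g * sgn a b * g⁻¹) = g * (sgn a b * sgn a b) * g⁻¹ by group,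
      sgn_mul_self hab]
    group
  have trs : ∀ k l : Fin 6, k ≠ l → Matrix.trace ((sgn k l : GL (Fin 6) F) : Matrix (Fin 6) (Fin 6) F) = 2 := by
    intro k l hkl
    obtain ⟨c, d, e, f, hD⟩ := exists_dist hkl
    rw [sgn, trace_mon, hD.sum]
    obtain ⟨h1, h3, h4, h5, h6, h7, h8, h9, h10, h11, h12, h13, h14, h15, h16⟩ := hD
    simp [dfun, h1, h3.symm, h4.symm, h5.symm, h6.symm, h7.symm, h8.symm, h9.symm, h10.symm]
    norm_num
  have trz : Matrix.trace (z : Matrix (Fin 6) (Fin 6) F) = 2 := by
    rw [hz, Units.val_mul, Units.val_mul, Matrix.trace_units_conj, trs a b hab]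
  have trN : ∀ w : GL (Fin 6) F, z = -w → Matrix.trace (w : Matrix (Fin 6) (Fin 6) F) = -2 :=
    fun w hw => by
      rw [hw, Units.val_neg, Matrix.trace_neg] at trz
      linear_combination -trz
  have four : (4 : F) ≠ 0 := by
    rw [show (4 : F) = 2 * 2 by norm_num]; exact mul_ne_zero h2 h2
  have trT2 : Matrix.trace (T2 F : Matrix (Fin 6) (Fin 6) F) = 2 := by
    rw [T2, trace_mon, Fin.sum_univ_six]
    simp [Equiv.swap_apply_def]
    norm_num
  have trT3 : Matrix.trace (T3 F : Matrix (Fin 6) (Fin 6) F) = 2 := by
    rw [T3, trace_mon, Fin.sum_univ_six]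
    simp [Equiv.swap_apply_def]
    norm_num
  rcases classify S hzG hm hzz with ((h | h) | ⟨k, l, hkl, h | h⟩) | ⟨π, ε, hε, (h | h) | (h | h)⟩
  · exact absurd (show (6 : F) = 2 by
      rw [← trz, h, Units.val_one, Matrix.trace_one, Fintype.card_fin]; norm_num)
      fun e => four (by linear_combination e)
  · exact absurd (show (-6 : F) = 2 by
      rw [← trz, h, Units.val_neg, Units.val_one, Matrix.trace_neg, Matrix.trace_one,
        Fintype.card_fin]
      norm_num) fun e => mul_ne_zero h2 four (by linear_combination -e)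
  · -- an even permutation moves the pair
    obtain ⟨c, d, e, f, hD⟩ := exists_dist hab
    obtain ⟨c', d', e', f', hD'⟩ := exists_dist hkl
    set n := hD'.perm * hD.perm⁻¹ with hn
    obtain ⟨m, hms, hma, hmb⟩ : ∃ m : Equiv.Perm (Fin 6), Equiv.Perm.sign m = 1 ∧ m a = k ∧ m b = l := by
      have na : n a = k := by
        rw [hn, Equiv.Perm.mul_apply, show hD.perm⁻¹ a = 0 from hD.perm.symm_apply_apply 0]
        rfl
      have nb : n b = l := by
        rw [hn, Equiv.Perm.mul_apply, show hD.perm⁻¹ b = 1 from hD.perm.symm_apply_apply 1]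
        rfl
      rcases Int.units_eq_one_or (Equiv.Perm.sign n) with e1 | e1
      · exact ⟨n, e1, na, nb⟩
      · refine ⟨n * Equiv.swap c d, ?_, ?_, ?_⟩
        · rw [Equiv.Perm.sign_mul, e1, Equiv.Perm.sign_swap hD.2.2.2.2.2.2.2.2.2.1]; rfl
        · rw [Equiv.Perm.mul_apply, Equiv.swap_apply_of_ne_of_ne hD.2.1 hD.2.2.1, na]
        · rw [Equiv.Perm.mul_apply, Equiv.swap_apply_of_ne_of_ne hD.2.2.2.2.2.1 hD.2.2.2.2.2.2.1, nb]
    have hconj : mon m 1 * sgn a b = sgn k l * (mon m 1 : GL (Fin 6) F) := by
      rw [sgn, sgn, mon_mul, mon_mul, mul_one, one_mul]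
      congr 1
      funext y
      simp only [Pi.one_apply, one_mul, mul_one]
      by_cases k2 : y = b
      · subst k2; simp [dfun, hmb]
      by_cases k1 : y = a
      · subst k1; simp [dfun, hma, hab, hkl]
      simp [dfun, k1, k2, show m y ≠ k from fun e1 => k1 (m.injective (e1.trans hma.symm)),
        show m y ≠ l from fun e1 => k2 (m.injective (e1.trans hmb.symm))]
    have hmG := S.hyp.alt m hms
    have := mon_of_comm S (G.mul_mem (G.inv_mem hmG) hg) hab (by
      rw [show (mon m 1)⁻¹ * g * sgn a b = (mon m 1)⁻¹ * z * g by rw [hz]; group, h,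
        show sgn a b = (mon m 1)⁻¹ * sgn k l * mon m 1 by rw [mul_assoc, ← hconj]; group]
      group)
    have := Mon_mul (mon_Mon m (1 : Fin 6 → Fˣ)) this
    rwa [← mul_assoc, mul_inv_cancel, one_mul] at this
  · exact absurd ((trs k l hkl).symm.trans (trN _ h)) fun e => four (by linear_combination e)
  · obtain ⟨e1, e2, e3⟩ := toStd S hg hab hz hε h
    exact (no_fusion_T2 (six_conj S hε) e1 e2 e3).elim
  · have := trN (-z) (neg_neg z).symm
    rw [h, Units.val_mul, Units.val_mul, Matrix.trace_units_conj, trT2] at this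
    exact (four (by linear_combination this)).elim
  · obtain ⟨e1, e2, e3⟩ := toStd S hg hab hz hε h
    exact (no_fusion_T3 (six_conj S hε) e1 e2 e3).elim
  · have := trN (-z) (neg_neg z).symm
    rw [h, Units.val_mul, Units.val_mul, Matrix.trace_units_conj, trT3] at this
    exact (four (by linear_combination this)).elim

/-- The centraliser of the transposition type is monomial. -/
lemma mon_of_comm_T3 {c : GL (Fin 6) F} (hc : c ∈ G) (h : c * T3 F = T3 F * c) : Mon c := by
  have h45 : (4 : Fin 6) ≠ 5 := by decide
  refine mon_of_conj S hc h45 ?_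
  set w := act c⁻¹ (E 2) with hw
  have hw' : act (T3 F) w = -w := by
    rw [hw, ← act_mul, show T3 F * c⁻¹ = c⁻¹ * (c * T3 F) * c⁻¹ by group, h,
      show c⁻¹ * (T3 F * c) * c⁻¹ = c⁻¹ * T3 F by group, act_mul,
      show act (T3 F) (E 2) = -E 2 by
        rw [T3_apply]; funext i; fin_cases i <;> simp [E]]
    exact mulVec_neg _ _
  rw [T3_apply] at hw'
  have w4 : w 4 = 0 := half_zero S.two (by simpa using congrFun hw' 4)
  have w5 : w 5 = 0 := half_zero S.two (by simpa using congrFun hw' 5)
  refine S.fixed _ (G.mul_mem (G.mul_mem hc (S.hyp.sgn 4 5 h45)) (G.inv_mem hc)) 2 1 ?_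
  rw [act_mul, act_mul, ← hw, show act (sgn 4 5) w = w from funext fun i => by
    rw [sgn_apply h45]
    split_ifs with e
    · rcases e with rfl | rfl
      · rw [w4, neg_zero]
      · rw [w5, neg_zero]
    · rfl, hw, inv_act, one_smul]

end CfsgLib.ClassicalMax.OmSix
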