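/-
Six coordinates: the dihedral group of two involutions; elements fixing the three differences of
pairs; pairs of commuting double transpositions.
-/
import Cfsg.Agent.Lib.ClassicalMax.OrthSix.Fusion
set_option autoImplicit false
set_option linter.unusedSectionVars false

namespace CfsgLib.ClassicalMax.OmSix

open Matrix Module
open CfsgLib.ClassicalMax.MonG CfsgLib.ClassicalMax.OmL

variable {F : Type*} [Field F]

/-- The first coordinate of a pair. -/
def pr : Fin 3 → Fin 6 := ![0, 2, 4]
/-- The second coordinate of a pair. -/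
def ps : Fin 3 → Fin 6 := ![1, 3, 5]

/-- The difference of a pair. -/
noncomputable def V (i : Fin 3) : Fin 6 → F := E (pr i) - E (ps i)
/-- The sum of a pair. -/
noncomputable def W (i : Fin 3) : Fin 6 → F := E (pr i) + E (ps i)

lemma pr_ne_ps (i j : Fin 3) : pr i ≠ ps j := by fin_cases i <;> fin_cases j <;> decide
lemma pr_inj : Function.Injective pr := by intro i j; fin_cases i <;> fin_cases j <;> decide
lemma ps_inj : Function.Injective ps := by intro i j; fin_cases i <;> fin_cases j <;> decide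

lemma pair_cover (x : Fin 6) : ∃ i, x = pr i ∨ x = ps i := by
  fin_cases x
  exacts [⟨0, Or.inl rfl⟩, ⟨0, Or.inr rfl⟩, ⟨1, Or.inl rfl⟩, ⟨1, Or.inr rfl⟩, ⟨2, Or.inl rfl⟩,
    ⟨2, Or.inr rfl⟩]

lemma W_pr (i j : Fin 3) : W (F := F) i (pr j) = if j = i then 1 else 0 := by
  simp [W, E, Pi.single_apply, pr_ne_ps, pr_inj.eq_iff]

lemma W_ps (i j : Fin 3) : W (F := F) i (ps j) = if j = i then 1 else 0 := by
  simp [W, E, Pi.single_apply, ps_inj.eq_iff, (pr_ne_ps i j).symm]

lemma W_norm (i : Fin 3) : (W (F := F) i) ⬝ᵥ W i = 2 := by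
  simp [W, E, pr_ne_ps, (pr_ne_ps i i).symm]
  norm_num

lemma V_pr (i j : Fin 3) : V (F := F) i (pr j) = if j = i then 1 else 0 := by
  simp [V, E, Pi.single_apply, pr_ne_ps, pr_inj.eq_iff]

lemma V_ps (i j : Fin 3) : V (F := F) i (ps j) = if j = i then -1 else 0 := by
  by_cases h : j = i <;> simp [V, E, Pi.single_apply, ps_inj.eq_iff, (pr_ne_ps i j).symm, (pr_ne_ps i i).symm, h]

lemma act_neg (g : GL (Fin 6) F) (v : Fin 6 → F) : act g (-v) = -act g v := mulVec_neg _ _

lemma dot_W (v : Fin 6 → F) (j : Fin 3) : v ⬝ᵥ W j = v (pr j) + v (ps j) := by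
  simp [W, E, dotProduct_add]

lemma dot_V (v : Fin 6 → F) (j : Fin 3) : v ⬝ᵥ V j = v (pr j) - v (ps j) := by
  simp [V, E, dotProduct_sub]

variable {G : Subgroup (GL (Fin 6) F)} (S : Six G)

include S

omit S in
/-- Two involutions: a central involution or a conjugating element. -/
lemma dihedral [Finite F] {x y : GL (Fin 6) F} (hx : x ∈ G) (hy : y ∈ G) (hxx : x * x = 1)
    (hyy : y * y = 1) :
    (∃ z ∈ G, z * z = 1 ∧ z ≠ 1 ∧ z * x = x * z ∧ z * y = y * z ∧
      (∀ v, act x v = v → act y v = v → act z v = v) ∧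
      ∀ w, w * x = x * w → w * y = y * w → w * z = z * w) ∨
    ∃ g ∈ G, g * x * g⁻¹ = y ∧ ∀ v, act x v = v → act y v = v → act g v = v := by
  haveI : Finite (GL (Fin 6) F) := inferInstance
  set t := x * y with ht
  have htG : t ∈ G := G.mul_mem hx hy
  have hfix : ∀ (n : ℕ) (v : Fin 6 → F), act x v = v → act y v = v → act (t ^ n) v = v := by
    intro n v h1 h2
    induction n with
    | zero => rw [pow_zero, act_one]
    | succ n ih => rw [pow_succ, act_mul, ht, act_mul, h2, h1, ← ht, ih]
  have hxt : x * t * x⁻¹ = t⁻¹ := by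
    rw [ht, _root_.mul_inv_rev, inv_eq_of_mul_eq_one_left hxx, inv_eq_of_mul_eq_one_left hyy,
      ← mul_assoc, hxx, one_mul]
  have hpow : ∀ n : ℕ, x * t ^ n = (t ^ n)⁻¹ * x := fun n => by
    rw [← inv_pow, ← hxt, conj_pow]
    group
  have hy' : y = t⁻¹ * x := by
    rw [ht, _root_.mul_inv_rev, inv_eq_of_mul_eq_one_left hxx, inv_eq_of_mul_eq_one_left hyy,
      mul_assoc, hxx, mul_one]
  rcases Nat.even_or_odd (orderOf t) with ⟨k, hk⟩ | ⟨k, hk⟩
  · left
    have hzz : t ^ k * t ^ k = 1 := by rw [← pow_add, ← hk, pow_orderOf_eq_one]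
    have hzx : t ^ k * x = x * t ^ k := by rw [hpow, inv_eq_of_mul_eq_one_left hzz]
    refine ⟨t ^ k, G.pow_mem htG k, hzz, fun e => ?_, hzx, ?_, hfix k, fun w h1 h2 =>
      ((show Commute w x from h1).mul_right (show Commute w y from h2)).pow_right k⟩
    · have h1 := Nat.le_of_dvd ?_ (orderOf_dvd_of_pow_eq_one e)
      · have := orderOf_pos t; omega
      · have := orderOf_pos t; omega
    · rw [hy', ← mul_assoc, ((Commute.refl t).pow_left k).inv_right.eq, mul_assoc, hzx, mul_assoc]
  · right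
    refine ⟨t ^ k, G.pow_mem htG k, ?_, hfix k⟩
    have e : t ^ k * t ^ k = t⁻¹ := by
      rw [eq_inv_iff_mul_eq_one, ← pow_add, ← pow_succ,
        show k + k + 1 = orderOf t by omega, pow_orderOf_eq_one]
    rw [hy', ← e, mul_assoc, mul_assoc (t ^ k)]
    congr 1
    have := hpow k
    calc x * (t ^ k)⁻¹ = (t ^ k * (x * t ^ k)) * (t ^ k)⁻¹ := by rw [this]; group
      _ = t ^ k * x := by group

omit S in
/-- An element fixing the three differences. -/
structure FixV (G : Subgroup (GL (Fin 6) F)) (g : GL (Fin 6) F) : Prop where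
  mem : g ∈ G
  fix : ∀ i, act g (V i) = V i

omit S in
lemma FixV.mul {g h : GL (Fin 6) F} (hg : FixV G g) (hh : FixV G h) : FixV G (g * h) :=
  ⟨G.mul_mem hg.mem hh.mem, fun i => by rw [act_mul, hh.fix, hg.fix]⟩

omit S in
lemma FixV.inv {g : GL (Fin 6) F} (hg : FixV G g) : FixV G g⁻¹ :=
  ⟨G.inv_mem hg.mem, fun i => by
    conv_lhs => rw [← hg.fix i]
    exact act_inv g _⟩

lemma FixV.pairs {g : GL (Fin 6) F} (hg : FixV G g) (i j : Fin 3) :
    act g (W i) (pr j) = act g (W i) (ps j) := by
  refine sub_eq_zero.1 ?_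
  rw [← dot_V, ← hg.fix j, S.hyp.dot g hg.mem, dot_V, W_pr, W_ps, sub_self]

lemma W_eq {v : Fin 6 → F} {i : Fin 3} (h0 : ∀ j, v (pr j) = v (ps j))
    (h : ∀ j, j ≠ i → v (pr j) = 0) : v = v (pr i) • W i := funext fun x => by
  obtain ⟨j, rfl | rfl⟩ := pair_cover x <;>
    by_cases hj : j = i <;> simp [W_pr, W_ps, hj, ← h0, h]

lemma FixV.col {g : GL (Fin 6) F} (hg : FixV G g) (i : Fin 3) :
    (2 : F) • act g (E (pr i)) = V i + act g (W i) := by
  conv_rhs => rw [← hg.fix i]
  rw [act, act, act, ← mulVec_add, ← mulVec_smul]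
  congr 1
  simp [V, W, two_smul]

lemma FixV.mon_of_line {g : GL (Fin 6) F} (hg : FixV G g) {i : Fin 3}
    (h : act g (W i) = W i ∨ act g (W i) = -W i) : Mon g := by
  have hc := hg.col S i
  rcases h with h | h
  · refine mon_of_col S hg.mem (j := pr i) (a := pr i) (t := 1) (smul_right_injective _ S.two ?_)
    dsimp only
    rw [hc, h, V, W, one_smul, two_smul]
    abel
  · refine mon_of_col S hg.mem (j := pr i) (a := ps i) (t := -1) (smul_right_injective _ S.two ?_)
    dsimp only
    rw [hc, h, V, W, neg_one_smul, two_smul]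
    abel

lemma FixV.norm_W {g : GL (Fin 6) F} (hg : FixV G g) {i j : Fin 3} {t : F}
    (h : act g (W i) = t • W j) : t = 1 ∨ t = -1 := by
  refine mul_self_eq_one_iff.1 (mul_left_cancel₀ S.two ?_)
  have := S.hyp.dot g hg.mem (W i) (W i)
  rw [h, smul_dotProduct, dotProduct_smul, W_norm, W_norm] at this
  simp only [smul_eq_mul] at this
  linear_combination this

lemma FixV.line_of_mon {g : GL (Fin 6) F} (hg : FixV G g) (hm : Mon g) (i : Fin 3) :
    act g (W i) = W i ∨ act g (W i) = -W i := by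
  have hc := hg.col S i
  have h0 : ∀ j, j ≠ i → act g (W i) (pr j) = 0 := fun j hj => by
    have e1 := congrFun hc (pr j)
    have e2 := congrFun hc (ps j)
    simp only [Pi.smul_apply, Pi.add_apply, smul_eq_mul, V_pr, V_ps, if_neg hj, zero_add] at e1 e2
    rcases Mon_col hm (pr i) (pr_ne_ps j j) with e | e
    · rw [← e1, e, mul_zero]
    · rw [hg.pairs S, ← e2, e, mul_zero]
  have h := W_eq S (hg.pairs S i) h0
  rcases hg.norm_W S h with e | e <;> rw [e] at h
  · exact Or.inl (by rw [h, one_smul])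
  · exact Or.inr (by rw [h, neg_one_smul])

/-- The involution fixing the differences and the sum of pair `i`. -/
noncomputable def σv (F : Type*) [Field F] : Fin 3 → GL (Fin 6) F :=
  ![mon (Equiv.swap 2 3 * Equiv.swap 4 5) ![1, 1, -1, -1, -1, -1],
    mon (Equiv.swap 0 1 * Equiv.swap 4 5) ![-1, -1, 1, 1, -1, -1],
    mon (Equiv.swap 0 1 * Equiv.swap 2 3) ![-1, -1, -1, -1, 1, 1]]

omit S in
lemma σv_apply (i : Fin 3) (v : Fin 6 → F) (j : Fin 3) :
    act (σv F i) v (pr j) = (if j = i then v (pr j) else -v (ps j)) ∧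
      act (σv F i) v (ps j) = (if j = i then v (ps j) else -v (pr j)) := by
  fin_cases i <;> fin_cases j <;>
    simp [σv, act, mon_mulVec, Equiv.Perm.mul_def, Equiv.swap_apply_def, pr, ps]

lemma σv_fixV (i : Fin 3) : FixV G (σv F i) := by
  refine ⟨?_, fun j => funext fun x => ?_⟩
  · fin_cases i <;>
    · refine mon_mem S (by decide) (fun x => ?_) ?_
      · fin_cases x <;> simp
      · simp [Fin.prod_univ_six]
  · obtain ⟨k, rfl | rfl⟩ := pair_cover x
    · rw [(σv_apply i _ k).1]
      split_ifs <;> simp [V, E, Pi.single_apply, pr_ne_ps, pr_inj.eq_iff, ps_inj.eq_iff,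
        fun a b => (pr_ne_ps a b).symm]
    · rw [(σv_apply i _ k).2]
      split_ifs <;> simp [V, E, Pi.single_apply, pr_ne_ps, pr_inj.eq_iff, ps_inj.eq_iff,
        fun a b => (pr_ne_ps a b).symm]

omit S in
lemma σv_sq (i : Fin 3) : σv F i * σv F i = 1 := by
  refine gl_ext_mulVec fun v => ?_
  rw [gl_mulVec_mul, Units.val_one, one_mulVec]
  change act (σv F i) (act (σv F i) v) = v
  funext x
  obtain ⟨k, rfl | rfl⟩ := pair_cover x
  · rw [(σv_apply i _ k).1, (σv_apply i v k).1, (σv_apply i v k).2]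
    split_ifs <;> simp
  · rw [(σv_apply i _ k).2, (σv_apply i v k).1, (σv_apply i v k).2]
    split_ifs <;> simp

omit S in
lemma σv_W (i j : Fin 3) : act (σv F i) (W j) = if j = i then W j else -W j := funext fun x => by
  obtain ⟨k, rfl | rfl⟩ := pair_cover x
  · rw [(σv_apply i _ k).1]
    split_ifs with h1 h2 <;> simp_all [W_pr, W_ps, Ne.symm]
  · rw [(σv_apply i _ k).2]
    split_ifs with h1 h2 <;> simp_all [W_pr, W_ps, Ne.symm]

lemma fixed_line {g : GL (Fin 6) F} (hg : FixV G g) {i j : Fin 3}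
    (h : act (σv F j) (act g (W i)) = act g (W i)) :
    act g (W i) = W j ∨ act g (W i) = -W j := by
  have h0 : ∀ k, k ≠ j → act g (W i) (pr k) = 0 := fun k hk => by
    have e := congrFun h (pr k)
    rw [(σv_apply j _ k).1, if_neg hk, ← hg.pairs S] at e
    exact half_zero S.two e.symm
  have he := W_eq S (hg.pairs S i) h0
  rcases hg.norm_W S he with e | e <;> rw [e] at he
  · exact Or.inl (by rw [he, one_smul])
  · exact Or.inr (by rw [he, neg_one_smul])

lemma mon_comm_σv {g : GL (Fin 6) F} (hg : FixV G g) {i : Fin 3}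
    (h : g * σv F i = σv F i * g) : Mon g :=
  hg.mon_of_line S (fixed_line S hg (by rw [← act_mul, ← h, act_mul, σv_W, if_pos rfl]))

/-- The three sums are not permuted cyclically. -/
lemma no_cycle (h3 : (3 : F) ≠ 0) {g : GL (Fin 6) F} (hg : FixV G g)
    (h01 : act g (W 0) = W 1 ∨ act g (W 0) = -W 1)
    (h20 : act g (W 2) = W 0 ∨ act g (W 2) = -W 0) : False := by
  have h2 := S.two
  have c0 := hg.col S 0
  have c4 := hg.col S 2
  set f := act g (E (pr 0)) with hf
  set u := act g (E (pr 2)) with hu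
  obtain ⟨s, hs, hs1⟩ : ∃ s : F, act g (W 0) = s • W 1 ∧ s * s = 1 := by
    rcases h01 with e | e
    · exact ⟨1, by rw [e, one_smul], one_mul _⟩
    · exact ⟨-1, by rw [e, neg_one_smul], by ring⟩
  obtain ⟨r, hr, hr1⟩ : ∃ r : F, act g (W 2) = r • W 0 ∧ r * r = 1 := by
    rcases h20 with e | e
    · exact ⟨1, by rw [e, one_smul], one_mul _⟩
    · exact ⟨-1, by rw [e, neg_one_smul], by ring⟩
  rw [hs] at c0
  rw [hr] at c4
  have f' : ∀ x, 2 * f x = ![1, -1, s, s, 0, 0] x := fun x => by
    have := congrFun c0 x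
    simp only [Pi.smul_apply, Pi.add_apply, smul_eq_mul] at this
    rw [this]
    fin_cases x <;> simp [V, W, pr, ps, E]
  have u' : ∀ x, 2 * u x = ![r, r, 0, 0, 1, -1] x := fun x => by
    have := congrFun c4 x
    simp only [Pi.smul_apply, Pi.add_apply, smul_eq_mul] at this
    rw [this]
    fin_cases x <;> simp [V, W, pr, ps, E]
  have hr0 : r ≠ 0 := fun e => zero_ne_one (by rw [← hr1, e, mul_zero])
  have four : (2 : F) * 2 ≠ 0 := mul_ne_zero h2 h2
  have f2 : f 0 = f 0 := rfl
  -- the three-cycle fixing the first column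
  obtain ⟨σ, hσ, hfix, himg⟩ : ∃ σ : Equiv.Perm (Fin 6), Equiv.Perm.sign σ = 1 ∧
      act (mon σ 1) f = f ∧ (∀ x, 2 * act (mon σ 1) u x = ![0, r, r, 0, 1, -1] x ∨
        2 * act (mon σ 1) u x = ![r, 0, r, 0, 1, -1] x) ∧
      ((∀ x, 2 * act (mon σ 1) u x = ![0, r, r, 0, 1, -1] x) ∨
        ∀ x, 2 * act (mon σ 1) u x = ![r, 0, r, 0, 1, -1] x) := by
    rcases mul_self_eq_one_iff.1 hs1 with e | e
    · refine ⟨Equiv.swap 0 2 * Equiv.swap 2 3, by decide, funext fun x => mul_left_cancel₀ h2 ?_, ?_⟩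
      · rw [act, mon_mulVec, Pi.one_apply, Units.val_one, one_mul, f', f', Equiv.Perm.mul_def]
        fin_cases x <;> simp [Equiv.swap_apply_def, e]
      have : ∀ x, 2 * act (mon (Equiv.swap (0 : Fin 6) 2 * Equiv.swap 2 3) 1) u x =
          ![0, r, r, 0, 1, -1] x := fun x => by
        rw [act, mon_mulVec, Pi.one_apply, Units.val_one, one_mul, u', Equiv.Perm.mul_def]
        fin_cases x <;> simp [Equiv.swap_apply_def]
      exact ⟨fun x => Or.inl (this x), Or.inl this⟩
    · refine ⟨Equiv.swap 1 2 * Equiv.swap 2 3, by decide, funext fun x => mul_left_cancel₀ h2 ?_, ?_⟩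
      · rw [act, mon_mulVec, Pi.one_apply, Units.val_one, one_mul, f', f', Equiv.Perm.mul_def]
        fin_cases x <;> simp [Equiv.swap_apply_def, e]
      have : ∀ x, 2 * act (mon (Equiv.swap (1 : Fin 6) 2 * Equiv.swap 2 3) 1) u x =
          ![r, 0, r, 0, 1, -1] x := fun x => by
        rw [act, mon_mulVec, Pi.one_apply, Units.val_one, one_mul, u', Equiv.Perm.mul_def]
        fin_cases x <;> simp [Equiv.swap_apply_def]
      exact ⟨fun x => Or.inr (this x), Or.inr this⟩
  have hne2 : 2 * act (mon σ 1) u 2 = r := by rcases himg.1 2 with e | e <;> simpa using e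
  have u2 : 2 * u 2 = 0 := by simpa using u' 2
  rcases key S hg.mem (S.hyp.alt σ hσ) (p := pr 0) (t := 1) (by rw [one_smul]; exact hfix) (pr 2)
    with e | e | e <;> simp only [← hu] at e
  · rw [dot_six] at e
    have e4 : (2 : F) * 2 * (act (mon σ 1) u 0 * u 0 + act (mon σ 1) u 1 * u 1 + act (mon σ 1) u 2 * u 2
        + act (mon σ 1) u 3 * u 3 + act (mon σ 1) u 4 * u 4 + act (mon σ 1) u 5 * u 5) = 0 := by
      rw [e, mul_zero]
    have e5 : (2 * act (mon σ 1) u 0) * (2 * u 0) + (2 * act (mon σ 1) u 1) * (2 * u 1)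
        + (2 * act (mon σ 1) u 2) * (2 * u 2) + (2 * act (mon σ 1) u 3) * (2 * u 3)
        + (2 * act (mon σ 1) u 4) * (2 * u 4) + (2 * act (mon σ 1) u 5) * (2 * u 5) = 0 := by
      linear_combination e4
    simp only [u'] at e5
    refine h3 ?_
    rcases himg.2 with k | k <;> simp [k] at e5 <;> linear_combination e5 - hr1
  · rw [e, u2] at hne2; exact hr0 hne2.symm
  · rw [e, Pi.neg_apply, mul_neg, u2, neg_zero] at hne2; exact hr0 hne2.symm

lemma FixV.expand {g : GL (Fin 6) F} (hg : FixV G g) (i : Fin 3) :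
    act g (W i) = act g (W i) (pr 0) • W 0 + act g (W i) (pr 1) • W 1 + act g (W i) (pr 2) • W 2 := by
  funext x
  obtain ⟨j, rfl | rfl⟩ := pair_cover x <;> fin_cases j <;>
    simp [W_pr, W_ps, ← hg.pairs S i]

/-- Two elements which agree on the differences and sums are equal. -/
lemma ext_VW {g h : GL (Fin 6) F} (hV : ∀ i, act g (V i) = act h (V i))
    (hW : ∀ i, act g (W i) = act h (W i)) : g = h := by
  have col : ∀ x, act g (E x) = act h (E x) := fun x => by
    obtain ⟨i, rfl | rfl⟩ := pair_cover x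
    · refine smul_right_injective _ S.two ?_
      have e : (2 : F) • E (pr i) = (V i + W i : Fin 6 → F) := by
        simp [V, W, two_smul]
      change (2 : F) • act g (E (pr i)) = (2 : F) • act h (E (pr i))
      rw [act, act, ← mulVec_smul, ← mulVec_smul, e, mulVec_add, mulVec_add]
      exact congrArg₂ (· + ·) (hV i) (hW i)
    · refine smul_right_injective _ S.two ?_
      have e : (2 : F) • E (ps i) = (W i - V i : Fin 6 → F) := by
        simp [V, W, two_smul]
      change (2 : F) • act g (E (ps i)) = (2 : F) • act h (E (ps i))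
      rw [act, act, ← mulVec_smul, ← mulVec_smul, e, mulVec_sub, mulVec_sub]
      exact congrArg₂ (· - ·) (hW i) (hV i)
  refine Units.ext (Matrix.ext fun y x => ?_)
  have := congrFun (col x) y
  simpa [act, E, col_eq] using this

/-- A monomial element fixing the differences has a single sum of its sign, unless it is trivial. -/
lemma unique_sign {z : GL (Fin 6) F} (hz : FixV G z) (hm : Mon z) (hz1 : z ≠ 1) :
    ∃ l, act z (W l) = W l ∧ ∀ k, k ≠ l → act z (W k) = -W k := by
  have hneg : ¬ ∀ k, act z (W k) = -W k := by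
    intro hall
    set τ : Equiv.Perm (Fin 6) := Equiv.swap 0 1 * Equiv.swap 2 3 * Equiv.swap 4 5 with hτ
    have e : z = mon τ fun _ => -1 := by
      refine ext_VW S (fun i => ?_) fun i => ?_
      · rw [hz.fix]
        funext x
        rw [act, mon_mulVec, hτ, Equiv.Perm.mul_def, Equiv.Perm.mul_def]
        fin_cases i <;> fin_cases x <;> simp [V, pr, ps, E, Equiv.swap_apply_def]
      · rw [hall]
        funext x
        rw [act, mon_mulVec, hτ, Equiv.Perm.mul_def, Equiv.Perm.mul_def]
        fin_cases i <;> fin_cases x <;> simp [W, pr, ps, E, Equiv.swap_apply_def]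
    have hd := S.det z hz.mem
    rw [e, det_mon, hτ, show Equiv.Perm.sign (Equiv.swap (0 : Fin 6) 1 * Equiv.swap 2 3 * Equiv.swap 4 5)
      = -1 by decide] at hd
    simp at hd
    norm_num at hd
    exact S.two (by linear_combination -hd)
  have hz2 : ∀ k l, k ≠ l → act z (W k) = -W k → act z (W l) = W l →
      ∀ m, m ≠ k → m ≠ l → act z (W m) = -W m := by
    intro k l hkl hk hl m hmk hml
    refine (hz.line_of_mon S hm m).resolve_left fun hmp => ?_
    set τ : Equiv.Perm (Fin 6) := Equiv.swap (pr k) (ps k) with hτ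
    set d : Fin 6 → Fˣ := fun x => if x = pr k ∨ x = ps k then -1 else 1 with hd
    have hcov : ∀ i, i = k ∨ i = l ∨ i = m := by
      revert k l m
      intro k l hkl _ _ m hmk hml _ _ _ _ _ i
      fin_cases k <;> fin_cases l <;> fin_cases m <;> fin_cases i <;> simp_all
    have e : z = mon τ d := by
      have sgl : ∀ (v : Fin 6 → F) x, x ≠ pr k → x ≠ ps k → act (mon τ d) v x = v x := fun v x h1 h2 => by
        rw [act, mon_mulVec, hτ, Equiv.symm_swap, Equiv.swap_apply_of_ne_of_ne h1 h2, hd]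
        simp [h1, h2]
      have sk : ∀ (v : Fin 6 → F), act (mon τ d) v (pr k) = -v (ps k) ∧
          act (mon τ d) v (ps k) = -v (pr k) := fun v => by
        constructor <;> rw [act, mon_mulVec, hτ, Equiv.symm_swap] <;> simp [hd]
      refine ext_VW S (fun i => funext fun x => ?_) fun i => funext fun x => ?_
      · rw [hz.fix]
        obtain ⟨j, rfl | rfl⟩ := pair_cover x <;> by_cases hj : j = k
        · subst hj; rw [(sk _).1]
          simp [V, E, Pi.single_apply, pr_ne_ps, pr_inj.eq_iff, ps_inj.eq_iff, fun a b => (pr_ne_ps a b).symm]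
        · rw [sgl _ _ (pr_inj.ne hj) (pr_ne_ps j k)]
        · subst hj; rw [(sk _).2]
          simp [V, E, Pi.single_apply, pr_ne_ps, pr_inj.eq_iff, ps_inj.eq_iff, fun a b => (pr_ne_ps a b).symm]
        · rw [sgl _ _ (pr_ne_ps k j).symm (ps_inj.ne hj)]
      · have hzi : act z (W i) = if i = k then -W i else W i := by
          rcases hcov i with rfl | rfl | rfl <;> simp_all [hkl.symm]
        rw [hzi]
        obtain ⟨j, rfl | rfl⟩ := pair_cover x <;> by_cases hj : j = k
        · subst hj; rw [(sk _).1]; split_ifs <;> simp_all [W_pr, W_ps, eq_comm]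
        · rw [sgl _ _ (pr_inj.ne hj) (pr_ne_ps j k)]; split_ifs <;> simp_all [W_pr]
        · subst hj; rw [(sk _).2]; split_ifs <;> simp_all [W_pr, W_ps, eq_comm]
        · rw [sgl _ _ (pr_ne_ps k j).symm (ps_inj.ne hj)]; split_ifs <;> simp_all [W_ps]
    have hdet := S.det z hz.mem
    rw [e, det_mon, hτ, Equiv.Perm.sign_swap (pr_ne_ps k k)] at hdet
    have : ∀ x, (d x : F) = ((dfun (pr k) (-1) (ps k) (-1) x : Fˣ) : F) := fun x => by
      rw [hd]
      by_cases h2 : x = ps k
      · subst h2; simp [dfun]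
      by_cases h1 : x = pr k
      · subst h1; simp [dfun, pr_ne_ps]
      simp [dfun, h1, h2]
    simp only [this, prod_dfun (pr_ne_ps k k)] at hdet
    simp at hdet
    exact S.two (by linear_combination -hdet)
  by_cases hplus : ∀ k, act z (W k) = W k
  · exact absurd (ext_VW S (fun i => by rw [hz.fix, act_one]) fun i => by rw [hplus, act_one]) hz1
  push Not at hneg hplus
  obtain ⟨k, hk⟩ := hplus
  obtain ⟨l, hl⟩ := hneg
  have hk' := (hz.line_of_mon S hm k).resolve_left hk
  have hl' := (hz.line_of_mon S hm l).resolve_right hl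
  have hkl : k ≠ l := fun e => hl (e ▸ hk')
  refine ⟨l, hl', fun m hml => ?_⟩
  by_cases hmk : m = k
  · exact hmk ▸ hk'
  · exact hz2 k l hkl hk' hl' m hmk hml

/-- Vectors fixed by such an element lie on the single line. -/
lemma line_of_sign {z g : GL (Fin 6) F} (hz : FixV G z) {l : Fin 3}
    (hl : act z (W l) = W l) (ho : ∀ k, k ≠ l → act z (W k) = -W k) (hg : FixV G g) {i : Fin 3}
    (h : act z (act g (W i)) = act g (W i)) : act g (W i) = W l ∨ act g (W i) = -W l := by
  have hzs : ∀ k, act z (W k) = if k = l then W k else -W k := fun k => by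
    split_ifs with e
    · exact e ▸ hl
    · exact ho k e
  have he := hg.expand S i
  have h0 : ∀ k, k ≠ l → act g (W i) (pr k) = 0 := fun k hk => by
    have e := congrFun h (pr k)
    rw [he, act, mulVec_add, mulVec_add, mulVec_smul, mulVec_smul, mulVec_smul] at e
    change ((act g (W i) (pr 0) • act z (W 0) + act g (W i) (pr 1) • act z (W 1) +
      act g (W i) (pr 2) • act z (W 2) : Fin 6 → F)) (pr k) = _ at e
    rw [hzs, hzs, hzs] at e
    clear he h
    fin_cases k <;> fin_cases l <;> simp [W_pr] at e hk ⊢ <;> exact half_zero S.two e.symm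
  have hw := W_eq S (hg.pairs S i) h0
  rcases hg.norm_W S hw with e | e <;> rw [e] at hw
  · exact Or.inl (by rw [hw, one_smul])
  · exact Or.inr (by rw [hw, neg_one_smul])

omit S in
/-- The line of sum `i` goes to the line of sum `j`. -/
def L (g : GL (Fin 6) F) (i j : Fin 3) : Prop := act g (W i) = W j ∨ act g (W i) = -W j

omit S in
lemma L_inv {g : GL (Fin 6) F} {i j : Fin 3} (h : L g i j) : L g⁻¹ j i := by
  rcases h with h | h
  · exact Or.inl (by rw [← h, act_inv])
  · right
    have : (W j : Fin 6 → F) = -act g (W i) := by rw [h, neg_neg]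
    rw [this, show act g⁻¹ (-act g (W i)) = -act g⁻¹ (act g (W i)) from mulVec_neg _ _, act_inv]

lemma L_unique {g : GL (Fin 6) F} {i i' j : Fin 3} (h : L g i j) (h' : L g i' j) : i = i' := by
  by_contra hne
  have e1 : (W i : Fin 6 → F) = W i' ∨ (W i : Fin 6 → F) = -W i' := by
    rcases L_inv h with a | a <;> rcases L_inv h' with b | b <;> rw [a] at b
    · exact Or.inl b
    · exact Or.inr b
    · exact Or.inr (by rw [← b, neg_neg])
    · exact Or.inl (neg_inj.1 b)
  rcases e1 with e | e <;> have := congrFun e (pr i) <;> simp [W_pr, hne] at this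

/-- A monomial conjugate gives a line. -/
lemma line_of_conj {g : GL (Fin 6) F} (hg : FixV G g) {i : Fin 3}
    (hm : Mon (g * σv F i * g⁻¹)) : ∃ l, L g i l := by
  set u := g * σv F i * g⁻¹ with hu
  have huV : FixV G u := (hg.mul (σv_fixV S i)).mul hg.inv
  have hu1 : u ≠ 1 := fun e => by
    have e' : σv F i = 1 := by
      rw [show σv F i = g⁻¹ * u * g by rw [hu]; group, e]; group
    obtain ⟨k, hk⟩ : ∃ k, k ≠ i := exists_ne i
    have h1 := σv_W (F := F) i k
    rw [e', act_one, if_neg hk] at h1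
    have := congrFun h1 (pr k)
    simp [W_pr] at this
    exact S.two (by linear_combination this)
  obtain ⟨l, hl, ho⟩ := unique_sign S huV hm hu1
  exact ⟨l, line_of_sign S huV hl ho hg (by
    rw [hu, act_mul, act_mul, act_inv, σv_W, if_pos rfl])⟩

lemma conj_of_L {g : GL (Fin 6) F} (hg : FixV G g) {i j : Fin 3} (h : L g i j) :
    g * σv F i = σv F j * g := by
  refine ext_VW S (fun k => ?_) fun k => ?_
  · rw [act_mul, act_mul, (σv_fixV S i).fix, hg.fix, (σv_fixV S j).fix]
  rw [act_mul, act_mul, σv_W]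
  by_cases hk : k = i
  · subst hk
    rw [if_pos rfl]
    rcases h with e | e <;> rw [e]
    · rw [σv_W, if_pos rfl]
    · rw [show act (σv F j) (-W j) = -act (σv F j) (W j) from mulVec_neg _ _, σv_W, if_pos rfl]
  rw [if_neg hk, show act g (-W k) = -act g (W k) from mulVec_neg _ _]
  have ho := S.hyp.dot g hg.mem (W k) (W i)
  have hperp : (W k : Fin 6 → F) ⬝ᵥ W i = 0 := by
    simp [W, E, pr_inj.ne hk, ps_inj.ne hk, pr_ne_ps, (pr_ne_ps _ _).symm]
  have hj : act g (W k) (pr j) = 0 := by
    refine (mul_eq_zero.1 (show (2 : F) * act g (W k) (pr j) = 0 from ?_)).resolve_left S.two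
    have e : act g (W k) ⬝ᵥ W j = 0 := by
      rcases h with e | e <;> rw [e, hperp] at ho
      · exact ho
      · rwa [dotProduct_neg, neg_eq_zero] at ho
    rw [dot_W, ← hg.pairs S k] at e
    linear_combination e
  funext x
  obtain ⟨m, rfl | rfl⟩ := pair_cover x
  · rw [(σv_apply j _ m).1, Pi.neg_apply]
    split_ifs with e
    · rw [e, hj, neg_zero]
    · rw [hg.pairs S]
  · rw [(σv_apply j _ m).2, Pi.neg_apply]
    split_ifs with e
    · rw [e, ← hg.pairs S, hj, neg_zero]
    · rw [hg.pairs S]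

/-- Elements fixing the three differences are monomial. -/
lemma mon_fixV [Finite F] (h3 : (3 : F) ≠ 0) {c : GL (Fin 6) F} (hc : FixV G c) : Mon c := by
  by_contra hnm
  obtain ⟨e, i, j, he, hij, heq⟩ : ∃ e i j, FixV G e ∧ i ≠ j ∧ L e i j := by
    set u := c * σv F 0 * c⁻¹ with hu
    have huV : FixV G u := (hc.mul (σv_fixV S 0)).mul hc.inv
    by_cases hum : Mon u
    · obtain ⟨l, hl⟩ := line_of_conj S hc hum
      exact ⟨c, 0, l, hc, fun e => hnm (hc.mon_of_line S (i := 0) (e ▸ hl)), hl⟩
    have huu : u * u = 1 := by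
      rw [hu, show c * σv F 0 * c⁻¹ * (c * σv F 0 * c⁻¹) = c * (σv F 0 * σv F 0) * c⁻¹ by group, σv_sq]
      group
    have each : ∀ k, ∃ g, FixV G g ∧ g * σv F k * g⁻¹ = u := fun k => by
      rcases dihedral (σv_fixV S k).mem huV.mem (σv_sq k) huu with
        ⟨z, hz, -, hz1, hzs, hzu, hzf, -⟩ | ⟨g, hg, hgg, hgf⟩
      · exfalso
        have hzV : FixV G z := ⟨hz, fun i => hzf _ ((σv_fixV S k).fix i) (huV.fix i)⟩
        obtain ⟨l, hl, ho⟩ := unique_sign S hzV (mon_comm_σv S hzV hzs) hz1
        exact hum (huV.mon_of_line S (i := l) (line_of_sign S hzV hl ho huV (by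
          rw [← act_mul, hzu, act_mul, hl])))
      · exact ⟨g, ⟨hg, fun i => hgf _ ((σv_fixV S k).fix i) (huV.fix i)⟩, hgg⟩
    obtain ⟨g0, hg0, e0⟩ := each 0
    obtain ⟨g1, hg1, e1⟩ := each 1
    refine ⟨g1⁻¹ * g0, 0, 1, hg1.inv.mul hg0, by decide, fixed_line S (hg1.inv.mul hg0) ?_⟩
    rw [← act_mul, show σv F 1 * (g1⁻¹ * g0) = g1⁻¹ * (g1 * σv F 1 * g1⁻¹) * g0 by group, e1, ← e0,
      show g1⁻¹ * (g0 * σv F 0 * g0⁻¹) * g0 = g1⁻¹ * g0 * σv F 0 by group, act_mul, σv_W, if_pos rfl]
  have henm : ∀ k, ¬ L e k k := fun k hk => by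
    have hline : L e i i := he.line_of_mon S (he.mon_of_line S hk) i
    rcases heq with a | a <;> rcases hline with b | b <;> rw [a] at b <;>
      have := congrFun b (pr i) <;> simp [W_pr, hij] at this
  have hm2 : Mon (e * σv F j * e⁻¹) := by
    refine mon_comm_σv S ((he.mul (σv_fixV S j)).mul he.inv) (i := j) ?_
    have hij' : σv F i * σv F j = σv F j * σv F i := by
      refine ext_VW S (fun k => ?_) fun k => ?_
      · rw [act_mul, act_mul, (σv_fixV S i).fix, (σv_fixV S j).fix, (σv_fixV S i).fix]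
      · simp only [act_mul, σv_W]
        split_ifs <;> subst_vars <;> first
          | exact absurd rfl hij
          | simp [σv_W, act_neg, *, Ne.symm]
    have ej : σv F j = e * σv F i * e⁻¹ := by rw [conj_of_L S he heq]; group
    calc e * σv F j * e⁻¹ * σv F j = e * σv F j * e⁻¹ * (e * σv F i * e⁻¹) := by rw [← ej]
      _ = e * (σv F j * σv F i) * e⁻¹ := by group
      _ = e * (σv F i * σv F j) * e⁻¹ := by rw [hij']
      _ = e * σv F i * e⁻¹ * (e * σv F j * e⁻¹) := by group
      _ = σv F j * (e * σv F j * e⁻¹) := by rw [← ej]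
  obtain ⟨l, hl⟩ := line_of_conj S he hm2
  have hlj : l ≠ j := fun h => henm j (h ▸ hl)
  have third : ∀ {a b : Fin 3} {a' b' : Fin 3}, a ≠ b → L e a a' → L e b b' → ∀ m, m ≠ a → m ≠ b →
      ∀ m', m' ≠ a' → m' ≠ b' → L e m m' := by
    intro a b a' b' hab ha hb m hma hmb m' hma' hmb'
    refine fixed_line S he ?_
    funext x
    have hz : ∀ k, k ≠ m' → act e (W m) (pr k) = 0 := fun k hk => by
      have hk' : k = a' ∨ k = b' := by
        have ne : a' ≠ b' := fun q => hab (L_unique S ha (q ▸ hb))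
        revert hk hma' hmb' ne
        fin_cases k <;> fin_cases m' <;> fin_cases a' <;> fin_cases b' <;> simp
      have aux : ∀ {c c' : Fin 3}, m ≠ c → L e c c' → act e (W m) (pr c') = 0 := by
        intro c c' hmc hc'
        have ho := S.hyp.dot e he.mem (W m) (W c)
        rw [show (W m : Fin 6 → F) ⬝ᵥ W c = 0 by
          simp [W, E, pr_inj.ne hmc, ps_inj.ne hmc, pr_ne_ps, (pr_ne_ps _ _).symm]] at ho
        have e' : act e (W m) ⬝ᵥ W c' = 0 := by
          rcases hc' with q | q <;> rw [q] at ho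
          · exact ho
          · rwa [dotProduct_neg, neg_eq_zero] at ho
        rw [dot_W, ← he.pairs S m] at e'
        exact (mul_eq_zero.1 (show (2 : F) * _ = 0 by linear_combination e')).resolve_left S.two
      rcases hk' with rfl | rfl
      · exact aux hma ha
      · exact aux hmb hb
    obtain ⟨k, rfl | rfl⟩ := pair_cover x
    · rw [(σv_apply m' _ k).1]
      split_ifs with q
      · rfl
      · rw [← he.pairs S, hz k q, neg_zero]
    · rw [(σv_apply m' _ k).2]
      split_ifs with q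
      · rfl
      · rw [← he.pairs S, hz k q, neg_zero]
  obtain ⟨m, hmi, hmj⟩ : ∃ m, m ≠ i ∧ m ≠ j := by
    revert hij; fin_cases i <;> fin_cases j <;> decide
  have hli : l ≠ i := fun h => henm m (third hij heq (h ▸ hl) m hmi hmj m hmj hmi)
  have hml : l = m := by
    revert hli hlj hmi hmj hij
    fin_cases i <;> fin_cases j <;> fin_cases l <;> fin_cases m <;> simp
  subst hml
  have hmap : L e l i := third hij heq hl l hmi hmj i hij hmi.symm
  fin_cases i <;> fin_cases j <;> fin_cases l <;> first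
    | contradiction
    | exact no_cycle S h3 he (by assumption) (by assumption)
    | exact no_cycle S h3 he.inv (L_inv (by assumption)) (L_inv (by assumption))

end CfsgLib.ClassicalMax.OmSix
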