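/-
Six coordinates: the centraliser of a double transposition is monomial, and so are all elements.
-/
import Cfsg.Agent.Lib.ClassicalMax.OrthSix.Pairs
set_option autoImplicit false
set_option linter.unusedSectionVars false

namespace CfsgLib.ClassicalMax.OmSix

open Matrix Module
open CfsgLib.ClassicalMax.MonG CfsgLib.ClassicalMax.OmL

variable {F : Type*} [Field F]

/-- The double transposition `(01)(45)`. -/
noncomputable def M1 (F : Type*) [Field F] : GL (Fin 6) F :=
  mon (Equiv.swap 0 1 * Equiv.swap 4 5) 1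

/-- The double transposition `(01)(45)` with signs at `0, 1`. -/
noncomputable def M2 (F : Type*) [Field F] : GL (Fin 6) F :=
  mon (Equiv.swap 0 1 * Equiv.swap 4 5) ![-1, -1, 1, 1, 1, 1]

lemma M1_apply (v : Fin 6 → F) : act (M1 F) v = ![v 1, v 0, v 2, v 3, v 5, v 4] := by
  funext i
  rw [M1, act, mon_mulVec, Equiv.Perm.mul_def]
  fin_cases i <;> simp [Equiv.swap_apply_def]

lemma M2_apply (v : Fin 6 → F) : act (M2 F) v = ![-v 1, -v 0, v 2, v 3, v 5, v 4] := by
  funext i
  rw [M2, act, mon_mulVec, Equiv.Perm.mul_def]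
  fin_cases i <;> simp [Equiv.swap_apply_def]

variable {G : Subgroup (GL (Fin 6) F)} (S : Six G)

include S

omit S in
lemma act_comm {c z : GL (Fin 6) F} (h : c * z = z * c) (v : Fin 6 → F) :
    act z (act c v) = act c (act z v) := by rw [← act_mul, ← h, act_mul]

/-- A sign change is not conjugate to a permuting element by a monomial element. -/
lemma no_mon_conj {g : GL (Fin 6) F} (hg : g ∈ G) {a b : Fin 6} (hab : a ≠ b) {τ : Equiv.Perm (Fin 6)}
    {e : Fin 6 → Fˣ} (hτ : τ ≠ 1) (h : g * sgn a b * g⁻¹ = mon τ e) : False := by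
  obtain ⟨σ, d, rfl⟩ := exists_mon_of_Mon (mon_of_conj S hg hab (h ▸ mon_Mon τ e))
  rw [mul_inv_eq_iff_eq_mul, sgn, mon_mul, mon_mul] at h
  have := (mon_inj h).1
  rw [mul_one, eq_comm, mul_eq_right] at this
  exact hτ this

/-- The centraliser of two double transpositions sharing a pair. -/
lemma mon_comm_M1 [Finite F] (h3 : (3 : F) ≠ 0) {c : GL (Fin 6) F} (hc : c ∈ G) (hT : c * T2 F = T2 F * c)
    (hM : c * M1 F = M1 F * c) : Mon c := by
  have h2 := S.two
  have key' : ∀ i, ∃ t : F, act c (V i) = t • V i := by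
    intro i
    set v := act c (V i) with hv
    have e1 : act (T2 F) v = act c (act (T2 F) (V i)) := act_comm hT _
    have e3 : act (M1 F) v = act c (act (M1 F) (V i)) := act_comm hM _
    have t0 : act (T2 F) (V (F := F) i) = if i = 2 then V i else -V i := by
      rw [T2_apply]; funext x; fin_cases i <;> fin_cases x <;> simp [V, pr, ps, E]
    have t1 : act (M1 F) (V (F := F) i) = if i = 1 then V i else -V i := by
      rw [M1_apply]; funext x; fin_cases i <;> fin_cases x <;> simp [V, pr, ps, E]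
    rw [t0, T2_apply] at e1
    rw [t1, M1_apply] at e3
    rw [apply_ite (act c), act_neg, ← hv] at e1 e3
    refine ⟨v (pr i), ?_⟩
    clear_value v
    clear hv
    fin_cases i
    all_goals simp [act_neg] at e1 e3
    all_goals
      have a0 := congrFun e1 0
      have a2 := congrFun e1 2
      have a4 := congrFun e1 4
      have a5 := congrFun e1 5
      have b0 := congrFun e3 0
      have b2 := congrFun e3 2
      have b3 := congrFun e3 3
      have b4 := congrFun e3 4
      simp at a0 a2 a4 a5 b0 b2 b3 b4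
    · funext x
      have z2 : v 2 = 0 := half_zero h2 b2
      have z3 : v 3 = 0 := half_zero h2 b3
      have z4 : v 4 = 0 := half_zero h2 a4
      have z5 : v 5 = 0 := half_zero h2 a5
      fin_cases x <;> simp [V, pr, ps, E, z2, z3, z4, z5, a0]
    · funext x
      have z0 : v 0 = 0 := half_zero h2 (b0.symm.trans a0)
      have z1 : v 1 = 0 := b0.trans z0
      have z4 : v 4 = 0 := half_zero h2 a4
      have z5 : v 5 = 0 := half_zero h2 a5
      fin_cases x <;> simp [V, pr, ps, E, z0, z1, z4, z5, a2]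
    · funext x
      have z0 : v 0 = 0 := half_zero h2 (a0.symm.trans b0)
      have z1 : v 1 = 0 := a0.trans z0
      have z2 : v 2 = 0 := half_zero h2 b2
      have z3 : v 3 = 0 := half_zero h2 b3
      fin_cases x <;> simp [V, pr, ps, E, z0, z1, z2, z3, b4]
  choose t ht using key'
  have ht2 : ∀ i, t i * t i = 1 := fun i => by
    refine mul_left_cancel₀ h2 ?_
    have := S.hyp.dot c hc (V i) (V i)
    rw [ht, smul_dotProduct, dotProduct_smul, dot_V, V_pr, V_ps, if_pos rfl, if_pos rfl] at this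
    simp only [smul_eq_mul] at this
    linear_combination this
  have hu : ∀ i, t i ≠ 0 := fun i e => by have := ht2 i; rw [e, mul_zero] at this; exact zero_ne_one this
  set u : Fin 3 → Fˣ := fun i => Units.mk0 (t i) (hu i) with hudef
  set d : Fin 6 → Fˣ := ![u 0, u 0, u 1, u 1, u 2, u 2] with hd
  have hD : mon 1 d ∈ G := mon_one_mem S (fun x => by fin_cases x <;> simp [hd, hudef, ht2]) (by
    rw [Fin.prod_univ_six]
    simp [hd, hudef]
    linear_combination (t 1 * t 1 * (t 2 * t 2)) * ht2 0 + (t 2 * t 2) * ht2 1 + ht2 2)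
  have hV : FixV G (mon 1 d * c) := ⟨G.mul_mem hD hc, fun i => by
    rw [act_mul, ht, act, dg_mulVec]
    funext x
    obtain ⟨j, rfl | rfl⟩ := pair_cover x <;> fin_cases i <;> fin_cases j <;>
      simp [hd, hudef, V, pr, ps, E, ht2]⟩
  have := Mon_mul (Mon_inv (mon_Mon (1 : Equiv.Perm (Fin 6)) d)) (mon_fixV S h3 hV)
  rwa [← mul_assoc, inv_mul_cancel, one_mul] at this

/-- The centraliser of two double transpositions with disjoint negated planes. -/
lemma mon_comm_M2 {c : GL (Fin 6) F} (hc : c ∈ G) (hT : c * T2 F = T2 F * c)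
    (hM : c * M2 F = M2 F * c) : Mon c := by
  have h2 := S.two
  have h45 : (4 : Fin 6) ≠ 5 := by decide
  refine mon_of_conj S hc h45 ?_
  set u := c * sgn 4 5 * c⁻¹ with hudef
  have huG : u ∈ G := G.mul_mem (G.mul_mem hc (S.hyp.sgn 4 5 h45)) (G.inv_mem hc)
  set f := act c (E 4) with hf
  set f' := act c (E 5) with hf'
  have ef : act (M2 F) f = f' := by
    rw [hf, act_comm hM, hf']
    congr 1
    rw [M2_apply]; funext x; fin_cases x <;> simp [E]
  have et : act (T2 F) f = f := by
    rw [hf, act_comm hT]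
    congr 1
    rw [T2_apply]; funext x; fin_cases x <;> simp [E]
  rw [T2_apply] at et
  have f1 : f 1 = f 0 := by simpa using congrFun et 0
  have f3 : f 3 = f 2 := by simpa using congrFun et 2
  rw [M2_apply] at ef
  have hn := colnorm S.hyp hc 4
  have ho := colorth S.hyp hc h45
  rw [← hf, dot_six, f1, f3] at hn
  rw [← hf, ← hf', ← ef, dot_six] at ho
  simp only [Matrix.cons_val, f1, f3] at ho
  set x := f 0
  set y := f 2
  set p := f 4
  set q := f 5
  have hu : ∀ v, act u v = v - (2 * (v ⬝ᵥ f)) • f - (2 * (v ⬝ᵥ f')) • f' :=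
    fun v => conj_sgn_apply S.hyp hc h45 v
  have c0 : act u (E 0) = ![1 - 4 * (x * x), -(4 * (x * x)), 0, 0, -(2 * x * (p - q)), 2 * x * (p - q)] := by
    rw [hu, ← ef]
    funext i
    fin_cases i <;> simp [E, f1, f3, x, y, p, q] <;> ring
  have c2 : act u (E 2) = ![0, 0, 1 - 4 * (y * y), -(4 * (y * y)), -(2 * y * (p + q)), -(2 * y * (p + q))] := by
    rw [hu, ← ef]
    funext i
    fin_cases i <;> simp [E, f1, f3, x, y, p, q] <;> ring
  by_cases hx : x = 0
  · exact mon_of_col S huG (j := 0) (a := 0) (t := 1) (by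
      rw [c0, one_smul]; funext i; fin_cases i <;> simp [E, hx])
  by_cases hy : y = 0
  · exact mon_of_col S huG (j := 2) (a := 2) (t := 1) (by
      rw [c2, one_smul]; funext i; fin_cases i <;> simp [E, hy])
  have z4 : (4 : F) ≠ 0 := by rw [show (4 : F) = 2 * 2 by norm_num]; exact mul_ne_zero h2 h2
  by_cases hpq : p = q
  · refine mon_of_col S huG (j := 0) (a := 1) (t := -1) ?_
    have h4 : 4 * (x * x) = 1 := by
      linear_combination hn - ho + (q - p) * hpq
    rw [c0]; funext i; fin_cases i <;> simp [E, h4, hpq]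
  by_cases hpq' : p = -q
  · refine mon_of_col S huG (j := 2) (a := 3) (t := -1) ?_
    have h4 : 4 * (y * y) = 1 := by
      linear_combination hn + ho - (p + q) * hpq'
    rw [c2]; funext i; fin_cases i <;> simp [E, h4, hpq']
  have hx8 : 8 * (x * x) = 1 := by
    rcases key_sgn S huG (p := 2) (k := 0) (l := 1) (by decide) (by rw [c2]; rfl) (by rw [c2]; rfl) 0
      with e | e | e
    · rw [c0] at e
      simp at e
      exact sub_eq_zero.1 (mul_self_eq_zero.1 (show (8 * (x * x) - 1) * (8 * (x * x) - 1) = 0 by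
        linear_combination e))
    · rw [c0] at e
      simp at e
      exact absurd e.2 (by simp [hx, z4])
    · have := e 5 (by decide) (by decide)
      rw [c0] at this
      simp [hx, h2, sub_eq_zero, hpq] at this
  have hy8 : 8 * (y * y) = 1 := by
    rcases key_sgn S huG (p := 0) (k := 2) (l := 3) (by decide) (by rw [c0]; rfl) (by rw [c0]; rfl) 2
      with e | e | e
    · rw [c2] at e
      simp at e
      exact sub_eq_zero.1 (mul_self_eq_zero.1 (show (8 * (y * y) - 1) * (8 * (y * y) - 1) = 0 by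
        linear_combination e))
    · rw [c2] at e
      simp at e
      exact absurd e.2 (by simp [hy, z4])
    · have := e 5 (by decide) (by decide)
      rw [c2] at this
      simp [hy, h2, add_eq_zero_iff_eq_neg, hpq'] at this
  exfalso
  set b := -(2 * y * (p + q)) with hb
  have hb0 : b ≠ 0 := by
    simp [hb, hy, h2, add_eq_zero_iff_eq_neg, hpq']
  set a := -(2 * x * (p - q)) with ha
  have ha2 : (2 * a) * (2 * a) = 1 := by
    rw [ha]
    linear_combination (2 * (p - q) * (p - q)) * hx8 + 2 * hn - 2 * ho - hx8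
  have h8x : 2 * (1 - 4 * (x * x)) = 1 ∧ 2 * (-(4 * (x * x))) = -1 :=
    ⟨by linear_combination -hx8, by linear_combination -hx8⟩
  have h8y : 2 * (1 - 4 * (y * y)) = 1 ∧ 2 * (-(4 * (y * y))) = -1 :=
    ⟨by linear_combination -hy8, by linear_combination -hy8⟩
  have c5 : act u (E 0) 5 = -a := by rw [c0, ha]; simp
  obtain ⟨σ, hσ, hfix, himg⟩ : ∃ σ : Equiv.Perm (Fin 6), Equiv.Perm.sign σ = 1 ∧
      act (mon σ 1) (act u (E 0)) = act u (E 0) ∧
      act (mon σ 1) (act u (E 2)) = ![b, b, 1 - 4 * (y * y), -(4 * (y * y)), 0, 0] := by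
    rcases mul_self_eq_one_iff.1 ha2 with e | e
    · refine ⟨Equiv.swap 0 4 * Equiv.swap 1 5, by decide, ?_, ?_⟩ <;> funext i <;>
        rw [act, mon_mulVec, Equiv.Perm.mul_def, Pi.one_apply, Units.val_one, one_mul]
      · apply mul_left_cancel₀ h2
        rw [c0]
        fin_cases i <;> simp [Equiv.swap_apply_def, ← ha, mul_sub] <;>
          simp only [ha] at e ⊢ <;>
          first
            | linear_combination e - h8x.1
            | linear_combination h8x.1 - e
            | linear_combination -e - h8x.2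
            | linear_combination h8x.2 + e
      · rw [c2]
        fin_cases i <;> simp [Equiv.swap_apply_def, hb]
    · refine ⟨Equiv.swap 0 5 * Equiv.swap 1 4, by decide, ?_, ?_⟩ <;> funext i <;>
        rw [act, mon_mulVec, Equiv.Perm.mul_def, Pi.one_apply, Units.val_one, one_mul]
      · apply mul_left_cancel₀ h2
        rw [c0]
        fin_cases i <;> simp [Equiv.swap_apply_def, ← ha, mul_sub] <;>
          simp only [ha] at e ⊢ <;>
          first
            | linear_combination e - h8x.2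
            | linear_combination h8x.2 - e
            | linear_combination -e - h8x.1
            | linear_combination h8x.1 + e
      · rw [c2]
        fin_cases i <;> simp [Equiv.swap_apply_def, hb]
  rcases key S huG (S.hyp.alt σ hσ) (p := 0) (t := 1) (by rw [one_smul]; exact hfix) 2 with e | e | e <;>
    rw [himg, c2] at e
  · rw [dot_six] at e
    simp at e
    exact h2 (by linear_combination 4 * e - (2 * (1 - 4 * (y * y)) + 1) * h8y.1 -
      (2 * (-(4 * (y * y))) - 1) * h8y.2)
  · exact hb0 (by simpa using congrFun e 0)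
  · exact hb0 (by simpa using congrFun e 0)

/-- Change of coordinates of a centraliser. -/
lemma conj_data {c : GL (Fin 6) F} (hc : c ∈ G) (π : Equiv.Perm (Fin 6)) (ε : Fin 6 → Fˣ) :
    ∃ d ∈ G.comap (MulAut.conj (mon π ε : GL (Fin 6) F)).toMonoidHom,
      (Mon d → Mon c) ∧
      ∀ T z, z = mon π ε * T * (mon π ε)⁻¹ → c * z = z * c → d * T = T * d := by
  set Q : GL (Fin 6) F := mon π ε with hQ
  refine ⟨Q⁻¹ * c * Q, ?_, fun hm => ?_, fun T z hz hcom => ?_⟩
  · change Q * (Q⁻¹ * c * Q) * Q⁻¹ ∈ G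
    rwa [show Q * (Q⁻¹ * c * Q) * Q⁻¹ = c by group]
  · have := Mon_mul (Mon_mul (hQ ▸ mon_Mon π ε : Mon Q) hm) (Mon_inv (hQ ▸ mon_Mon π ε : Mon Q))
    rwa [show Q * (Q⁻¹ * c * Q) * Q⁻¹ = c by group] at this
  · rw [show T = Q⁻¹ * z * Q by rw [hz]; group,
      show Q⁻¹ * c * Q * (Q⁻¹ * z * Q) = Q⁻¹ * (c * z) * Q by group, hcom]
    group

/-- Transport of the centraliser of a standard element. -/
lemma mon_comm_conj {T z c : GL (Fin 6) F} {π : Equiv.Perm (Fin 6)} {ε : Fin 6 → Fˣ}
    (hT : ∀ d ∈ G.comap (MulAut.conj (mon π ε : GL (Fin 6) F)).toMonoidHom, d * T = T * d → Mon d)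
    (hc : c ∈ G) (hz : z = mon π ε * T * (mon π ε)⁻¹) (hcom : c * z = z * c) : Mon c := by
  obtain ⟨d, hd, hback, hco⟩ := conj_data S hc π ε
  exact hback (hT d hd (hco T z hz hcom))

omit S in
lemma comm_neg {c z : GL (Fin 6) F} (h : c * z = z * c) : c * -z = -z * c := by
  rw [mul_neg, neg_mul, h]

omit S in
lemma perm_of_conj {σ π τ : Equiv.Perm (Fin 6)} {d ε e : Fin 6 → Fˣ}
    (h : (mon σ d : GL (Fin 6) F) = mon π ε * mon τ e * (mon π ε)⁻¹) : σ = π * τ * π⁻¹ := by
  rw [eq_mul_inv_iff_mul_eq, mon_mul, mon_mul] at h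
  rw [eq_mul_inv_iff_mul_eq]
  exact (mon_inj h).1

/-- The double transposition `(01)(45)` with any signs. -/
lemma mon_comm_std [Finite F] (h3 : (3 : F) ≠ 0) {c : GL (Fin 6) F} (hc : c ∈ G) (hT : c * T2 F = T2 F * c)
    (d : Fin 6 → Fˣ) (h0 : d 0 = d 1) (h2 : d 2 = d 3) (h4 : d 4 = d 5)
    (hd : ∀ x, d x = 1 ∨ d x = -1)
    (hM : c * mon (Equiv.swap 0 1 * Equiv.swap 4 5) d = mon (Equiv.swap 0 1 * Equiv.swap 4 5) d * c) :
    Mon c := by
  have hsq : ∀ x, d x * d x = 1 := fun x => by rcases hd x with e | e <;> simp [e]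
  have hM' : c * mon (Equiv.swap 0 1 * Equiv.swap 4 5) (fun x => d 2 * d x) =
      mon (Equiv.swap 0 1 * Equiv.swap 4 5) (fun x => d 2 * d x) * c := by
    rcases hd 2 with e | e
    · simpa [e] using hM
    · have := comm_neg hM
      rw [neg_mon] at this
      simpa [e] using this
  have hε : ∀ x, ((![1, 1, 1, 1, 1, d 2 * d 4] x : Fˣ) : F) * (![1, 1, 1, 1, 1, d 2 * d 4] x : Fˣ) = 1 := fun x => by
    rw [← Units.val_mul]
    fin_cases x <;> simp [mul_mul_mul_comm, hsq]
  obtain ⟨e, he, hback, hco⟩ := conj_data S hc 1 ![1, 1, 1, 1, 1, d 2 * d 4]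
  have e1 : e * T2 F = T2 F * e := hco _ _ (by
    rw [T2]
    refine conj_eq fun i => ⟨by simp, ?_⟩
    fin_cases i <;> simp [Equiv.swap_apply_def]) hT
  have e2 : e * mon (Equiv.swap 0 1 * Equiv.swap 4 5) ![d 2 * d 0, d 2 * d 0, 1, 1, 1, 1] =
      mon (Equiv.swap 0 1 * Equiv.swap 4 5) ![d 2 * d 0, d 2 * d 0, 1, 1, 1, 1] * e := hco _ _ (by
    refine conj_eq fun i => ⟨by simp, ?_⟩
    fin_cases i <;> simp [Equiv.swap_apply_def, ← h0, ← h2, ← h4, hsq, mul_mul_mul_comm]) hM'
  refine hback ?_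
  rcases hd 0 with k0 | k0 <;> rcases hd 2 with k2 | k2 <;>
    simp only [k0, k2, mul_one, one_mul, neg_mul_neg] at e2
  · exact mon_comm_M1 (six_conj S hε) h3 he e1 (by
      rw [M1, show (1 : Fin 6 → Fˣ) = ![1, 1, 1, 1, 1, 1] by funext i; fin_cases i <;> rfl]; exact e2)
  · exact mon_comm_M2 (six_conj S hε) he e1 e2
  · exact mon_comm_M2 (six_conj S hε) he e1 e2
  · exact mon_comm_M1 (six_conj S hε) h3 he e1 (by
      rw [M1, show (1 : Fin 6 → Fˣ) = ![1, 1, 1, 1, 1, 1] by funext i; fin_cases i <;> rfl]; exact e2)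

/-- The common centraliser of two commuting involutions. -/
lemma mon_comm_pair [Finite F] (h3 : (3 : F) ≠ 0) {m c : GL (Fin 6) F} (hm : m ∈ G) (hmm : m * m = 1)
    (h1 : m ≠ 1) (h1' : m ≠ -1) (hz : m ≠ T2 F) (hz' : m ≠ -T2 F)
    (hmT : m * T2 F = T2 F * m) (hm01 : m * sgn 0 1 = sgn 0 1 * m)
    (hc : c ∈ G) (hcT : c * T2 F = T2 F * c) (hcm : c * m = m * c) : Mon c := by
  have hmon := mon_of_comm S hm (by decide) hm01
  rcases classify S hm hmon hmm with ((e | e) | ⟨a, b, hab, e | e⟩) | ⟨π, ε, hε, hT | hT⟩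
  · exact absurd e h1
  · exact absurd e h1'
  · exact mon_of_comm S hc hab (e ▸ hcm)
  · exact mon_of_comm S hc hab (by
      have := comm_neg hcm
      rwa [e, neg_neg] at this)
  swap
  · rcases hT with e | e
    · exact mon_comm_conj S (fun d hd hd' => mon_of_comm_T3 (six_conj S hε) hd hd') hc e hcm
    · exact mon_comm_conj S (fun d hd hd' => mon_of_comm_T3 (six_conj S hε) hd hd') hc e (comm_neg hcm)
  obtain ⟨σ, d, rfl⟩ := exists_mon_of_Mon hmon
  have hσ : σ = π * (Equiv.swap 0 1 * Equiv.swap 2 3) * π⁻¹ := by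
    rcases hT with e | e
    · exact perm_of_conj e
    · rw [neg_mon] at e; exact perm_of_conj e
  have hs : Equiv.Perm.sign σ = 1 := by
    rw [hσ, Equiv.Perm.sign_mul, Equiv.Perm.sign_mul, Equiv.Perm.sign_inv,
      show Equiv.Perm.sign (Equiv.swap (0 : Fin 6) 1 * Equiv.swap 2 3) = 1 by decide, mul_one,
      Int.units_mul_self]
  have hne : σ ≠ 1 := fun e => by
    rw [e, eq_comm, mul_inv_eq_one, mul_eq_left] at hσ
    exact absurd hσ (by decide)
  rw [T2, mon_mul, mon_mul] at hmT
  obtain ⟨hσT, hdT⟩ := mon_inj hmT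
  rw [sgn, mon_mul, mon_mul] at hm01
  obtain ⟨-, hd01⟩ := mon_inj hm01
  have h01 : ∀ x, x = 0 ∨ x = 1 → σ x = 0 ∨ σ x = 1 := fun x hx => by
    have e := congrFun hd01 x
    rw [Equiv.Perm.one_apply, mul_comm (dfun 0 (-1) 1 (-1) (σ x))] at e
    have e' : ((dfun 0 (-1) 1 (-1) x : Fˣ) : F) = ((dfun 0 (-1) 1 (-1) (σ x) : Fˣ) : F) :=
      congrArg Units.val (mul_left_cancel e)
    by_contra hcon
    push Not at hcon
    rw [dfun, Function.update_of_ne hcon.2, Function.update_of_ne hcon.1] at e'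
    rcases hx with rfl | rfl <;> simp at e' <;> exact S.two (by linear_combination -e')
  have hσcases : σ = Equiv.swap 0 1 * Equiv.swap 2 3 ∨ σ = Equiv.swap 0 1 * Equiv.swap 4 5 ∨
      σ = Equiv.swap 2 3 * Equiv.swap 4 5 := by
    have hσσ : ∀ x, σ (σ x) = x := fun x => (mon_inv_data S.hyp hmm x).1
    have hcomm : ∀ x, σ ((Equiv.swap (0 : Fin 6) 1 * Equiv.swap 2 3 : Equiv.Perm (Fin 6)) x) =
        (Equiv.swap (0 : Fin 6) 1 * Equiv.swap 2 3 : Equiv.Perm (Fin 6)) (σ x) := fun x => by
      have := congrArg (fun t : Equiv.Perm (Fin 6) => t x) hσT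
      simpa using this
    have k1 : σ 1 = (Equiv.swap (0 : Fin 6) 1 * Equiv.swap 2 3 : Equiv.Perm (Fin 6)) (σ 0) := hcomm 0
    have k3 : σ 3 = (Equiv.swap (0 : Fin 6) 1 * Equiv.swap 2 3 : Equiv.Perm (Fin 6)) (σ 2) := hcomm 2
    have s0 : σ 0 = 0 ∨ σ 0 = 1 := h01 0 (Or.inl rfl)
    have s2 : σ 2 = 2 ∨ σ 2 = 3 := by
      obtain ⟨t, ht⟩ : ∃ t, σ 2 = t := ⟨_, rfl⟩
      have ht' : σ t = 2 := ht ▸ hσσ 2
      rw [ht] at k3 ⊢
      fin_cases t
      · rcases s0 with e | e <;> simp [e] at ht'
      · rcases h01 1 (Or.inr rfl) with e | e <;> simp [e] at ht'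
      · exact Or.inl rfl
      · exact Or.inr rfl
      all_goals
        simp [Equiv.swap_apply_def] at k3
        exact absurd (σ.injective (k3.trans ht.symm)) (by decide)
    have s4 : σ 4 = 4 ∨ σ 4 = 5 := by
      obtain ⟨t, ht⟩ : ∃ t, σ 4 = t := ⟨_, rfl⟩
      have ht' : σ t = 4 := ht ▸ hσσ 4
      rw [ht]
      fin_cases t
      · rcases s0 with e | e <;> simp [e] at ht'
      · rcases h01 1 (Or.inr rfl) with e | e <;> simp [e] at ht'
      · rcases s2 with e | e <;> simp [e] at ht'
      · rcases s2 with e | e <;> simp [e] at k3 <;> simp [k3, Equiv.swap_apply_def] at ht'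
      · exact Or.inl rfl
      · exact Or.inr rfl
    have k5 : σ 5 = if σ 4 = 4 then 5 else 4 := by
      rcases s4 with e | e
      · rw [if_pos e]
        obtain ⟨t, ht⟩ : ∃ t, σ 5 = t := ⟨_, rfl⟩
        have ht' : σ t = 5 := ht ▸ hσσ 5
        rw [ht]
        fin_cases t
        · rcases s0 with q | q <;> simp [q] at ht'
        · rcases h01 1 (Or.inr rfl) with q | q <;> simp [q] at ht'
        · rcases s2 with q | q <;> simp [q] at ht'
        · rcases s2 with q | q <;> simp [q] at k3 <;> simp [k3, Equiv.swap_apply_def] at ht'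
        · simp [e] at ht'
        · rfl
      · rw [e, if_neg (by decide), ← hσσ 4, e]
    have build : ∀ t : Equiv.Perm (Fin 6), t 0 = σ 0 → t 1 = σ 1 → t 2 = σ 2 → t 3 = σ 3 → t 4 = σ 4 →
        t 5 = σ 5 → σ = t := fun t a0 a1 a2 a3 a4 a5 => Equiv.ext fun x => by
      fin_cases x
      exacts [a0.symm, a1.symm, a2.symm, a3.symm, a4.symm, a5.symm]
    rcases s0 with e0 | e0 <;> rcases s2 with e2 | e2 <;> rcases s4 with e4 | e4 <;>
      simp [e0, e2, e4, Equiv.swap_apply_def] at k1 k3 k5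
    · exact absurd (build 1 (by simp [e0]) (by simp [k1]) (by simp [e2]) (by simp [k3]) (by simp [e4])
        (by simp [k5])) hne
    · rw [build (Equiv.swap 4 5) (by rw [e0]; decide) (by rw [k1]; decide) (by rw [e2]; decide)
        (by rw [k3]; decide) (by rw [e4]; decide) (by rw [k5]; decide)] at hs
      exact absurd hs (by decide)
    · rw [build (Equiv.swap 2 3) (by rw [e0]; decide) (by rw [k1]; decide) (by rw [e2]; decide)
        (by rw [k3]; decide) (by rw [e4]; decide) (by rw [k5]; decide)] at hs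
      exact absurd hs (by decide)
    · exact Or.inr (Or.inr (build _ (by rw [e0]; decide) (by rw [k1]; decide) (by rw [e2]; decide)
        (by rw [k3]; decide) (by rw [e4]; decide) (by rw [k5]; decide)))
    · rw [build (Equiv.swap 0 1) (by rw [e0]; decide) (by rw [k1]; decide) (by rw [e2]; decide)
        (by rw [k3]; decide) (by rw [e4]; decide) (by rw [k5]; decide)] at hs
      exact absurd hs (by decide)
    · exact Or.inr (Or.inl (build _ (by rw [e0]; decide) (by rw [k1]; decide) (by rw [e2]; decide)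
        (by rw [k3]; decide) (by rw [e4]; decide) (by rw [k5]; decide)))
    · exact Or.inl (build _ (by rw [e0]; decide) (by rw [k1]; decide) (by rw [e2]; decide)
        (by rw [k3]; decide) (by rw [e4]; decide) (by rw [k5]; decide))
    · rw [build (Equiv.swap 0 1 * Equiv.swap 2 3 * Equiv.swap 4 5) (by rw [e0]; decide) (by rw [k1]; decide)
        (by rw [e2]; decide) (by rw [k3]; decide) (by rw [e4]; decide) (by rw [k5]; decide)] at hs
      exact absurd hs (by decide)
  have hd2 := fun x => mon_data S.hyp hm x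
  have hd1 : ∀ x, d x = 1 ∨ d x = -1 := fun x => by
    rcases mul_self_eq_one_iff.1 (hd2 x) with e | e
    · exact Or.inl (Units.ext e)
    · exact Or.inr (Units.ext (by simpa using e))
  have hdσ : ∀ x, d (σ x) = d x := fun x => Units.ext (by
    have h := (mon_inv_data S.hyp hmm x).2
    linear_combination (d x : F) * h - (d (σ x) : F) * hd2 x)
  have hdz : ∀ x, d ((Equiv.swap (0 : Fin 6) 1 * Equiv.swap 2 3 : Equiv.Perm (Fin 6)) x) = d x := fun x => by
    simpa using congrFun hdT x
  rcases hσcases with rfl | rfl | rfl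
  · -- a diagonal product
    have e : mon (Equiv.swap 0 1 * Equiv.swap 2 3) d = T2 F * mon 1 d := by
      rw [T2, mon_mul, mul_one]; simp
    have hdG : mon 1 d ∈ G := by
      have := G.mul_mem (G.inv_mem (T2_mem S)) hm
      rwa [e, inv_mul_cancel_left] at this
    have hcd : c * mon 1 d = mon 1 d * c := by
      rw [e, ← mul_assoc, hcT, mul_assoc, mul_assoc] at hcm
      exact mul_left_cancel hcm
    rcases classify S hdG (mon_Mon _ _) (by
        rw [mon_mul, ← mon_one, one_mul]; congr 1; funext x; exact Units.ext (hd2 x))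
      with ((k | k) | ⟨a, b, hab, k | k⟩) | ⟨π', ε', hε', (k | k) | (k | k)⟩
    · exact absurd (by rw [e, k, mul_one]) hz
    · exact absurd (by rw [e, k, mul_neg, mul_one]) hz'
    · exact mon_of_comm S hc hab (k ▸ hcd)
    · exact mon_of_comm S hc hab (by
        have := comm_neg hcd
        rwa [k, neg_neg] at this)
    all_goals
      exfalso
      first
        | rw [T2] at k
        | rw [T3] at k
      try rw [neg_mon] at k
      have := perm_of_conj k
      rw [eq_comm, mul_inv_eq_one, mul_eq_left] at this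
      exact absurd this (by decide)
  · exact mon_comm_std S h3 hc hcT d (hdσ 0).symm (hdz 2).symm (hdσ 4).symm hd1 hcm
  · set π' : Equiv.Perm (Fin 6) := Equiv.swap 0 2 * Equiv.swap 1 3 with hπ
    set Q : GL (Fin 6) F := mon π' 1 with hQ
    have h' := six_conj S (π := π') (ε := 1) (fun x => by simp)
    have hmap : mon (Equiv.swap 2 3 * Equiv.swap 4 5) d =
        Q * mon (Equiv.swap 0 1 * Equiv.swap 4 5) (fun x => d (π' x)) * Q⁻¹ := by
      refine conj_eq fun i => ⟨?_, by simp⟩
      fin_cases i <;> simp [hπ, Equiv.swap_apply_def]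
    have hTQ : T2 F = Q * T2 F * Q⁻¹ := by
      rw [eq_mul_inv_iff_mul_eq, hQ, T2, mon_mul, mon_mul,
        show Equiv.swap (0 : Fin 6) 1 * Equiv.swap 2 3 * π' = π' * (Equiv.swap 0 1 * Equiv.swap 2 3) by
          rw [hπ]; decide]
      simp
    obtain ⟨e, he, hback, hco⟩ := conj_data S hc π' 1
    refine hback (mon_comm_std h' h3 he (hco _ _ hTQ hcT) (fun x => d (π' x)) ?_ ?_ ?_ (fun x => hd1 _)
      (hco _ _ hmap hcm))
    · exact (hdσ 2).symm
    · exact (hdz 0).symm
    · exact (hdσ 4).symm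

/-- The centraliser of a double transposition is monomial. -/
lemma mon_comm_T2 [Finite F] (h3 : (3 : F) ≠ 0) {c : GL (Fin 6) F} (hc : c ∈ G) (hcT : c * T2 F = T2 F * c) : Mon c := by
  have h2 := S.two
  by_contra hnm
  have h01 : (0 : Fin 6) ≠ 1 := by decide
  have h45 : (4 : Fin 6) ≠ 5 := by decide
  set u := c * sgn 0 1 * c⁻¹ with hudef
  set w : GL (Fin 6) F := -(T2 F * sgn 4 5) with hw
  have hT45 : T2 F * sgn 4 5 = sgn 4 5 * T2 F := by
    rw [T2, sgn, mon_mul, mon_mul, mul_one, one_mul]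
    congr 1
    funext y
    fin_cases y <;> simp [dfun, Equiv.swap_apply_def]
  have hT01 : T2 F * sgn 0 1 = sgn 0 1 * T2 F := by
    rw [T2, sgn, mon_mul, mon_mul, mul_one, one_mul]
    congr 1
    funext y
    fin_cases y <;> simp [dfun, Equiv.swap_apply_def]
  have hTT : T2 F * T2 F = (1 : GL (Fin 6) F) := by
    rw [T2, mon_mul, ← mon_one]
    congr 1
    · decide
    · funext y; simp
  have hw' : w = mon (Equiv.swap 0 1 * Equiv.swap 2 3) fun y => -dfun 4 (-1) 5 (-1) y := by
    rw [hw, T2, sgn, mon_mul, neg_mon, mul_one]; simp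
  have hwG : w ∈ G := (neg_mem_iff (neg_one_mem S)).2 (G.mul_mem (T2_mem S) (S.hyp.sgn 4 5 h45))
  have hww : w * w = 1 := by
    rw [hw, neg_mul_neg, mul_assoc, ← mul_assoc (sgn 4 5), ← hT45, mul_assoc,
      sgn_mul_self h45, mul_one, hTT]
  have huG : u ∈ G := G.mul_mem (G.mul_mem hc (S.hyp.sgn 0 1 h01)) (G.inv_mem hc)
  have huu : u * u = 1 := by
    rw [hudef, show c * sgn 0 1 * c⁻¹ * (c * sgn 0 1 * c⁻¹) = c * (sgn 0 1 * sgn 0 1) * c⁻¹ by group,
      sgn_mul_self h01]
    group
  have huT : T2 F * u = u * T2 F := by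
    have hci : c⁻¹ * T2 F = T2 F * c⁻¹ := (show Commute c (T2 F) from hcT).inv_left.eq
    rw [hudef, ← mul_assoc, ← mul_assoc, ← hcT, mul_assoc c, hT01, ← mul_assoc, mul_assoc _ (T2 F),
      ← hci, ← mul_assoc]
  have hwT : T2 F * w = w * T2 F := by
    rw [hw, mul_neg, neg_mul, ← mul_assoc, mul_assoc (T2 F) (sgn 4 5), ← hT45, ← mul_assoc]
  rcases dihedral huG hwG huu hww with ⟨z, hz, hzz, hz1, hzu, hzw, hzf, hzc⟩ | ⟨g, hg, hgg, -⟩
  swap
  · refine no_mon_conj S (G.mul_mem hg hc) h01 (τ := Equiv.swap 0 1 * Equiv.swap 2 3)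
      (e := fun y => -dfun 4 (-1) 5 (-1) y) (by decide) ?_
    rw [← hw', ← hgg, hudef]; group
  have hzT : z * T2 F = T2 F * z := (hzc _ huT hwT).symm
  have hz45 : z * sgn 4 5 = sgn 4 5 * z := by
    have e : sgn 4 5 = -(T2 F * w) := by
      rw [hw, mul_neg, neg_neg, ← mul_assoc, hTT, one_mul]
    rw [e, mul_neg, neg_mul, ← mul_assoc, hzT, mul_assoc, hzw, ← mul_assoc]
  -- a fixed vector in the negated plane of `T2`
  set p := act c (V 1) with hp
  have hpT : act (T2 F) p = -p := by
    rw [hp, act_comm hcT, ← act_neg]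
    congr 1
    rw [T2_apply]; funext i; fin_cases i <;> simp [V, pr, ps, E]
  have up : act u p = p := by
    rw [hudef, hp, act_mul, act_mul, act_inv]
    congr 1
    funext i
    rw [sgn_apply h01]
    fin_cases i <;> simp [V, pr, ps, E]
  have wapply : ∀ v, act w v = ![-v 1, -v 0, -v 3, -v 2, v 4, v 5] := fun v => by
    funext i
    rw [hw', act, mon_mulVec, Equiv.Perm.mul_def]
    fin_cases i <;> simp [dfun, Equiv.swap_apply_def]
  have wp : act w p = p := by
    have e := hpT
    rw [T2_apply] at e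
    have e0 : p 1 = -p 0 := by simpa using congrFun e 0
    have e2 : p 3 = -p 2 := by simpa using congrFun e 2
    have e4 : p 4 = 0 := half_zero h2 (by simpa using congrFun e 4)
    have e5 : p 5 = 0 := half_zero h2 (by simpa using congrFun e 5)
    rw [wapply]; funext i; fin_cases i <;> simp [e0, e2, e4, e5]
  have zp : act z p = p := hzf p up wp
  have hp0 : p ≠ 0 := gl_mulVec_ne_zero c (fun e => by
    have := congrFun e 2; simp [V, pr, ps, E] at this)
  have zne : z ≠ T2 F := fun e => hp0 (funext fun i => half_zero h2 (by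
    have := congrFun (zp.symm.trans (e ▸ hpT)) i; simpa using this))
  -- a fixed vector in the plane `4, 5`
  obtain ⟨q, hq0, hqs, hqw⟩ : ∃ q : Fin 6 → F, q ≠ 0 ∧ (∀ x, x ≠ 4 → x ≠ 5 → q x = 0) ∧
      q ⬝ᵥ act c (W 0) = 0 := by
    set t := act c (W 0)
    by_cases ht : t 4 = 0
    · exact ⟨E 4, fun e => by simpa using congrFun e 4, fun x h4 _ => by simp [E, h4],
        by simp [E, ht]⟩
    refine ⟨t 5 • E 4 - t 4 • E 5, fun e => ht (by simpa [E] using congrFun e 5),
      fun x h4 h5 => by simp [E, h4, h5], ?_⟩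
    rw [sub_dotProduct, smul_dotProduct, smul_dotProduct]
    simp [E]; ring
  have uq : act u q = q := by
    have k0 : act c (V 0) 4 = 0 ∧ act c (V 0) 5 = 0 := by
      have e : act (T2 F) (act c (V 0)) = -act c (V 0) := by
        rw [act_comm hcT, ← act_neg]
        congr 1
        rw [T2_apply]; funext i; fin_cases i <;> simp [V, pr, ps, E]
      rw [T2_apply] at e
      exact ⟨half_zero h2 (by simpa using congrFun e 4), half_zero h2 (by simpa using congrFun e 5)⟩
    have hqv : q ⬝ᵥ act c (V 0) = 0 := by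
      rw [dot_six, hqs 0 (by decide) (by decide), hqs 1 (by decide) (by decide),
        hqs 2 (by decide) (by decide), hqs 3 (by decide) (by decide), k0.1, k0.2]
      ring
    have eV : act c (V 0) = act c (E 0) - act c (E 1) := mulVec_sub _ _ _
    have eW : act c (W 0) = act c (E 0) + act c (E 1) := mulVec_add _ _ _
    rw [eV, dotProduct_sub] at hqv
    rw [eW, dotProduct_add] at hqw
    rw [hudef, conj_sgn_apply S.hyp hc h01,
      show q ⬝ᵥ act c (E 0) = 0 from mul_left_cancel₀ h2 (by linear_combination hqw + hqv),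
      show q ⬝ᵥ act c (E 1) = 0 from mul_left_cancel₀ h2 (by linear_combination hqw - hqv)]
    simp
  have q0 := hqs 0 (by decide) (by decide)
  have q1 := hqs 1 (by decide) (by decide)
  have q2 := hqs 2 (by decide) (by decide)
  have q3 := hqs 3 (by decide) (by decide)
  have wq : act w q = q := by
    rw [wapply]; funext i; fin_cases i <;> simp [q0, q1, q2, q3]
  have zq : act z q = q := hzf q uq wq
  have negne : ∀ v : Fin 6 → F, v ≠ 0 → v ≠ -v := fun v hv e =>
    hv (funext fun i => half_zero h2 (congrFun e i))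
  have zne' : z ≠ -T2 F := fun e => negne q hq0 (by
    conv_lhs => rw [← zq, e]
    rw [act, Units.val_neg, neg_mulVec]
    change -act (T2 F) q = -q
    rw [show act (T2 F) q = q by rw [T2_apply]; funext i; fin_cases i <;> simp [q0, q1, q2, q3]])
  have zne1 : z ≠ -1 := fun e => negne q hq0 (by
    conv_lhs => rw [← zq, e]
    rw [act, Units.val_neg, Units.val_one, neg_mulVec, one_mulVec])
  -- pull back
  set m := c⁻¹ * z * c with hm
  have cyc : ∀ t : GL (Fin 6) F, c * t = t * c → m = t → z = t := fun t ht e => by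
    rw [show z = c * m * c⁻¹ by rw [hm]; group, e, ht]; group
  have hmG : m ∈ G := G.mul_mem (G.mul_mem (G.inv_mem hc) hz) hc
  have hm01 : m * sgn 0 1 = sgn 0 1 * m := by
    have : sgn 0 1 = c⁻¹ * u * c := by rw [hudef]; group
    rw [this, hm, show c⁻¹ * z * c * (c⁻¹ * u * c) = c⁻¹ * (z * u) * c by group, hzu]
    group
  have hmT : m * T2 F = T2 F * m := by
    have hci : c⁻¹ * T2 F = T2 F * c⁻¹ := (show Commute c (T2 F) from hcT).inv_left.eq
    rw [hm, mul_assoc, hcT, ← mul_assoc, mul_assoc c⁻¹ z, hzT, ← mul_assoc, hci, mul_assoc,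
      mul_assoc, mul_assoc]
  have hy : c⁻¹ * sgn 4 5 * c ∈ G := G.mul_mem (G.mul_mem (G.inv_mem hc) (S.hyp.sgn 4 5 h45)) hc
  have hym := mon_comm_pair S h3 hmG (by rw [hm, show c⁻¹ * z * c * (c⁻¹ * z * c) = c⁻¹ * (z * z) * c by group, hzz]; group)
    (fun e => hz1 (cyc 1 (by simp) e)) (fun e => zne1 (cyc (-1) (by simp) e))
    (fun e => zne (cyc _ hcT e)) (fun e => zne' (cyc _ (comm_neg hcT) e)) hmT hm01 hy (by
      have hci : c⁻¹ * T2 F = T2 F * c⁻¹ := (show Commute c (T2 F) from hcT).inv_left.eq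
      rw [mul_assoc, hcT, ← mul_assoc, mul_assoc c⁻¹, ← hT45, ← mul_assoc, hci, mul_assoc, mul_assoc,
        mul_assoc]) (by
      rw [hm, show c⁻¹ * sgn 4 5 * c * (c⁻¹ * z * c) = c⁻¹ * (sgn 4 5 * z) * c by group, ← hz45]
      group)
  exact hnm (by simpa using Mon_inv (mon_of_conj S (G.inv_mem hc) h45 (by rwa [inv_inv])))

/-- All elements are monomial. -/
theorem all_mon [Finite F] (h3 : (3 : F) ≠ 0) {g : GL (Fin 6) F} (hg : g ∈ G) : Mon g := by
  have h2 := S.two
  by_contra hnm
  have h01 : (0 : Fin 6) ≠ 1 := by decide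
  set u := g * sgn 0 1 * g⁻¹ with hudef
  have huG : u ∈ G := G.mul_mem (G.mul_mem hg (S.hyp.sgn 0 1 h01)) (G.inv_mem hg)
  have huu : u * u = 1 := by
    rw [hudef, show g * sgn 0 1 * g⁻¹ * (g * sgn 0 1 * g⁻¹) = g * (sgn 0 1 * sgn 0 1) * g⁻¹ by group,
      sgn_mul_self h01]
    group
  have hTT : T2 F * T2 F = (1 : GL (Fin 6) F) := by
    rw [T2, mon_mul, ← mon_one]
    congr 1
    · decide
    · funext y; simp
  have hum : ¬ Mon u := fun h => hnm (mon_of_conj S hg h01 h)
  rcases dihedral huG (T2_mem S) huu hTT with ⟨z, hz, hzz, hz1, hzu, hzT, hzf, -⟩ | ⟨t, ht, htt, -⟩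
  swap
  · refine no_mon_conj S (G.mul_mem ht hg) h01 (τ := Equiv.swap 0 1 * Equiv.swap 2 3) (e := 1)
      (by decide) ?_
    rw [← T2, ← htt, hudef]; group
  -- a vector fixed by both
  obtain ⟨v, hv0, hvu, hvT⟩ : ∃ v : Fin 6 → F, v ≠ 0 ∧ act u v = v ∧ act (T2 F) v = v := by
    let L : (Fin 6 → F) →ₗ[F] (Fin 4 → F) := Matrix.mulVecLin
      (Matrix.of ![act g (E 0), act g (E 1), V 0, V 1])
    obtain ⟨v, hv, hv0⟩ := Submodule.exists_mem_ne_zero_of_ne_bot
      (LinearMap.ker_ne_bot_of_finrank_lt (f := L) (by simp))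
    have hL : ∀ i, ![act g (E 0), act g (E 1), V 0, V 1] i ⬝ᵥ v = 0 :=
      fun i => congrFun (LinearMap.mem_ker.1 hv) i
    have a0 : v ⬝ᵥ act g (E 0) = 0 := (dotProduct_comm _ _).trans (hL 0)
    have a1 : v ⬝ᵥ act g (E 1) = 0 := (dotProduct_comm _ _).trans (hL 1)
    have b0 : v ⬝ᵥ V 0 = 0 := (dotProduct_comm _ _).trans (hL 2)
    have b1 : v ⬝ᵥ V 1 = 0 := (dotProduct_comm _ _).trans (hL 3)
    rw [dot_V, sub_eq_zero] at b0 b1
    refine ⟨v, hv0, ?_, ?_⟩
    · rw [hudef, conj_sgn_apply S.hyp hg h01, a0, a1]; simp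
    · simp [pr, ps] at b0 b1
      rw [T2_apply]; funext i; fin_cases i <;> simp [b0, b1]
  have hzv := hzf v hvu hvT
  have hzn : z ≠ -1 := fun e => hv0 (funext fun i => half_zero h2 (by
    have := congrFun hzv i
    rw [e, act, Units.val_neg, Units.val_one, neg_mulVec, one_mulVec, Pi.neg_apply] at this
    exact this.symm))
  have hzm := mon_comm_T2 S h3 hz hzT
  refine hum ?_
  rcases classify S hz hzm hzz with ((e | e) | ⟨a, b, hab, e | e⟩) | ⟨π, ε, hε, (e | e) | (e | e)⟩
  · exact absurd e hz1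
  · exact absurd e hzn
  · exact mon_of_comm S huG hab (e ▸ hzu.symm)
  · exact mon_of_comm S huG hab (by
      have := comm_neg hzu.symm
      rwa [e, neg_neg] at this)
  · exact mon_comm_conj S (fun d hd hd' => mon_comm_T2 (six_conj S hε) h3 hd hd') huG e hzu.symm
  · exact mon_comm_conj S (fun d hd hd' => mon_comm_T2 (six_conj S hε) h3 hd hd') huG e (comm_neg hzu.symm)
  · exact mon_comm_conj S (fun d hd hd' => mon_of_comm_T3 (six_conj S hε) hd hd') huG e hzu.symm
  · exact mon_comm_conj S (fun d hd hd' => mon_of_comm_T3 (six_conj S hε) hd hd') huG e (comm_neg hzu.symm)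

/-- In characteristic three with entries in the prime field all elements are monomial. -/
theorem all_mon_three (h3 : (3 : F) = 0)
    (hval : ∀ g ∈ G, ∀ a x, act g (E a) x = 0 ∨ act g (E a) x * act g (E a) x = 1)
    {g : GL (Fin 6) F} (hg : g ∈ G) : Mon g := by
  classical
  by_contra hnm
  obtain ⟨w, hw⟩ : ∃ w, w = act g⁻¹ (E 0) := ⟨_, rfl⟩
  set S0 := Finset.univ.filter fun x => w x ≠ 0 with hS0
  have hn : ((S0.card : ℕ) : F) = 1 := by
    rw [← colnorm S.hyp (G.inv_mem hg) 0, ← hw, dotProduct,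
      ← Finset.sum_subset (Finset.subset_univ S0) fun x _ hx => by
        rw [show w x = 0 by simpa [hS0] using hx, mul_zero],
      Finset.sum_congr rfl fun x hx => (show w x = 0 ∨ w x * w x = 1 from hw ▸ hval _ (G.inv_mem hg) 0 x).resolve_left (by
        simpa [hS0] using hx)]
    simp
  have hcard : S0.card = 1 ∨ S0.card = 4 := by
    have h6 : S0.card ≤ 6 := by simpa using Finset.card_le_univ S0
    have h2 := S.two
    have b : ∀ n : ℕ, n ≤ 6 → (n : F) = 1 → n = 1 ∨ n = 4 := by
      intro n hn6 hn1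
      interval_cases n
      · simp at hn1
      · exact Or.inl rfl
      · exact absurd (show (1 : F) = 0 by push_cast at hn1; linear_combination hn1) one_ne_zero
      · exact absurd (show (1 : F) = 0 by push_cast at hn1; linear_combination h3 - hn1) one_ne_zero
      · exact Or.inr rfl
      · exact absurd (show (1 : F) = 0 by push_cast at hn1; linear_combination hn1 - h3) one_ne_zero
      · exact absurd (show (1 : F) = 0 by push_cast at hn1; linear_combination 2 * h3 - hn1) one_ne_zero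
    exact b _ h6 hn
  rcases hcard with h1 | h4
  · obtain ⟨r, hr⟩ := Finset.card_eq_one.1 h1
    refine hnm ?_
    have := Mon_inv (mon_of_col S (G.inv_mem hg) (j := 0) (a := r) (t := w r) (funext fun x => by
      by_cases hx : x = r
      · subst hx; simp [E, hw]
      · have : x ∉ S0 := by rw [hr]; simpa using hx
        rw [← hw, show w x = 0 by simpa [hS0] using this]
        simp [E, hx]))
    rwa [inv_inv] at this
  · obtain ⟨p, q, hpq, hset⟩ := Finset.card_eq_two.1 (show S0ᶜ.card = 2 by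
      rw [Finset.card_compl, Fintype.card_fin, h4])
    have hz : ∀ r, r = p ∨ r = q → act g (E r) 0 = 0 := fun r hr => by
      have hr' : w r = 0 := by
        have : r ∈ S0ᶜ := by rw [hset]; simpa using hr
        simpa [hS0] using this
      have e := S.hyp.dot g hg (E r) w
      rw [hw, inv_act] at e
      simpa [E, ← hw, hr'] using e
    refine hnm (mon_of_conj S hg hpq (S.fixed _
      (G.mul_mem (G.mul_mem hg (S.hyp.sgn p q hpq)) (G.inv_mem hg)) 0 1 ?_))
    rw [conj_sgn_apply S.hyp hg hpq, one_smul,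
      show (E 0 : Fin 6 → F) ⬝ᵥ act g (E p) = 0 by rw [E, single_dotProduct, one_mul, hz p (Or.inl rfl)],
      show (E 0 : Fin 6 → F) ⬝ᵥ act g (E q) = 0 by rw [E, single_dotProduct, one_mul, hz q (Or.inr rfl)]]
    simp

end CfsgLib.ClassicalMax.OmSix
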