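/-
The action of four by four matrices on six skew-symmetric matrices with orthonormal Pfaffian.
-/
import Cfsg.Agent.Lib.ClassicalMax.OrthSix.Centraliser
import Cfsg.Agent.Lib.LinFix.Pauli4
set_option autoImplicit false
set_option linter.unusedSectionVars false

namespace CfsgLib.ClassicalMax.OmSix

open Matrix Module
open CfsgLib.ClassicalMax.MonG CfsgLib.ClassicalMax.OmL

variable {F : Type*} [Field F]

local notation "M4" => Matrix (Fin 4) (Fin 4) F

/-- A skew-symmetric matrix by its six entries. -/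
def skm (a b c d e f : F) : M4 := !![0, a, b, c; -a, 0, d, e; -b, -d, 0, f; -c, -e, -f, 0]

/-- The Pfaffian. -/
def pf (A : M4) : F := A 0 1 * A 2 3 - A 0 2 * A 1 3 + A 0 3 * A 1 2

set_option maxHeartbeats 2000000 in
lemma pf_conj (A : M4) (a b c d e f : F) :
    pf (A * skm a b c d e f * Aᵀ) = A.det * pf (skm a b c d e f) := by
  simp [pf, skm, Matrix.mul_apply, Fin.sum_univ_four, Matrix.det_succ_row_zero, Fin.sum_univ_succ,
    Fin.succAbove]
  ring

/-- The skew-symmetric matrix with given coordinates. -/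
def sk (im : F) (x : Fin 6 → F) : M4 :=
  skm (x 4 + im * x 5) (x 2 + im * x 3) (x 0 + im * x 1) (x 0 - im * x 1) (-x 2 + im * x 3)
    (x 4 - im * x 5)

/-- The coordinates of a matrix. -/
def ext6 (im : F) (A : M4) : Fin 6 → F :=
  ![(2⁻¹ : F) * (A 0 3 + A 1 2), -(im * 2⁻¹) * (A 0 3 - A 1 2), (2⁻¹ : F) * (A 0 2 - A 1 3),
    -(im * 2⁻¹) * (A 0 2 + A 1 3), (2⁻¹ : F) * (A 0 1 + A 2 3), -(im * 2⁻¹) * (A 0 1 - A 2 3)]

variable {im : F} (him : im ^ 2 = -1) (h2 : (2 : F) ≠ 0)

include him h2

lemma pf_sk (x : Fin 6 → F) : pf (sk im x) = x ⬝ᵥ x := by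
  rw [dot_six]
  simp [pf, sk, skm]
  linear_combination (-(x 1 * x 1) - x 3 * x 3 - x 5 * x 5) * him

lemma ext6_sk (x : Fin 6 → F) : ext6 im (sk im x) = x := by
  funext i
  fin_cases i <;> simp [ext6, sk, skm] <;> field_simp <;> ring_nf <;> simp [him] <;> ring

lemma sk_ext6 {A : M4} (hA : Aᵀ = -A) : sk im (ext6 im A) = A := by
  have h : ∀ i j, A j i = -A i j := fun i j => congrFun (congrFun hA i) j
  have hd : ∀ i, A i i = 0 := fun i => half_zero h2 (h i i)
  ext i j
  fin_cases i <;> fin_cases j <;> simp [ext6, sk, skm, hd, h 0 1, h 0 2, h 0 3, h 1 2, h 1 3, h 2 3] <;>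
    field_simp <;> ring_nf <;> simp [him] <;> ring

omit him h2 in
lemma sk_transpose (x : Fin 6 → F) : (sk im x)ᵀ = -sk im x := by
  ext i j
  fin_cases i <;> fin_cases j <;> simp [sk, skm] <;> ring

omit him h2 in
/-- Linearity of the coordinates. -/
def skL (im : F) : (Fin 6 → F) →ₗ[F] M4 where
  toFun := sk im
  map_add' x y := by ext i j; fin_cases i <;> fin_cases j <;> simp [sk, skm] <;> ring
  map_smul' c x := by ext i j; fin_cases i <;> fin_cases j <;> simp [sk, skm] <;> ring

omit him h2 in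
/-- Linearity of the coordinates. -/
def extL (im : F) : M4 →ₗ[F] (Fin 6 → F) where
  toFun := ext6 im
  map_add' A B := by funext i; fin_cases i <;> simp [ext6] <;> ring
  map_smul' c A := by funext i; fin_cases i <;> simp [ext6] <;> ring

omit him h2 in
/-- The action on the six coordinates. -/
def TL (im : F) (A : M4) : (Fin 6 → F) →ₗ[F] (Fin 6 → F) :=
  (extL im).comp ((LinearMap.mulRight F Aᵀ).comp ((LinearMap.mulLeft F A).comp (skL im)))

omit him h2 in
lemma TL_apply (A : M4) (x : Fin 6 → F) : TL im A x = ext6 im (A * sk im x * Aᵀ) := rfl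

lemma sk_TL (A : M4) (x : Fin 6 → F) : sk im (TL im A x) = A * sk im x * Aᵀ := by
  rw [TL_apply, sk_ext6 him h2]
  rw [transpose_mul, transpose_mul, transpose_transpose, sk_transpose, Matrix.mul_assoc]
  simp [Matrix.mul_assoc]

/-- The induced homomorphism. -/
def lam : GL (Fin 4) F →* GL (Fin 6) F :=
  Units.map
    { toFun := fun A => LinearMap.toMatrix' (TL im A)
      map_one' := by
        have e : TL im (1 : M4) = LinearMap.id := LinearMap.ext fun x => by
          rw [TL_apply, Matrix.one_mul, transpose_one, Matrix.mul_one, ext6_sk him h2]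
          rfl
        rw [e, LinearMap.toMatrix'_id]
      map_mul' := fun A B => by
        have e : TL im (A * B : M4) = (TL im A).comp (TL im B) := LinearMap.ext fun x => by
          rw [LinearMap.comp_apply, TL_apply, TL_apply A, sk_TL him h2, transpose_mul]
          simp [Matrix.mul_assoc]
        rw [e, LinearMap.toMatrix'_comp] }

lemma act_lam (g : GL (Fin 4) F) (x : Fin 6 → F) :
    act (lam him h2 g) x = ext6 im ((g : M4) * sk im x * (g : M4)ᵀ) := by
  change LinearMap.toMatrix' (TL im (g : M4)) *ᵥ x = _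
  rw [LinearMap.toMatrix'_mulVec, TL_apply]

lemma sk_act_lam (g : GL (Fin 4) F) (x : Fin 6 → F) :
    sk im (act (lam him h2 g) x) = (g : M4) * sk im x * (g : M4)ᵀ := by
  rw [act_lam, ← TL_apply, sk_TL him h2]

lemma lam_dot {g : GL (Fin 4) F} (hg : Matrix.det (g : M4) = 1) (x y : Fin 6 → F) :
    act (lam him h2 g) x ⬝ᵥ act (lam him h2 g) y = x ⬝ᵥ y := by
  have hq : ∀ x, act (lam him h2 g) x ⬝ᵥ act (lam him h2 g) x = x ⬝ᵥ x := fun x => by
    rw [← pf_sk him h2, ← pf_sk him h2 x, sk_act_lam him h2, sk, pf_conj, hg, one_mul]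
  have h := hq (x + y)
  simp only [act, mulVec_add, add_dotProduct, dotProduct_add] at h
  have hx := hq x
  have hy := hq y
  simp only [act] at hx hy ⊢
  rw [hx, hy, dotProduct_comm _ ((lam him h2 g : GL (Fin 6) F).1 *ᵥ x), dotProduct_comm y x] at h
  exact mul_left_cancel₀ h2 (by linear_combination h)

end CfsgLib.ClassicalMax.OmSix
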