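/-
The monomial elements of the image on six coordinates; an element outside fixing an axis.
-/
import Cfsg.Agent.Lib.ClassicalMax.OrthSix.Bridge
set_option autoImplicit false
set_option linter.unusedSectionVars false

namespace CfsgLib.ClassicalMax.OmSix

open Matrix Module
open CfsgLib.ClassicalMax.MonG CfsgLib.ClassicalMax.OmL CfsgLib.TwoSymp

variable {F : Type*} [Field F]

local notation "M4" => Matrix (Fin 4) (Fin 4) F

/-- The three permutations. -/
def pA : Equiv.Perm (Fin 6) := Equiv.swap 1 4 * Equiv.swap 4 5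
/-- The three permutations. -/
def pB : Equiv.Perm (Fin 6) := Equiv.swap 0 3 * Equiv.swap 3 2 * (Equiv.swap 1 4 * Equiv.swap 4 5)
/-- The three permutations. -/
def pC : Equiv.Perm (Fin 6) := Equiv.swap 0 4 * Equiv.swap 4 1 * Equiv.swap 1 2 * Equiv.swap 2 3

/-- The three permutations generate the even permutations. -/
lemma alt_mem {H : Subgroup (Equiv.Perm (Fin 6))} (ha : pA ∈ H) (hb : pB ∈ H) (hc : pC ∈ H)
    {σ : Equiv.Perm (Fin 6)} (hσ : Equiv.Perm.sign σ = 1) : σ ∈ H := by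
  have hev : ∀ w : Equiv.Perm (Fin 6), w ∈ H → Equiv.Perm.sign w = 1 →
      Equiv.Perm.sign (w⁻¹ * σ) = 1 := fun w _ h => by
    rw [Equiv.Perm.sign_mul, Equiv.Perm.sign_inv, h, hσ, one_mul]
  -- move `0`
  obtain ⟨w, hw, hw0, hws⟩ : ∃ w ∈ H, w 0 = σ 0 ∧ Equiv.Perm.sign w = 1 := by
    generalize σ 0 = t
    fin_cases t
    · exact ⟨1, H.one_mem, rfl, by simp⟩
    · exact ⟨pC * pC, H.mul_mem hc hc, by decide, by decide⟩
    · exact ⟨pB * pB, H.mul_mem hb hb, by decide, by decide⟩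
    · exact ⟨pB, hb, by decide, by decide⟩
    · exact ⟨pC, hc, by decide, by decide⟩
    · exact ⟨pA * pC, H.mul_mem ha hc, by decide, by decide⟩
  set σ1 := w⁻¹ * σ with hσ1
  have s1 : Equiv.Perm.sign σ1 = 1 := hev w hw hws
  have f0 : σ1 0 = 0 := by rw [hσ1, Equiv.Perm.mul_apply, ← hw0, Equiv.Perm.inv_eq_iff_eq]
  -- move `1`
  obtain ⟨u, hu, hu0, hu1, hus⟩ : ∃ u ∈ H, u 0 = 0 ∧ u 1 = σ1 1 ∧ Equiv.Perm.sign u = 1 := by
    obtain ⟨t, ht⟩ : ∃ t, σ1 1 = t := ⟨_, rfl⟩
    rw [ht]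
    fin_cases t
    · exact absurd (σ1.injective (ht.trans f0.symm)) (by decide)
    · exact ⟨1, H.one_mem, rfl, rfl, by simp⟩
    · exact ⟨pC * pB * pA * pA, H.mul_mem (H.mul_mem (H.mul_mem hc hb) ha) ha, by decide, by decide, by decide⟩
    · exact ⟨pB * pC * pC * pC, H.mul_mem (H.mul_mem (H.mul_mem hb hc) hc) hc, by decide, by decide, by decide⟩
    · exact ⟨pA, ha, by decide, by decide, by decide⟩
    · exact ⟨pA * pA, H.mul_mem ha ha, by decide, by decide, by decide⟩
  set σ2 := u⁻¹ * σ1 with hσ2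
  have s2 : Equiv.Perm.sign σ2 = 1 := by
    rw [hσ2, Equiv.Perm.sign_mul, Equiv.Perm.sign_inv, hus, s1, one_mul]
  have g0 : σ2 0 = 0 := by rw [hσ2, Equiv.Perm.mul_apply, f0, Equiv.Perm.inv_eq_iff_eq, hu0]
  have g1 : σ2 1 = 1 := by rw [hσ2, Equiv.Perm.mul_apply, ← hu1, Equiv.Perm.inv_eq_iff_eq]
  -- move `2`
  obtain ⟨v, hv, hv0, hv1, hv2, hvs⟩ :
      ∃ v ∈ H, v 0 = 0 ∧ v 1 = 1 ∧ v 2 = σ2 2 ∧ Equiv.Perm.sign v = 1 := by
    obtain ⟨t, ht⟩ : ∃ t, σ2 2 = t := ⟨_, rfl⟩
    rw [ht]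
    fin_cases t
    · exact absurd (σ2.injective (ht.trans g0.symm)) (by decide)
    · exact absurd (σ2.injective (ht.trans g1.symm)) (by decide)
    · exact ⟨1, H.one_mem, rfl, rfl, rfl, by simp⟩
    · exact ⟨pB * pC * pA * pA * pC * pA, H.mul_mem (H.mul_mem (H.mul_mem (H.mul_mem (H.mul_mem hb hc) ha) ha) hc) ha,
        by decide, by decide, by decide, by decide⟩
    · exact ⟨pC * pB, H.mul_mem hc hb, by decide, by decide, by decide, by decide⟩
    · exact ⟨pA * pC * pB * pA, H.mul_mem (H.mul_mem (H.mul_mem ha hc) hb) ha, by decide, by decide, by decide, by decide⟩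
  set σ3 := v⁻¹ * σ2 with hσ3
  have s3 : Equiv.Perm.sign σ3 = 1 := by
    rw [hσ3, Equiv.Perm.sign_mul, Equiv.Perm.sign_inv, hvs, s2, one_mul]
  have k0 : σ3 0 = 0 := by rw [hσ3, Equiv.Perm.mul_apply, g0, Equiv.Perm.inv_eq_iff_eq, hv0]
  have k1 : σ3 1 = 1 := by rw [hσ3, Equiv.Perm.mul_apply, g1, Equiv.Perm.inv_eq_iff_eq, hv1]
  have k2 : σ3 2 = 2 := by rw [hσ3, Equiv.Perm.mul_apply, ← hv2, Equiv.Perm.inv_eq_iff_eq]
  -- move `3`
  have h3 : σ3 ∈ H := by
    obtain ⟨t, ht⟩ : ∃ t, σ3 3 = t := ⟨_, rfl⟩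
    obtain ⟨r, hr⟩ : ∃ r, σ3 4 = r := ⟨_, rfl⟩
    obtain ⟨q, hq⟩ : ∃ q, σ3 5 = q := ⟨_, rfl⟩
    have build : ∀ e : Equiv.Perm (Fin 6), e ∈ H → e 0 = 0 → e 1 = 1 → e 2 = 2 → e 3 = t → e 4 = r → e 5 = q →
        σ3 ∈ H := fun e he e0 e1 e2 e3 e4 e5 => by
      rw [show σ3 = e from Equiv.ext fun x => by
        fin_cases x
        exacts [k0.trans e0.symm, k1.trans e1.symm, k2.trans e2.symm, ht.trans e3.symm, hr.trans e4.symm,
          hq.trans e5.symm]]
      exact he
    have odd : ∀ e : Equiv.Perm (Fin 6), Equiv.Perm.sign e = -1 → e 0 = 0 → e 1 = 1 → e 2 = 2 → e 3 = t →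
        e 4 = r → e 5 = q → σ3 ∈ H := fun e he e0 e1 e2 e3 e4 e5 => by
      exfalso
      rw [show σ3 = e from Equiv.ext fun x => by
        fin_cases x
        exacts [k0.trans e0.symm, k1.trans e1.symm, k2.trans e2.symm, ht.trans e3.symm, hr.trans e4.symm,
          hq.trans e5.symm], he] at s3
      exact absurd s3 (by decide +kernel)
    fin_cases t <;> first
      | exact absurd (σ3.injective (ht.trans k0.symm)) (by decide +kernel)
      | exact absurd (σ3.injective (ht.trans k1.symm)) (by decide +kernel)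
      | exact absurd (σ3.injective (ht.trans k2.symm)) (by decide +kernel)
      | (fin_cases r <;> first
          | exact absurd (σ3.injective (hr.trans k0.symm)) (by decide +kernel)
          | exact absurd (σ3.injective (hr.trans k1.symm)) (by decide +kernel)
          | exact absurd (σ3.injective (hr.trans k2.symm)) (by decide +kernel)
          | exact absurd (σ3.injective (hr.trans ht.symm)) (by decide +kernel)
          | (fin_cases q <;> first
              | exact absurd (σ3.injective (hq.trans k0.symm)) (by decide +kernel)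
              | exact absurd (σ3.injective (hq.trans k1.symm)) (by decide +kernel)
              | exact absurd (σ3.injective (hq.trans k2.symm)) (by decide +kernel)
              | exact absurd (σ3.injective (hq.trans ht.symm)) (by decide +kernel)
              | exact absurd (σ3.injective (hq.trans hr.symm)) (by decide +kernel)
              | exact build 1 H.one_mem rfl rfl rfl rfl rfl rfl
              | exact build (pC * pC * pC * pB * pB * pC)
                  (H.mul_mem (H.mul_mem (H.mul_mem (H.mul_mem (H.mul_mem hc hc) hc) hb) hb) hc)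
                  (by decide +kernel) (by decide +kernel) (by decide +kernel) (by decide +kernel) (by decide +kernel) (by decide +kernel)
              | exact build (pB * pB * pA * pA * pC * pB * pB)
                  (H.mul_mem (H.mul_mem (H.mul_mem (H.mul_mem (H.mul_mem (H.mul_mem hb hb) ha) ha) hc) hb) hb)
                  (by decide +kernel) (by decide +kernel) (by decide +kernel) (by decide +kernel) (by decide +kernel) (by decide +kernel)
              | exact odd (Equiv.swap 3 4) (by decide +kernel) (by decide +kernel) (by decide +kernel) (by decide +kernel) (by decide +kernel) (by decide +kernel) (by decide +kernel)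
              | exact odd (Equiv.swap 3 5) (by decide +kernel) (by decide +kernel) (by decide +kernel) (by decide +kernel) (by decide +kernel) (by decide +kernel) (by decide +kernel)
              | exact odd (Equiv.swap 4 5) (by decide +kernel) (by decide +kernel) (by decide +kernel) (by decide +kernel) (by decide +kernel) (by decide +kernel) (by decide +kernel)))
  have : σ = w * (u * (v * σ3)) := by rw [hσ3, hσ2, hσ1]; group
  rw [this]
  exact H.mul_mem hw (H.mul_mem hu (H.mul_mem hv h3))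

variable {im : F} (him : im ^ 2 = -1) (h2 : (2 : F) ≠ 0)

include him h2

lemma Mon_lam_of {g : GL (Fin 4) F} (σ : Equiv.Perm (Fin 6)) (d : Fin 6 → Fˣ)
    (h : ∀ x : Fin 6 → F, ext6 im ((g : M4) * sk im x * (g : M4)ᵀ) = fun i => (d (σ.symm i) : F) * x (σ.symm i)) :
    lam him h2 g = mon σ d := by
  refine gl_ext_mulVec fun x => ?_
  change act (lam him h2 g) x = _
  rw [act_lam him h2, h]
  funext i
  rw [mon_mulVec]

set_option maxHeartbeats 2000000 in
lemma det_gens :
    Matrix.det (cT1 im) = 1 ∧ Matrix.det (cTT im) = 1 ∧ Matrix.det (cM5 im) = 1 ∧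
      Matrix.det (pZ1 F) = 1 ∧ Matrix.det (im • (1 : M4)) = 1 := by
  refine ⟨?_, ?_, ?_, ?_, ?_⟩
  iterate 3
    simp [cT1, cTT, cM5, Matrix.det_succ_row_zero, Fin.sum_univ_succ, Fin.succAbove]
    grind
  · simp [pZ1, Fin.prod_univ_four]
  · simp; grind

omit him h2 in
/-- An element of the special linear group. -/
noncomputable def ofDet {A : M4} (hA : A.det = 1) : GL (Fin 4) F :=
  Matrix.GeneralLinearGroup.mkOfDetNeZero A (by rw [hA]; exact one_ne_zero)

omit him h2 in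
lemma ofDet_val {A : M4} (hA : A.det = 1) : ((ofDet hA : GL (Fin 4) F) : M4) = A := rfl

set_option maxHeartbeats 2000000 in
lemma lam_T1 : lam him h2 (ofDet (det_gens him h2).1) = mon pA ![1, -1, 1, 1, 1, -1] := by
  refine Mon_lam_of him h2 pA _ fun x => funext fun r => ?_
  rw [ofDet_val]
  fin_cases r <;>
    simp [ext6, sk, skm, Equiv.Perm.mul_def, Equiv.Perm.one_def, cT1, pA, E, Equiv.swap_apply_def, Matrix.mul_apply, Fin.sum_univ_four,
      Matrix.vecMul, dotProduct] <;> grind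

set_option maxHeartbeats 2000000 in
lemma lam_TT : lam him h2 (ofDet (det_gens him h2).2.1) = mon pB ![1, -1, -1, -1, 1, -1] := by
  refine Mon_lam_of him h2 pB _ fun x => funext fun r => ?_
  rw [ofDet_val]
  fin_cases r <;>
    simp [ext6, sk, skm, Equiv.Perm.mul_def, Equiv.Perm.one_def, cTT, pB, E, Equiv.swap_apply_def, Matrix.mul_apply, Fin.sum_univ_four,
      Matrix.vecMul, dotProduct] <;> grind

set_option maxHeartbeats 2000000 in
lemma lam_M5 : lam him h2 (ofDet (det_gens him h2).2.2.1) = mon pC ![-1, 1, 1, -1, 1, 1] := by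
  refine Mon_lam_of him h2 pC _ fun x => funext fun r => ?_
  rw [ofDet_val]
  fin_cases r <;>
    simp [ext6, sk, skm, Equiv.Perm.mul_def, Equiv.Perm.one_def, cM5, pC, E, Equiv.swap_apply_def, Matrix.mul_apply, Fin.sum_univ_four,
      Matrix.vecMul, dotProduct] <;> grind

set_option maxHeartbeats 2000000 in
lemma lam_Z1 : lam him h2 (ofDet (det_gens him h2).2.2.2.1) = mon 1 ![-1, -1, -1, -1, 1, 1] := by
  refine Mon_lam_of him h2 1 _ fun x => funext fun r => ?_
  rw [ofDet_val]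
  fin_cases r <;>
    simp [ext6, sk, skm, Equiv.Perm.mul_def, Equiv.Perm.one_def, pZ1, E, Matrix.mul_apply, Fin.sum_univ_four, Matrix.vecMul_diagonal,
      Matrix.diagonal_apply] <;> grind

set_option maxHeartbeats 2000000 in
lemma lam_I : lam him h2 (ofDet (det_gens him h2).2.2.2.2) = -1 := by
  rw [← mon_one, neg_mon]
  refine Mon_lam_of him h2 1 _ fun x => funext fun r => ?_
  rw [ofDet_val]
  fin_cases r <;>
    simp [ext6, sk, skm, Equiv.Perm.mul_def, Equiv.Perm.one_def, E, Matrix.mul_apply, Fin.sum_univ_four, Matrix.one_apply] <;> grind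

variable [Finite F]

/-- A group with the five generators and a non-monomial element has one fixing the axis `4`. -/
theorem exists_fixed_of_gens {K : Subgroup (GL (Fin 4) F)}
    (h3 : (3 : F) ≠ 0 ∨ ((3 : F) = 0 ∧ ∀ g ∈ K, ∀ a x, act (lam him h2 g) (E a) x = 0 ∨
      act (lam him h2 g) (E a) x * act (lam him h2 g) (E a) x = 1))
    (hdet : ∀ g ∈ K, Matrix.det (g : M4) = 1)
    (hdet6 : ∀ g ∈ K, Matrix.det ((lam him h2 g : GL (Fin 6) F) : Matrix (Fin 6) (Fin 6) F) = 1)
    (k1 : ofDet (det_gens him h2).1 ∈ K) (k2 : ofDet (det_gens him h2).2.1 ∈ K)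
    (k3 : ofDet (det_gens him h2).2.2.1 ∈ K) (k4 : ofDet (det_gens him h2).2.2.2.1 ∈ K)
    (k5 : ofDet (det_gens him h2).2.2.2.2 ∈ K)
    {g0 : GL (Fin 4) F} (hg0 : g0 ∈ K) (hg0m : ¬ Mon (lam him h2 g0)) :
    ∃ g ∈ K, ¬ Mon (lam him h2 g) ∧ ∃ t : F, t * t = 1 ∧ act (lam him h2 g) (E 4) = t • E 4 := by
  set G := K.map (lam him h2) with hG
  have mk : ∀ {A : M4} {hA : A.det = 1}, ofDet hA ∈ K → ∀ {σ : Equiv.Perm (Fin 6)} {d : Fin 6 → Fˣ},
      lam him h2 (ofDet hA) = mon σ d → mon σ d ∈ G := fun {A hA} hm {σ d} h => ⟨ofDet hA, hm, h⟩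
  have hneg : (-1 : GL (Fin 6) F) ∈ G :=
    ⟨ofDet (det_gens him h2).2.2.2.2, k5, lam_I him h2⟩
  set H : Subgroup (Equiv.Perm (Fin 6)) :=
    { carrier := {σ | ∃ d, mon σ d ∈ G}
      one_mem' := ⟨1, by rw [mon_one]; exact G.one_mem⟩
      mul_mem' := fun {a b} ⟨d, hd⟩ ⟨e, he⟩ => ⟨_, by rw [← mon_mul]; exact G.mul_mem hd he⟩
      inv_mem' := fun {a} ⟨d, hd⟩ => ⟨_, by rw [← mon_inv]; exact G.inv_mem hd⟩ } with hH
  have halt : ∀ σ, Equiv.Perm.sign σ = 1 → ∃ d, mon σ d ∈ G := fun σ hσ =>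
    alt_mem (H := H) ⟨_, mk k1 (lam_T1 him h2)⟩ ⟨_, mk k2 (lam_TT him h2)⟩ ⟨_, mk k3 (lam_M5 him h2)⟩ hσ
  have h45 : sgn 4 5 ∈ G := by
    have := (neg_mem_iff hneg).2 (mk k4 (lam_Z1 him h2))
    rw [neg_mon] at this
    rw [sgn]
    convert this using 2
    funext y
    fin_cases y <;> simp [dfun]
  have hsgn : ∀ i j : Fin 6, i ≠ j → sgn i j ∈ G := by
    intro i j hij
    obtain ⟨c, d, e, f, hD⟩ := exists_dist hij
    obtain ⟨c', d', e', f', hD'⟩ := exists_dist (show (4 : Fin 6) ≠ 5 by decide)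
    set n := hD.perm * hD'.perm⁻¹ with hn
    have n4 : n 4 = i := by
      rw [hn, Equiv.Perm.mul_apply, show hD'.perm⁻¹ 4 = 0 from hD'.perm.symm_apply_apply 0]; rfl
    have n5 : n 5 = j := by
      rw [hn, Equiv.Perm.mul_apply, show hD'.perm⁻¹ 5 = 1 from hD'.perm.symm_apply_apply 1]; rfl
    obtain ⟨m, hms, hm4, hm5⟩ : ∃ m : Equiv.Perm (Fin 6), Equiv.Perm.sign m = 1 ∧ m 4 = i ∧ m 5 = j := by
      rcases Int.units_eq_one_or (Equiv.Perm.sign n) with e1 | e1
      · exact ⟨n, e1, n4, n5⟩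
      · refine ⟨n * Equiv.swap 0 1, ?_, ?_, ?_⟩
        · rw [Equiv.Perm.sign_mul, e1, Equiv.Perm.sign_swap (by decide)]; rfl
        · rw [Equiv.Perm.mul_apply, Equiv.swap_apply_of_ne_of_ne (by decide) (by decide), n4]
        · rw [Equiv.Perm.mul_apply, Equiv.swap_apply_of_ne_of_ne (by decide) (by decide), n5]
    obtain ⟨δ, hδ⟩ := halt m hms
    have e : sgn i j = mon m δ * sgn 4 5 * (mon m δ)⁻¹ := by
      rw [eq_mul_inv_iff_mul_eq, sgn, sgn, mon_mul, mon_mul, one_mul, mul_one]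
      congr 1
      funext y
      simp only [Equiv.Perm.one_apply]
      rw [mul_comm]
      congr 1
      by_cases k2 : y = 5
      · subst k2; simp [dfun, hm5]
      by_cases k1 : y = 4
      · subst k1; simp [dfun, hm4, hij]
      simp [dfun, k1, k2, show m y ≠ i from fun q => k1 (m.injective (q.trans hm4.symm)),
        show m y ≠ j from fun q => k2 (m.injective (q.trans hm5.symm))]
    rw [e]
    exact G.mul_mem (G.mul_mem hδ h45) (G.inv_mem hδ)
  have hdot : ∀ g ∈ G, ∀ x y : Fin 6 → F, act g x ⬝ᵥ act g y = x ⬝ᵥ y := by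
    rintro _ ⟨g, hg, rfl⟩ x y
    exact lam_dot him h2 (hdet g hg) x y
  have hdetG : ∀ g ∈ G, Matrix.det (g : Matrix (Fin 6) (Fin 6) F) = 1 := by
    rintro _ ⟨g, hg, rfl⟩; exact hdet6 g hg
  have hperm : ∀ σ, Equiv.Perm.sign σ = 1 → mon σ 1 ∈ G := fun σ hσ => by
    obtain ⟨d, hd⟩ := halt σ hσ
    have hd2 : ∀ x, (d x : F) * d x = 1 := fun x => by
      have h := hdot _ hd (E x) (E x)
      rw [act, E, mon_mulVec_single, mul_one] at h
      simpa using h
    have hp : ∏ x, (d x : F) = 1 := by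
      have := hdetG _ hd
      rwa [det_mon, hσ, Units.val_one, Int.cast_one, one_mul] at this
    have := G.mul_mem hd (G.inv_mem (mon_one_mem' h2 hsgn hd2 hp))
    rw [mon_inv, mon_mul] at this
    convert this using 2
    · simp
    · funext y; simp
  by_cases hfix : FixedMon G
  · have hS : Six G := ⟨⟨hdot, hsgn, hperm⟩, h2, hdetG, hfix⟩
    rcases h3 with h3 | ⟨h3, hv⟩
    · exact absurd (all_mon hS h3 (Subgroup.mem_map_of_mem _ hg0)) hg0m
    · refine absurd (all_mon_three hS h3 ?_ (Subgroup.mem_map_of_mem _ hg0)) hg0m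
      rintro _ ⟨g, hg, rfl⟩
      exact hv g hg
  simp only [FixedMon, not_forall] at hfix
  obtain ⟨_, ⟨g, hg, rfl⟩, a, t, ha, hgm⟩ := hfix
  have ht : t * t = 1 := by
    have h := hdot _ (Subgroup.mem_map_of_mem _ hg) (E a) (E a)
    rw [ha, smul_dotProduct, dotProduct_smul, norm_E] at h
    simpa using h
  obtain ⟨σ, hσ, hσa⟩ : ∃ σ : Equiv.Perm (Fin 6), Equiv.Perm.sign σ = 1 ∧ σ a = 4 := by
    by_cases h4 : a = 4
    · exact ⟨1, by simp, h4⟩
    obtain ⟨c, hc⟩ := exists_fresh 2 {a, 4} Finset.card_le_two (by simp)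
    simp only [Finset.mem_insert, Finset.mem_singleton, not_or] at hc
    exact ⟨Equiv.swap a 4 * Equiv.swap 4 c, sign_cycle h4 (Ne.symm hc.2), by
      rw [Equiv.Perm.mul_apply, Equiv.swap_apply_of_ne_of_ne h4 (Ne.symm hc.1), Equiv.swap_apply_left]⟩
  obtain ⟨m, hm, hlm⟩ := hperm σ hσ
  refine ⟨m * g * m⁻¹, K.mul_mem (K.mul_mem hm hg) (K.inv_mem hm), fun hM => hgm ?_, t, ht, ?_⟩
  · rw [map_mul, map_mul, map_inv, hlm] at hM
    have := Mon_mul (Mon_mul (Mon_inv (mon_Mon σ (1 : Fin 6 → Fˣ))) hM) (mon_Mon σ (1 : Fin 6 → Fˣ))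
    rwa [show ∀ x y : GL (Fin 6) F, x⁻¹ * (x * y * x⁻¹) * x = y from fun x y => by group] at this
  · rw [map_mul, map_mul, map_inv, hlm, act_mul, act_mul,
      show act (mon σ 1)⁻¹ (E 4) = (E a : Fin 6 → F) by
        rw [← hσa, show E (σ a) = act (mon σ 1) (E a : Fin 6 → F) by
          rw [act, E, E, mon_mulVec_single]; simp, act_inv],
      ha, act, mulVec_smul, E, mon_mulVec_single, hσa]
    simp [E]

/-- A larger group has an outside element fixing the axis `4`. -/
theorem exists_fixed (h3 : (3 : F) ≠ 0) {K : Subgroup (GL (Fin 4) F)}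
    (hdet : ∀ g ∈ K, Matrix.det (g : M4) = 1)
    (hdet6 : ∀ g ∈ K, Matrix.det ((lam him h2 g : GL (Fin 6) F) : Matrix (Fin 6) (Fin 6) F) = 1)
    (hK : ∀ g : GL (Fin 4) F, Matrix.det (g : M4) = 1 → Mon (lam him h2 g) → g ∈ K)
    {g0 : GL (Fin 4) F} (hg0 : g0 ∈ K) (hg0m : ¬ Mon (lam him h2 g0)) :
    ∃ g ∈ K, ¬ Mon (lam him h2 g) ∧ ∃ t : F, t * t = 1 ∧ act (lam him h2 g) (E 4) = t • E 4 :=
  exists_fixed_of_gens him h2 (Or.inl h3) hdet hdet6
    (hK _ (det_gens him h2).1 (by rw [lam_T1]; exact mon_Mon _ _))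
    (hK _ (det_gens him h2).2.1 (by rw [lam_TT]; exact mon_Mon _ _))
    (hK _ (det_gens him h2).2.2.1 (by rw [lam_M5]; exact mon_Mon _ _))
    (hK _ (det_gens him h2).2.2.2.1 (by rw [lam_Z1]; exact mon_Mon _ _))
    (hK _ (det_gens him h2).2.2.2.2 (by rw [lam_I, ← mon_one, neg_mon]; exact mon_Mon _ _))
    hg0 hg0m

end CfsgLib.ClassicalMax.OmSix
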