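/-
The normaliser of the two-qubit group of symplectic type in four dimensions: monomial images, the
symplectic group of the axis, maximality.
-/
import Cfsg.Agent.Lib.ClassicalMax.OrthSix.Image
import Cfsg.Agent.Lib.ClassicalMax.SympInSL
import Cfsg.Agent.Lib.ClassicalMax.SympFourFrameStd
set_option autoImplicit false
set_option linter.unusedSectionVars false

namespace CfsgLib.ClassicalMax.OmSix

open Matrix Module Cfsg.Geo
open CfsgLib.ClassicalMax.MonG CfsgLib.ClassicalMax.OmL CfsgLib.TwoSymp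
open CfsgLib.ClassicalMax.SympFourFrameStd (fm Sm Perm5)

variable {F : Type*} [Field F]

local notation "M4" => Matrix (Fin 4) (Fin 4) F

lemma fm_apply (x y : Fin 4 → F) : fm F x y = x 0 * y 1 - x 1 * y 0 + x 2 * y 3 - x 3 * y 2 := by
  simp [fm, SympFourFrameStd.Jm, dotProduct, mulVec, Fin.sum_univ_four]
  ring

lemma fm_symplectic : IsSymplecticForm (fm F) where
  bilinear := ⟨fun x y v => by simp [fm_apply]; ring, fun c x v => by simp [fm_apply]; ring,
    fun v x y => by simp [fm_apply]; ring, fun c v x => by simp [fm_apply]; ring⟩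
  skew v w := by simp [fm_apply]; ring
  alternating v := by simp [fm_apply]; ring
  nondegenerate v hv := by
    obtain ⟨i, hi⟩ := Function.ne_iff.1 hv
    fin_cases i
    · exact ⟨⟨Pi.single 1 1, by simpa [fm_apply] using hi⟩, ⟨Pi.single 1 1, by simpa [fm_apply] using hi⟩⟩
    · exact ⟨⟨Pi.single 0 1, by simpa [fm_apply] using hi⟩, ⟨Pi.single 0 1, by simpa [fm_apply] using hi⟩⟩
    · exact ⟨⟨Pi.single 3 1, by simpa [fm_apply] using hi⟩, ⟨Pi.single 3 1, by simpa [fm_apply] using hi⟩⟩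
    · exact ⟨⟨Pi.single 2 1, by simpa [fm_apply] using hi⟩, ⟨Pi.single 2 1, by simpa [fm_apply] using hi⟩⟩

lemma mem_sl {g : GL (Fin 4) F} : g ∈ specialLinear (Fin 4) F ↔ Matrix.det (g : M4) = 1 := by
  rw [Cfsg.Geo.specialLinear, MonoidHom.mem_ker, Units.ext_iff]
  rfl

variable {im : F} (him : im ^ 2 = -1) (h2 : (2 : F) ≠ 0)

include him h2

/-- The images of elements of determinant one have determinant one. -/
lemma det_lam {g : GL (Fin 4) F} (hg : g ∈ specialLinear (Fin 4) F) :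
    Matrix.det ((lam him h2 g : GL (Fin 6) F) : Matrix (Fin 6) (Fin 6) F) = 1 := by
  classical
  let φ : GL (Fin 4) F →* Fˣ := Matrix.GeneralLinearGroup.det.comp (lam him h2)
  suffices H : specialLinear (Fin 4) F ≤ φ.ker by
    simpa [φ] using congrArg Units.val (MonoidHom.mem_ker.1 (H hg))
  refine sl_le_of_elementary fun i j hij c => ?_
  set s := tvGL (Pi.single i (c / 2)) (Pi.single j (1 : F)) with hs
  have h0 : (Pi.single j (1 : F)) ⬝ᵥ (Pi.single i (c / 2) : Fin 4 → F) = 0 := by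
    rw [single_dotProduct, one_mul, Pi.single_eq_of_ne hij.symm]
  have e : tvGL (Pi.single i c) (Pi.single j (1 : F)) = s * s := by
    haveI : NeZero (2 : F) := ⟨h2⟩
    rw [hs, ← tvGL_add_left h0 h0, ← Pi.single_add, add_halves]
  have hdet : Matrix.det (s : M4) = 1 := mem_sl.1 (tvGL_mem_sl _ _)
  set N : Matrix (Fin 6) (Fin 6) F := ((lam him h2 s : GL (Fin 6) F) : Matrix (Fin 6) (Fin 6) F) with hN
  have hort : Nᵀ * N = 1 := by
    ext a b
    have h := lam_dot him h2 hdet (E a) (E b)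
    rw [act, act, E, E, col_eq, col_eq] at h
    rw [Matrix.mul_apply, Matrix.one_apply]
    simp only [dotProduct, ← hN] at h
    simp only [Matrix.transpose_apply]
    rw [h, Finset.sum_eq_single a (fun x _ hx => by rw [Pi.single_eq_of_ne hx, zero_mul])
      (fun h => absurd (Finset.mem_univ a) h), Pi.single_eq_same, one_mul, Pi.single_apply]
  have hsq : N.det * N.det = 1 := by
    have := congrArg Matrix.det hort
    rwa [Matrix.det_mul, Matrix.det_transpose, Matrix.det_one] at this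
  rw [MonoidHom.mem_ker, e, map_mul]
  exact Units.ext (by simpa [φ] using hsq)

omit him h2 in
/-- The coordinate matrices. -/
abbrev Jm (im : F) (a : Fin 6) : M4 := sk im (E a)

lemma col_of_eq {g : GL (Fin 4) F} {a b : Fin 6} {t : F}
    (h : (g : M4) * Jm im a * (g : M4)ᵀ = t • Jm im b) : act (lam him h2 g) (E a) = t • E b := by
  rw [act_lam him h2, h, show t • Jm im b = sk im (t • E b) from ((skL im).map_smul t (E b)).symm,
    ext6_sk him h2]

lemma eq_of_col {g : GL (Fin 4) F} {a b : Fin 6} {t : F}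
    (h : act (lam him h2 g) (E a) = t • E b) : (g : M4) * Jm im a * (g : M4)ᵀ = t • Jm im b := by
  rw [← sk_act_lam him h2, h]
  exact (skL im).map_smul t (E b)

omit h2 in
lemma Jm_sq (a : Fin 6) : Jm im a * Jm im a = (![-1, 1, -1, 1, -1, 1] a : F) • (1 : M4) := by
  ext i j
  fin_cases a <;> fin_cases i <;> fin_cases j <;>
    simp [Jm, sk, skm, E, Matrix.mul_apply, Fin.sum_univ_four] <;> grind

omit h2 in
set_option maxHeartbeats 2000000 in
lemma Sm_eq (i : Fin 5) :
    Sm im i = (![im, im, im, -im, -im] i : F) • (Jm im (![1, 5, 2, 0, 3] i) * Jm im 4) := by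
  ext r c
  fin_cases i <;> fin_cases r <;> fin_cases c <;>
    simp [Sm, pX1, pZ1, Jm, sk, skm, E, Matrix.mul_apply, Fin.sum_univ_four, Matrix.diagonal_apply,
      Matrix.vecMul, dotProduct] <;> grind

omit him h2 in
lemma j4_eq : (!![0, 1, 0, 0; -1, 0, 0, 0; 0, 0, 0, 1; 0, 0, -1, 0] : M4) = Jm im 4 := by
  ext r c
  fin_cases r <;> fin_cases c <;> simp [Jm, sk, skm, E]

/-- An isometry permuting the five has monomial image. -/
lemma Mon_of_Perm5 {g : GL (Fin 4) F} (hg : g ∈ isoOf (fm F)) (hp : Perm5 im g) :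
    Mon (lam him h2 g) := by
  have him0 : im ≠ 0 := fun e => by rw [e] at him; simp at him
  have hJ : (g : M4)ᵀ * Jm im 4 * (g : M4) = Jm im 4 := by
    rw [← j4_eq]
    ext r c
    have := hg (Pi.single r 1) (Pi.single c 1)
    change fm F ((g : M4) *ᵥ Pi.single r 1) ((g : M4) *ᵥ Pi.single c 1) = _ at this
    rw [col_eq, col_eq, fm_apply, fm_apply] at this
    simp only [Matrix.mul_apply, Fin.sum_univ_four, Matrix.transpose_apply]
    fin_cases r <;> fin_cases c <;> simp at this ⊢ <;> linear_combination this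
  have hsq : Jm im 4 * Jm im 4 = -(1 : M4) := by rw [Jm_sq him]; simp
  have hinv : ((g⁻¹ : GL (Fin 4) F) : M4) = -(Jm im 4 * (g : M4)ᵀ * Jm im 4) := by
    refine Units.inv_eq_of_mul_eq_one_left ?_
    rw [Matrix.neg_mul, show Jm im 4 * (g : M4)ᵀ * Jm im 4 * (g : M4) =
      Jm im 4 * ((g : M4)ᵀ * Jm im 4 * (g : M4)) by simp only [Matrix.mul_assoc], hJ, hsq, neg_neg]
  have hJ' : (g : M4) * Jm im 4 * (g : M4)ᵀ = Jm im 4 := by
    have e : (g : M4) * -(Jm im 4 * (g : M4)ᵀ * Jm im 4) = 1 := by rw [← hinv, Units.mul_inv]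
    have e' := congrArg (fun X : M4 => X * Jm im 4) e
    simp only [Matrix.mul_neg, Matrix.neg_mul, Matrix.mul_assoc, hsq, Matrix.mul_neg, neg_neg,
      Matrix.mul_one, Matrix.one_mul] at e'
    simpa [Matrix.mul_assoc] using e'
  have col : ∀ i : Fin 5, ∃ (b : Fin 6) (t : F), act (lam him h2 g) (E ((![1, 5, 2, 0, 3] : Fin 5 → Fin 6) i)) = t • (E b : Fin 6 → F) := by
    intro i
    obtain ⟨j, hj⟩ := hp i
    obtain ⟨s, hs⟩ : ∃ s : F, (g : M4) * Sm im i * ((g⁻¹ : GL (Fin 4) F) : M4) = s • Sm im j := by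
      rcases hj with e | e
      · exact ⟨1, by rw [e, one_smul]⟩
      · exact ⟨-1, by rw [e, neg_one_smul]⟩
    rw [Sm_eq him, Sm_eq him, hinv] at hs
    set c : F := ![im, im, im, -im, -im] i with hc
    set c' : F := ![im, im, im, -im, -im] j
    have hc0 : c ≠ 0 := by fin_cases i <;> simp [hc, him0]
    refine ⟨![1, 5, 2, 0, 3] j, s * c' / c, col_of_eq him h2 ?_⟩
    have e' := congrArg (fun X : M4 => X * Jm im 4) hs
    simp only [Matrix.mul_smul, Matrix.smul_mul, Matrix.mul_neg, Matrix.neg_mul, Matrix.mul_assoc, hsq,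
      Matrix.mul_one, smul_neg, neg_neg] at e'
    have e'' : c • ((g : M4) * (Jm im (![1, 5, 2, 0, 3] i) * (Jm im 4 * (Jm im 4 * (g : M4)ᵀ)))) =
        -((s * c') • Jm im (![1, 5, 2, 0, 3] j)) := by
      rw [e', smul_smul]
    rw [← Matrix.mul_assoc (Jm im 4) (Jm im 4), hsq, Matrix.neg_mul, Matrix.one_mul, Matrix.mul_neg,
      Matrix.mul_neg, smul_neg, neg_inj] at e''
    rw [Matrix.mul_assoc, div_eq_inv_mul, ← smul_smul, ← e'', smul_smul, inv_mul_cancel₀ hc0, one_smul]
  refine Mon_of_cols fun a => ?_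
  have : ∃ (b : Fin 6) (t : F), act (lam him h2 g) (E a) = t • (E b : Fin 6 → F) := by
    fin_cases a
    exacts [col 3, col 0, col 2, col 4, ⟨4, 1, col_of_eq him h2 (a := 4) (by rw [hJ', one_smul])⟩, col 1]
  obtain ⟨b, t, h⟩ := this
  exact ⟨b, fun y hy => by rw [h]; simp [E, hy]⟩

variable {R : Subgroup (GL (Fin 4) F)} {Q X1 Z1 X2 Z2 I : GL (Fin 4) F}

set_option maxHeartbeats 2000000 in
lemma Jm_inModel (hP : Pauli R im Q X1 Z1 X2 Z2 I) (a : Fin 6) : Pauli.InModel R Q (Jm im a) := by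
  obtain ⟨g1, g2, g3, g4, -⟩ := hP.inModel_gens
  have e : Jm im a = (im ^ (![2, 3, 2, 3, 2, 3] a : ℕ)) • (![pX1 F * pZ1 F * pX2 F,
      pX1 F * pX2 F * pZ2 F, pX1 F * pZ1 F * pZ2 F, pX1 F * pZ1 F, pX2 F * pZ2 F,
      pZ1 F * pX2 F * pZ2 F] a : M4) := by
    ext r c
    fin_cases a <;> fin_cases r <;> fin_cases c <;>
      simp [Jm, sk, skm, E, pX1, pZ1, pX2, pZ2, Matrix.mul_apply, Fin.sum_univ_four,
        Matrix.diagonal_apply, Matrix.vecMul, dotProduct, pow_succ] <;> grind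
  rw [e]
  refine hP.inModel_smul _ ?_
  fin_cases a
  exacts [Pauli.inModel_mul (Pauli.inModel_mul g1 g2) g3, Pauli.inModel_mul (Pauli.inModel_mul g1 g3) g4,
    Pauli.inModel_mul (Pauli.inModel_mul g1 g2) g4, Pauli.inModel_mul g1 g2, Pauli.inModel_mul g3 g4,
    Pauli.inModel_mul (Pauli.inModel_mul g2 g3) g4]

omit h2 in
set_option maxHeartbeats 2000000 in
lemma gens_eq : pX1 F = im • (Jm im 1 * Jm im 4) ∧ pZ1 F = im • (Jm im 5 * Jm im 4) ∧
    pX2 F = im • (Jm im 0 * Jm im 3) ∧ pZ2 F = im • (Jm im 2 * Jm im 3) := by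
  refine ⟨?_, ?_, ?_, ?_⟩ <;> ext r c <;> fin_cases r <;> fin_cases c <;>
    simp [pX1, pZ1, pX2, pZ2, Jm, sk, skm, E, Matrix.mul_apply, Fin.sum_univ_four, Matrix.diagonal_apply,
      Matrix.vecMul, dotProduct] <;> grind

/-- Elements with monomial image normalise. -/
lemma normalizer_of_Mon (hP : Pauli R im Q X1 Z1 X2 Z2 I) {g : GL (Fin 4) F}
    (hdet : Matrix.det (g : M4) = 1) (hm : Mon (lam him h2 g)) :
    Q * g * Q⁻¹ ∈ subgroupNormalizer R := by
  obtain ⟨σ, d, hd⟩ := exists_mon_of_Mon hm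
  have hcol : ∀ a, (g : M4) * Jm im a * (g : M4)ᵀ = (d a : F) • Jm im (σ a) := fun a =>
    eq_of_col him h2 (by rw [hd, act, E, mon_mulVec_single, E, ← Pi.single_smul, smul_eq_mul])
  have hd2 : ∀ a, (d a : F) * d a = 1 := fun a => by
    have h := lam_dot him h2 hdet (E a) (E a)
    rw [hd, act, E, mon_mulVec_single, mul_one] at h
    simpa using h
  have hs2 : ∀ a, (![-1, 1, -1, 1, -1, 1] a : F) * ![-1, 1, -1, 1, -1, 1] a = 1 := fun a => by
    fin_cases a <;> simp
  have pair : ∀ a b, ∃ P, Pauli.InModel R Q P ∧ (g : M4) * (im • (Jm im a * Jm im b)) = P * (g : M4) := by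
    intro a b
    set sb : F := ![-1, 1, -1, 1, -1, 1] b with hsb
    set sr : F := ![-1, 1, -1, 1, -1, 1] (σ b) with hsr
    have h1 : (g : M4)ᵀ * (Jm im (σ b) * (g : M4)) = ((d b : F) * sr * sb) • Jm im b := by
      set w := (g : M4)ᵀ * (Jm im (σ b) * (g : M4)) with hw
      have e := congrArg (fun X : M4 => X * (Jm im (σ b) * (g : M4))) (hcol b)
      simp only [Matrix.mul_assoc, Matrix.smul_mul] at e
      rw [← hw, ← Matrix.mul_assoc (Jm im (σ b)), Jm_sq him, Matrix.smul_mul, Matrix.one_mul,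
        smul_smul, ← hsr] at e
      have e2 : Jm im b * w = ((d b : F) * sr) • (1 : M4) := by
        have := congrArg (fun X : M4 => ((g⁻¹ : GL (Fin 4) F) : M4) * X) e
        simpa [← Matrix.mul_assoc] using this
      have e3 := congrArg (fun X : M4 => Jm im b * X) e2
      simp only [← Matrix.mul_assoc, Jm_sq him, Matrix.smul_mul, Matrix.one_mul, Matrix.mul_smul,
        Matrix.mul_one, ← hsb] at e3
      calc w = (sb * sb) • w := by rw [hsb, hs2, one_smul]
        _ = sb • (sb • w) := (smul_smul _ _ _).symm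
        _ = _ := by rw [e3, smul_smul]; ring_nf
    set k : F := (d a : F) * ((d b : F) * sr * sb) with hk
    have hk2 : k * k = 1 := by
      rw [hk]
      linear_combination ((d b : F) * d b * sr * sr * sb * sb) * hd2 a + (sr * sr * sb * sb) * hd2 b +
        (sb * sb) * hs2 (σ b) + hs2 b
    refine ⟨(k * im) • (Jm im (σ a) * Jm im (σ b)), ?_, ?_⟩
    · have hm' := Pauli.inModel_mul (Jm_inModel him h2 hP (σ a)) (Jm_inModel him h2 hP (σ b))
      rcases mul_self_eq_one_iff.1 hk2 with e | e <;> rw [e]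
      · simpa using hP.inModel_smul 1 hm'
      · have := hP.inModel_smul 3 hm'
        rwa [show im ^ 3 = -1 * im by rw [← him]; ring] at this
    · have e : ((d b : F) * sr * sb) • ((g : M4) * (Jm im a * Jm im b)) =
          (d a : F) • (Jm im (σ a) * Jm im (σ b) * (g : M4)) := by
        rw [← Matrix.mul_smul, ← Matrix.mul_smul, ← h1, ← Matrix.mul_assoc, ← Matrix.mul_assoc, hcol a,
          Matrix.smul_mul, Matrix.mul_assoc]
      have hc2 : ((d b : F) * sr * sb) * ((d b : F) * sr * sb) = 1 := by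
        linear_combination (sr * sr * sb * sb) * hd2 b + (sb * sb) * hs2 (σ b) + hs2 b
      calc (g : M4) * (im • (Jm im a * Jm im b))
          = (im * (((d b : F) * sr * sb) * ((d b : F) * sr * sb))) • ((g : M4) * (Jm im a * Jm im b)) := by
            rw [hc2, mul_one, Matrix.mul_smul]
        _ = (im * ((d b : F) * sr * sb)) • (((d b : F) * sr * sb) • ((g : M4) * (Jm im a * Jm im b))) := by
            rw [smul_smul]; ring_nf
        _ = _ := by rw [e, smul_smul, Matrix.smul_mul, hk]; ring_nf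
  have hgy : ((Q * g * Q⁻¹ : GL (Fin 4) F) : M4) = (Q : M4) * (g : M4) * ((Q⁻¹ : GL (Fin 4) F) : M4) := by
    rw [Units.val_mul, Units.val_mul]
  obtain ⟨x1, z1, x2, z2⟩ := gens_eq him (F := F)
  exact hP.mem_normalizer hgy (x1 ▸ pair 1 4) (z1 ▸ pair 5 4) (x2 ▸ pair 0 3) (z2 ▸ pair 2 3)

end CfsgLib.ClassicalMax.OmSix
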