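/-
The normaliser of the group of symplectic type of order sixty-four is maximal in the special linear
group of dimension four.
-/
import Cfsg.Agent.Lib.ClassicalMax.OrthSix.Glue
set_option autoImplicit false
set_option linter.unusedSectionVars false

namespace CfsgLib.ClassicalMax.OmSix

open Matrix Module Cfsg.Geo
open CfsgLib.ClassicalMax.MonG CfsgLib.ClassicalMax.OmL CfsgLib.TwoSymp
open CfsgLib.ClassicalMax.SympFourFrameStd (fm Sm Perm5)

variable {F : Type*} [Field F]

local notation "M4" => Matrix (Fin 4) (Fin 4) F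

variable {im : F} (him : im ^ 2 = -1) (h2 : (2 : F) ≠ 0)

include him h2

/-- In coordinates: a group containing the monomial preimage and one more element is everything. -/
theorem sl_le_of_escape [Fintype F] (h3 : (3 : F) ≠ 0) (hprime : ∀ a : F, ∃ n : ℕ, a = n)
    {K : Subgroup (GL (Fin 4) F)} (hKs : K ≤ specialLinear (Fin 4) F)
    (hK : ∀ g : GL (Fin 4) F, Matrix.det (g : M4) = 1 → Mon (lam him h2 g) → g ∈ K)
    {g0 : GL (Fin 4) F} (hg0 : g0 ∈ K) (hg0m : ¬ Mon (lam him h2 g0)) :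
    specialLinear (Fin 4) F ≤ K := by
  classical
  have hdet : ∀ g ∈ K, Matrix.det (g : M4) = 1 := fun g hg => mem_sl.1 (hKs hg)
  obtain ⟨g, hg, hgm, t, ht, hgt⟩ :=
    exists_fixed him h2 h3 hdet (fun g hg => det_lam him h2 (hKs hg)) hK hg0 hg0m
  have hiso : isoOf (fm F) ≤ specialLinear (Fin 4) F :=
    isoOf_le_of_sTv fm_symplectic fun v c => sTv_mem_sl v c
  -- a scalar with reversed multiplier
  set I0 : GL (Fin 4) F := ofDet (det_gens him h2).2.2.2.2 with hI0
  have hI0v : (I0 : M4) = im • (1 : M4) := rfl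
  have hI0K : I0 ∈ K := hK _ (det_gens him h2).2.2.2.2 (by
    rw [hI0, lam_I, ← mon_one, neg_mon]; exact mon_Mon _ _)
  have hf : ∀ (c : F) (u v : Fin 4 → F), fm F (c • u) (c • v) = (c * c) * fm F u v := fun c u v => by
    rw [fm_symplectic.bilinear.smul_left, fm_symplectic.bilinear.smul_right]; ring
  have hII : im * im = -1 := by rw [← pow_two]; exact him
  -- isometries from fixed axis
  have isoOfFix : ∀ g : GL (Fin 4) F, act (lam him h2 g) (E 4) = (1 : F) • E 4 → g ∈ isoOf (fm F) := by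
    intro g hgt
    have hJ := eq_of_col him h2 hgt
    rw [one_smul] at hJ
    have hsq : Jm im 4 * Jm im 4 = -(1 : M4) := by rw [Jm_sq him]; simp
    have hJt : (g : M4)ᵀ * Jm im 4 * (g : M4) = Jm im 4 := by
      have hinv : ((g⁻¹ : GL (Fin 4) F) : M4) = -(Jm im 4 * (g : M4)ᵀ * Jm im 4) := by
        refine Units.inv_eq_of_mul_eq_one_right ?_
        rw [Matrix.mul_neg, ← Matrix.mul_assoc, ← Matrix.mul_assoc, hJ, hsq, neg_neg]
      have e : -(Jm im 4 * (g : M4)ᵀ * Jm im 4) * (g : M4) = 1 := by rw [← hinv, Units.inv_mul]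
      have e' := congrArg (fun X : M4 => Jm im 4 * X) e
      simp only [Matrix.neg_mul, Matrix.mul_neg, ← Matrix.mul_assoc, hsq, Matrix.one_mul, neg_neg,
        Matrix.mul_one] at e'
      exact e'
    intro u v
    change fm F ((g : M4) *ᵥ u) ((g : M4) *ᵥ v) = fm F u v
    rw [fm, fm, show SympFourFrameStd.Jm F = Jm im 4 from j4_eq, dotProduct_mulVec, vecMul_mulVec,
      ← dotProduct_mulVec, mulVec_mulVec, hJt]
  -- reduce to an isometry
  obtain ⟨g1, hg1, hg1m, hg1i⟩ : ∃ g1 ∈ K, ¬ Mon (lam him h2 g1) ∧ g1 ∈ isoOf (fm F) := by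
    rcases mul_self_eq_one_iff.1 ht with e | e
    · exact ⟨g, hg, hgm, isoOfFix g (e ▸ hgt)⟩
    · refine ⟨I0 * g, K.mul_mem hI0K hg, fun hm => hgm ?_, isoOfFix _ ?_⟩
      · have := Mon_mul (show Mon (-1 : GL (Fin 6) F) by rw [← mon_one, neg_mon]; exact mon_Mon _ _) hm
        rw [map_mul, hI0, lam_I, neg_one_mul, neg_one_mul, neg_neg] at this
        exact this
      · rw [map_mul, hI0, lam_I, act_mul, hgt, e, act, Units.val_neg, Units.val_one, neg_mulVec,
          one_mulVec, neg_smul, neg_neg]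
  -- the whole isometry group
  have hSp : isoOf (fm F) ≤ K := by
    refine le_trans ?_ (inf_le_left : K ⊓ isoOf (fm F) ≤ K)
    refine SympFourFrameStd.frame_generates him h2 hprime inf_le_right (fun x hx hp => ⟨?_, hx⟩)
      (g0 := g1) ⟨hg1, hg1i⟩ (fun hp => hg1m (Mon_of_Perm5 him h2 hg1i hp))
    exact hK x (mem_sl.1 (hiso hx)) (Mon_of_Perm5 him h2 hx hp)
  -- the similarities
  have hsim : similarityGroup (fm F) ⊓ specialLinear (Fin 4) F ≤ K := by
    rintro x ⟨⟨μ, hμ⟩, hx⟩
    have hxd : Matrix.det (x : M4) = 1 := mem_sl.1 hx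
    have hJt : (x : M4)ᵀ * Jm im 4 * (x : M4) = (μ : F) • Jm im 4 := by
      rw [← j4_eq]
      ext r c
      have := hμ (Pi.single r 1) (Pi.single c 1)
      rw [col_eq, col_eq, fm_apply, fm_apply] at this
      simp only [Matrix.mul_apply, Fin.sum_univ_four, Matrix.transpose_apply]
      fin_cases r <;> fin_cases c <;> simp at this ⊢ <;> linear_combination this
    have hμ2 : (μ : F) * μ = 1 := by
      have h := congrArg pf hJt
      have e1 : Jm im 4 = skm (1 : F) 0 0 0 0 1 := by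
        ext r c; fin_cases r <;> fin_cases c <;> simp [Jm, sk, skm, E]
      rw [e1] at h
      have e2 := pf_conj ((x : M4)ᵀ) (1 : F) 0 0 0 0 1
      rw [transpose_transpose, h, det_transpose, hxd, one_mul] at e2
      simpa [pf, skm] using e2
    rcases mul_self_eq_one_iff.1 hμ2 with e | e
    · exact hSp (fun u v => (hμ u v).trans (by rw [e, one_mul]))
    · have hy : I0 * x ∈ isoOf (fm F) := fun u v => by
        change fm F (((I0 * x : GL (Fin 4) F) : M4) *ᵥ u) (((I0 * x : GL (Fin 4) F) : M4) *ᵥ v) = _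
        rw [Units.val_mul, hI0v, smul_mul_assoc, one_mul, smul_mulVec, smul_mulVec, hf, hμ, e, hII]
        ring
      have := K.mul_mem (K.inv_mem hI0K) (hSp hy)
      rwa [inv_mul_cancel_left] at this
  -- an element moving the axis
  set y : GL (Fin 4) F := ofDet (det_gens him h2).1 with hy
  have hyK : y ∈ K := hK _ (det_gens him h2).1 (by rw [hy, lam_T1]; exact mon_Mon _ _)
  rcases (symp_similarity_maximal_sl (fm_symplectic (F := F)) (by simp)).2 K hsim hKs with e | e
  · exfalso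
    obtain ⟨⟨μ, hμ⟩, -⟩ := e ▸ hyK
    have := hμ (Pi.single 0 1) (Pi.single 1 1)
    rw [col_eq, col_eq, fm_apply, fm_apply] at this
    simp [hy, ofDet_val, cT1] at this
    have := μ.ne_zero
    grind
  · exact e.ge

omit him in
/-- The clause. -/
theorem c6_maximal [Fintype F] {p : ℕ} (hp : p.Prime) (hF : Fintype.card F = p) (hp4 : p % 4 = 1)
    {R : Subgroup (GL (Fin 4) F)} (hR : IsLinearSymplecticTypeData 2 R) (hcard : Nat.card R = 2 ^ 6) :
    IsMaximalIn (specialLinear (Fin 4) F) (subgroupNormalizer R ⊓ specialLinear (Fin 4) F) := by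
  classical
  haveI : Fact p.Prime := ⟨hp⟩
  haveI : CharP F p := charP_of_card_eq_prime hF
  have h3 : (3 : F) ≠ 0 := fun h => by
    rw [show (3 : F) = ((3 : ℕ) : F) by norm_num, CharP.cast_eq_zero_iff F p] at h
    have := (Nat.prime_dvd_prime_iff_eq hp Nat.prime_three).1 h
    omega
  have hprime : ∀ a : F, ∃ n : ℕ, a = n := fun a => by
    have hb : Function.Bijective (ZMod.castHom (dvd_refl p) F) :=
      (Fintype.bijective_iff_injective_and_card _).2
        ⟨(ZMod.castHom (dvd_refl p) F).injective, by rw [hF, ZMod.card]⟩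
    obtain ⟨z, hz⟩ := hb.2 a
    exact ⟨z.val, by rw [← hz, ← map_natCast (ZMod.castHom (dvd_refl p) F), ZMod.natCast_zmod_val]⟩
  have hG := good_of_sympType hR.symplecticType hR.absIrred h2
  have hZ : Nat.card (Subgroup.center R) = 4 := by
    obtain ⟨_, e, -, -, h | h | h⟩ := hR.field
    · exact absurd h.1 (by decide)
    · exact h.2.2.1
    · simp at h
  obtain ⟨im, Q, X1, Z1, X2, Z2, I, hP⟩ := exists_pauli hG hcard hZ
  have him := hP.im_sq
  have hcj : ∀ g : GL (Fin 4) F, Q * g * Q⁻¹ ∈ specialLinear (Fin 4) F ↔ g ∈ specialLinear (Fin 4) F := by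
    intro g
    rw [mem_sl, mem_sl, Units.val_mul, Units.val_mul, Matrix.det_units_conj]
  refine isMaximalIn_of inf_le_right ?_ fun M hle hMs g hg hgH => ?_
  · -- a transvection which does not normalise
    have h01 : (Pi.single 2 (1 : F) : Fin 4 → F) ⬝ᵥ (Pi.single 0 1 : Fin 4 → F) = 0 := by simp
    set x : GL (Fin 4) F := tvGL (Pi.single 0 1 : Fin 4 → F) (Pi.single 2 (1 : F) : Fin 4 → F) with hx
    refine ⟨Q * x * Q⁻¹, (hcj x).2 (tvGL_mem_sl _ _), fun h => ?_⟩
    have hmon : ∀ r ∈ R, Mon (Q⁻¹ * r * Q) := by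
      intro r hr
      rw [← hP.gen] at hr
      induction hr using Subgroup.closure_induction with
      | mem s hs =>
        have mk : ∀ (s : GL (Fin 4) F) (P : M4), (s : M4) = (Q : M4) * P * ((Q⁻¹ : GL (Fin 4) F) : M4) →
            (∀ b, ∃ a, ∀ y, y ≠ a → P y b = 0) → Mon (Q⁻¹ * s * Q) := fun s P hs hP' b => by
          obtain ⟨a, ha⟩ := hP' b
          refine ⟨a, fun y hy => ?_⟩
          rw [Units.val_mul, Units.val_mul, hs]
          simpa [Matrix.mul_assoc] using ha y hy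
        rcases hs with rfl | rfl | rfl | rfl | rfl
        · refine mk _ (im • (1 : M4)) ?_ fun b => ⟨b, fun y hy => by simp [hy]⟩
          rw [hP.hI, Matrix.mul_smul, Matrix.mul_one, Matrix.smul_mul, Units.mul_inv]
        · exact mk _ _ hP.hX1 fun b => ⟨![2, 3, 0, 1] b, fun y hy => by
            fin_cases b <;> fin_cases y <;> simp [pX1] at hy ⊢⟩
        · exact mk _ _ hP.hZ1 fun b => ⟨b, fun y hy => by simp [pZ1, hy]⟩
        · exact mk _ _ hP.hX2 fun b => ⟨![1, 0, 3, 2] b, fun y hy => by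
            fin_cases b <;> fin_cases y <;> simp [pX2] at hy ⊢⟩
        · exact mk _ _ hP.hZ2 fun b => ⟨b, fun y hy => by simp [pZ2, hy]⟩
      | one => rw [mul_one, inv_mul_cancel]; exact fun b => ⟨b, fun y hy => by simp [hy]⟩
      | mul a b _ _ ha hb =>
        rw [show Q⁻¹ * (a * b) * Q = Q⁻¹ * a * Q * (Q⁻¹ * b * Q) by group]
        exact Mon_mul ha hb
      | inv a _ ha =>
        rw [show Q⁻¹ * a⁻¹ * Q = (Q⁻¹ * a * Q)⁻¹ by group]
        exact Mon_inv ha
    have hz := (Subgroup.mem_set_normalizer_iff.1 h.1 Z1).1 hP.mem.2.2.1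
    have hm := hmon _ hz
    rw [show Q⁻¹ * (Q * x * Q⁻¹ * Z1 * (Q * x * Q⁻¹)⁻¹) * Q = x * (Q⁻¹ * Z1 * Q) * x⁻¹ by group] at hm
    obtain ⟨a, ha⟩ := hm 2
    have hcol : ((x * (Q⁻¹ * Z1 * Q) * x⁻¹ : GL (Fin 4) F) : M4) *ᵥ Pi.single 2 1 =
        (-Pi.single 2 1 + (-2 : F) • Pi.single 0 1 : Fin 4 → F) := by
      rw [Units.val_mul, Units.val_mul x, Units.val_mul, Units.val_mul, hP.hZ1, ← mulVec_mulVec,
        ← mulVec_mulVec, hx, ← tvGL_neg_right h01, tvGL_mulVec (by simp)]
      simp only [Matrix.mul_assoc, Units.inv_mul, Matrix.mul_one]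
      rw [← Matrix.mul_assoc ((Q⁻¹ : GL (Fin 4) F) : M4), Units.inv_mul, Matrix.one_mul,
        tvGL_mulVec (show (-Pi.single 2 (1 : F) : Fin 4 → F) ⬝ᵥ (Pi.single 0 1 : Fin 4 → F) = 0 by simp), pZ1]
      funext i
      fin_cases i <;> simp [mulVec_diagonal] <;> ring
    rw [col_eq] at hcol
    by_cases h0 : (0 : Fin 4) = a
    · have e := ha 2 (by rw [← h0]; decide)
      rw [congrFun hcol 2] at e
      simp at e
    · have e := ha 0 h0
      rw [congrFun hcol 0] at e
      simp at e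
      exact h2 (by linear_combination e)
  · -- everything above
    set K := M.comap (MulAut.conj Q).toMonoidHom with hKdef
    have hmem : ∀ y, y ∈ K ↔ Q * y * Q⁻¹ ∈ M := fun y => Iff.rfl
    have hsl := sl_le_of_escape him h2 h3 hprime (K := K) (fun y hy => (hcj y).1 (hMs ((hmem y).1 hy)))
      (fun y hy hm => (hmem y).2 (hle ⟨normalizer_of_Mon him h2 hP hy hm, (hcj y).2 (mem_sl.2 hy)⟩))
      (g0 := Q⁻¹ * g * Q) ((hmem _).2 (by rwa [show Q * (Q⁻¹ * g * Q) * Q⁻¹ = g by group]))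
      (fun hm => hgH ?_)
    · intro y hy
      have hy' : Q⁻¹ * y * Q ∈ specialLinear (Fin 4) F := by
        rw [← hcj, show Q * (Q⁻¹ * y * Q) * Q⁻¹ = y by group]; exact hy
      have := (hmem _).1 (hsl hy')
      rwa [show Q * (Q⁻¹ * y * Q) * Q⁻¹ = y by group] at this
    · have hd : Matrix.det ((Q⁻¹ * g * Q : GL (Fin 4) F) : M4) = 1 := by
        rw [← mem_sl, ← hcj, show Q * (Q⁻¹ * g * Q) * Q⁻¹ = g by group]; exact hMs hg
      have := normalizer_of_Mon him h2 hP hd hm
      rw [show Q * (Q⁻¹ * g * Q) * Q⁻¹ = g by group] at this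
      exact ⟨this, hMs hg⟩

end CfsgLib.ClassicalMax.OmSix
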