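/-
An absolutely irreducible group of symplectic type of exponent four in dimension four with centre of
order four has order sixty-four.
-/
import Cfsg.Agent.Lib.LinFix.TwoSymp
set_option autoImplicit false
set_option linter.unusedSectionVars false

namespace CfsgLib.ClassicalMax.OmSix

open Matrix Cfsg.Geo CfsgLib.TwoSymp

variable {F : Type*} [Field F]

local notation "M4" => Matrix (Fin 4) (Fin 4) F

lemma card_eq_sixty_four [Finite F] (h2 : (2 : F) ≠ 0) (h3 : (3 : F) ≠ 0)
    {R : Subgroup (GL (Fin 4) F)} (h : Good R) (hZ : Nat.card (Subgroup.center R) = 4) {m : ℕ}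
    (hm : Nat.card R = 2 ^ (2 + 2 * m)) : Nat.card R = 2 ^ 6 := by
  classical
  haveI := h.finite
  haveI : Fintype R := Fintype.ofFinite _
  haveI : Fintype (R ⧸ Subgroup.center R) := Fintype.ofFinite _
  have hcen : ∀ x : R, x ∈ Subgroup.center R ↔ ∃ c : F, ((x : GL (Fin 4) F) : M4) = c • 1 := by
    intro x
    refine ⟨fun hx => h.scalar_of_commute _ fun z hz =>
      (congrArg (fun u : R => ((u : GL (Fin 4) F) : M4)) (Subgroup.mem_center_iff.1 hx ⟨z, hz⟩)).symm,
      fun ⟨c, hc⟩ => Subgroup.mem_center_iff.2 fun z => Subtype.ext (Units.ext ?_)⟩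
    rw [Subgroup.coe_mul, Subgroup.coe_mul, Units.val_mul, Units.val_mul, hc, Matrix.mul_smul,
      Matrix.smul_mul, one_mul, mul_one]
  have h4 : (4 : F) ≠ 0 := by rw [show (4 : F) = 2 * 2 by norm_num]; exact mul_ne_zero h2 h2
  have hq := Subgroup.card_eq_card_quotient_mul_card_subgroup (Subgroup.center R)
  rw [hZ, hm, Nat.card_eq_fintype_card] at hq
  -- at most sixteen cosets
  have hli : LinearIndependent F fun q : R ⧸ Subgroup.center R => ((q.out : GL (Fin 4) F) : M4) := by
    rw [linearIndependent_iff']
    intro s c hc q hqs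
    have := congrArg (fun A : M4 => (A * ((((q.out : R)⁻¹ : R) : GL (Fin 4) F) : M4)).trace) hc
    simp only [Finset.sum_mul, Matrix.smul_mul, Matrix.trace_sum, Matrix.trace_smul, Matrix.zero_mul,
      Matrix.trace_zero, ← Units.val_mul, ← Subgroup.coe_mul, smul_eq_mul] at this
    rw [Finset.sum_eq_single q] at this
    · refine (mul_eq_zero.1 this).resolve_right ?_
      rw [mul_inv_cancel, OneMemClass.coe_one, Units.val_one, Matrix.trace_one, Fintype.card_fin]
      simpa using h4
    · intro q' _ hne
      rw [h.trace_eq_zero (q'.out * q.out⁻¹ : R).2 fun t ht => hne ?_, mul_zero]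
      rw [← QuotientGroup.out_eq' q', ← QuotientGroup.out_eq' q, eq_comm, QuotientGroup.eq]
      have := (hcen _).2 ⟨t, ht⟩
      have e : q.out⁻¹ * q'.out = q.out⁻¹ * (q'.out * q.out⁻¹) * q.out := by group
      rw [e, Subgroup.mem_center_iff.1 this q.out⁻¹, mul_assoc, inv_mul_cancel, mul_one]
      exact this
    · exact fun hn => absurd hqs hn
  have hle := hli.fintype_card_le_finrank
  rw [Module.finrank_matrix, Fintype.card_fin, Module.finrank_self] at hle
  have hpow : 2 ^ (2 + 2 * m) ≤ 2 ^ 6 := by rw [hq]; norm_num; omega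
  have hm2 : m ≤ 2 := by
    have := (Nat.pow_le_pow_iff_right (le_refl 2)).1 hpow
    omega
  -- the averages over the group are scalar
  have avg : ∀ i j, ∃ c : F, ∑ g : R, ((g : GL (Fin 4) F) : M4) * Matrix.single i j (1 : F) *
      (((g⁻¹ : R) : GL (Fin 4) F) : M4) = c • 1 := by
    intro i j
    refine h.scalar_of_commute _ fun x hx => ?_
    rw [Finset.sum_mul, Finset.mul_sum]
    refine Fintype.sum_equiv (Equiv.mulLeft ⟨x, hx⟩⁻¹) _ _ fun g => ?_
    simp only [Equiv.coe_mulLeft, Subgroup.coe_mul, Subgroup.coe_inv, Units.val_mul, _root_.mul_inv_rev,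
      inv_inv, ← Matrix.mul_assoc]
    simp
  interval_cases m
  · exfalso
    have htop : ∀ g : R, g ∈ Subgroup.center R := fun g => by
      have : Subgroup.center R = ⊤ := Subgroup.eq_top_of_card_eq _ (by rw [hZ, hm]; norm_num)
      rw [this]; trivial
    obtain ⟨c, hc⟩ := h.scalar_of_commute (Matrix.single 0 1 (1 : F)) fun x hx => by
      obtain ⟨t, ht⟩ := (hcen ⟨x, hx⟩).1 (htop _)
      rw [show (x : M4) = t • 1 from ht, Matrix.mul_smul, Matrix.smul_mul, mul_one, one_mul]
    have := congrFun (congrFun hc 0) 1
    simp at this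
  · exfalso
    -- trace identity
    choose c hc using avg
    have hc' : ∀ i j, c i j * 4 = (16 : F) * (if i = j then 1 else 0) := by
      intro i j
      have e := congrArg Matrix.trace (hc i j)
      rw [Matrix.trace_sum, Matrix.trace_smul, Matrix.trace_one, Fintype.card_fin,
        Finset.sum_congr rfl (fun g _ => by
          rw [Matrix.trace_mul_comm, ← Matrix.mul_assoc, ← Units.val_mul, ← Subgroup.coe_mul,
            inv_mul_cancel, OneMemClass.coe_one, Units.val_one, one_mul]),
        Finset.sum_const, Finset.card_univ, ← Nat.card_eq_fintype_card, hm] at e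
      simp only [smul_eq_mul, nsmul_eq_mul] at e
      rw [show (Matrix.single i j (1 : F)).trace = if i = j then 1 else 0 from ?_] at e
      · norm_num at e ⊢
        exact e.symm
      · by_cases hij : i = j
        · subst hij; simp
        · simp [hij, Matrix.trace_single_eq_of_ne _ _ _ hij]
    -- summed diagonal entries
    have key : ∑ g : R, ((g : GL (Fin 4) F) : M4).trace * (((g⁻¹ : R) : GL (Fin 4) F) : M4).trace =
        ∑ i, ∑ j, if i = j then c i j else 0 := by
      have e : ∀ i j, ∑ g : R, ((g : GL (Fin 4) F) : M4) i i * (((g⁻¹ : R) : GL (Fin 4) F) : M4) j j =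
          if i = j then c i j else 0 := fun i j => by
        have := congrFun (congrFun (hc i j) i) j
        rw [Matrix.sum_apply, Matrix.smul_apply, Matrix.one_apply] at this
        simp only [Matrix.mul_apply, Matrix.single_apply, mul_ite, mul_one, mul_zero, ite_mul, zero_mul,
          Finset.sum_ite_eq, Finset.mem_univ, if_true, smul_eq_mul, ite_and] at this
        simp at this
        simp only [Subgroup.coe_inv, Matrix.coe_units_inv]
        exact this
      simp only [← e, Matrix.trace, Matrix.diag, Finset.sum_mul_sum]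
      rw [Finset.sum_comm]
      exact Finset.sum_congr rfl fun i _ => Finset.sum_comm
    rw [show (∑ g : R, ((g : GL (Fin 4) F) : M4).trace * (((g⁻¹ : R) : GL (Fin 4) F) : M4).trace) =
      ∑ g : R, if g ∈ Subgroup.center R then (16 : F) else 0 from Finset.sum_congr rfl fun g _ => ?_] at key
    · rw [← Finset.sum_filter, Finset.sum_const, nsmul_eq_mul,
        show (Finset.univ.filter fun g : R => g ∈ Subgroup.center R).card = 4 from
          (Fintype.card_subtype _).symm.trans (Nat.card_eq_fintype_card.symm.trans hZ)] at key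
      simp [Fin.sum_univ_four] at key
      refine mul_ne_zero (mul_ne_zero (mul_ne_zero h4 h4) h4) h3 ?_
      have a0 := hc' 0 0
      have a1 := hc' 1 1
      have a2 := hc' 2 2
      have a3 := hc' 3 3
      rw [if_pos rfl] at a0 a1 a2 a3
      linear_combination 4 * key + a0 + a1 + a2 + a3
    · split_ifs with hg
      · obtain ⟨t, ht⟩ := (hcen g).1 hg
        have e : ((g : GL (Fin 4) F) : M4) * (((g⁻¹ : R) : GL (Fin 4) F) : M4) = 1 := by
          rw [← Units.val_mul, ← Subgroup.coe_mul, mul_inv_cancel]; rfl
        have := congrArg Matrix.trace e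
        rw [ht, Matrix.smul_mul, one_mul, Matrix.trace_smul, Matrix.trace_one, Fintype.card_fin] at this
        rw [ht, Matrix.trace_smul, Matrix.trace_one, Fintype.card_fin]
        simp only [smul_eq_mul] at this ⊢
        push_cast at this ⊢
        linear_combination 4 * this
      · rw [h.trace_eq_zero g.2 (fun t ht => hg ((hcen g).2 ⟨t, ht⟩)), zero_mul]
  · simpa using hm

end CfsgLib.ClassicalMax.OmSix
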