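/-
The six skew matrices: inverses, the determinant of the induced map, monomial images.
-/
import Cfsg.Agent.Lib.ClassicalMax.OrthSix.Image
import Cfsg.Agent.Lib.Linear.Transvection
set_option autoImplicit false
set_option linter.unusedSectionVars false

namespace CfsgLib.ClassicalMax.OmSix.U4

open Matrix Module
open CfsgLib.ClassicalMax.MonG CfsgLib.ClassicalMax.OmL CfsgLib.TwoSymp

variable {F : Type*} [Field F]

local notation "M4" => Matrix (Fin 4) (Fin 4) F

/-- The six matrices. -/
def A6 (im : F) (i : Fin 6) : M4 := sk im (E i)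

/-- The six inverses. -/
def A6' (im : F) : Fin 6 → Matrix (Fin 4) (Fin 4) F :=
  ![-A6 im 0, A6 im 1, -A6 im 2, A6 im 3, -A6 im 4, A6 im 5]

variable {im : F} (him : im ^ 2 = -1) (h2 : (2 : F) ≠ 0)

include him h2

set_option maxHeartbeats 2000000 in
lemma A6_mul (i : Fin 6) : A6 im i * A6' im i = 1 := by
  fin_cases i <;>
    (ext j k; fin_cases j <;> fin_cases k <;>
      simp [A6, A6', sk, skm, E, Matrix.mul_apply, Fin.sum_univ_four, Pi.single_apply] <;> grind)

/-- The six matrices as units. -/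
def U6 (i : Fin 6) : GL (Fin 4) F :=
  ⟨A6 im i, A6' im i, A6_mul him h2 i, mul_eq_one_comm.1 (A6_mul him h2 i)⟩

lemma coe_U6 (i : Fin 6) : ((U6 him h2 i : GL (Fin 4) F) : M4) = A6 im i := rfl

lemma lam_det_one [Finite F] {g : GL (Fin 4) F} (hg : Matrix.det (g : M4) = 1) :
    Matrix.det ((lam him h2 g : GL (Fin 6) F) : Matrix (Fin 6) (Fin 6) F) = 1 := by
  have hle : commutator (GL (Fin 4) F) ≤
      ((Matrix.GeneralLinearGroup.det : GL (Fin 6) F →* Fˣ).comp (lam him h2)).ker :=
    Abelianization.commutator_subset_ker _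
  rw [CfsgLib.Linear.commutator_GL_eq_ker_det (fun h => absurd h (by simp))] at hle
  have hmem : g ∈ (Matrix.GeneralLinearGroup.det : GL (Fin 4) F →* Fˣ).ker := by
    rw [MonoidHom.mem_ker]; exact Units.ext (by simpa using hg)
  have := congrArg Units.val (MonoidHom.mem_ker.1 (hle hmem))
  simpa using this

lemma act_E_of_eq {g : GL (Fin 4) F} {i j : Fin 6} {s : F}
    (h : (g : M4) * A6 im i * (g : M4)ᵀ = s • A6 im j) : act (lam him h2 g) (E i) = s • E j := by
  rw [act_lam]
  rw [show sk im (E i) = A6 im i from rfl, h,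
    show s • A6 im j = sk im (s • E j) from ((skL im).map_smul s (E j)).symm, ext6_sk him h2]

lemma eq_of_act_E {g : GL (Fin 4) F} {i j : Fin 6} {s : F}
    (h : act (lam him h2 g) (E i) = s • E j) : (g : M4) * A6 im i * (g : M4)ᵀ = s • A6 im j := by
  rw [show A6 im i = sk im (E i) from rfl, ← sk_act_lam him h2, h]
  exact (skL im).map_smul s (E j)

lemma mult_sq {g : GL (Fin 4) F} (hg : Matrix.det (g : M4) = 1) {i : Fin 6} {s : F}
    (h : (g : M4) * A6 im i * (g : M4)ᵀ = s • A6 im i) : s * s = 1 := by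
  have e := lam_dot him h2 hg (E i) (E i)
  rw [act_E_of_eq him h2 h, smul_dotProduct, dotProduct_smul, norm_E] at e
  simpa using e

lemma Mon_of_perm {g : GL (Fin 4) F}
    (h : ∀ i, ∃ j, ∃ s : F, (g : M4) * A6 im i * (g : M4)ᵀ = s • A6 im j) : Mon (lam him h2 g) := by
  refine Mon_of_cols fun i => ?_
  obtain ⟨j, s, e⟩ := h i
  refine ⟨j, fun y hy => ?_⟩
  rw [act_E_of_eq him h2 e]
  simp [E, hy]

lemma perm_of_Mon {g : GL (Fin 4) F} (hg : Matrix.det (g : M4) = 1) (hm : Mon (lam him h2 g))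
    (i : Fin 6) : ∃ j, (g : M4) * A6 im i * (g : M4)ᵀ = A6 im j ∨
      (g : M4) * A6 im i * (g : M4)ᵀ = -A6 im j := by
  obtain ⟨j, hj⟩ := hm i
  have hcol : act (lam him h2 g) (E i) = act (lam him h2 g) (E i) j • E j := by
    funext y
    by_cases hy : y = j
    · subst hy; simp [E]
    · simp [E, hy, act, col_eq, hj y hy]
  have e := lam_dot him h2 hg (E i) (E i)
  rw [hcol, smul_dotProduct, dotProduct_smul, norm_E, norm_E] at e
  refine ⟨j, ?_⟩
  have h' := eq_of_act_E him h2 hcol
  generalize act (lam him h2 g) (E i) j = t at e h'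
  rcases mul_self_eq_one_iff.1 (show t * t = 1 by simpa using e) with hs | hs
  · left; rw [h', hs, one_smul]
  · right; rw [h', hs, neg_one_smul]

end CfsgLib.ClassicalMax.OmSix.U4
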