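/-
The real structure of four-dimensional unitary space attached to the alternating matrix of the axis `4`.
-/
import Cfsg.Agent.Lib.ClassicalMax.OrthSix.UnitStd
import Cfsg.Agent.Lib.ClassicalMax.SympFourFrameStd
set_option autoImplicit false
set_option linter.unusedSectionVars false

namespace CfsgLib.ClassicalMax.OmSix.U4

open Matrix Module
open CfsgLib.ClassicalMax.MonG CfsgLib.ClassicalMax.OmL CfsgLib.TwoSymp
open CfsgLib.ClassicalMax.SympFourFrameStd (Jm fm PermU)

variable {F k : Type*} [Field F] [Field k]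

local notation "M4" => Matrix (Fin 4) (Fin 4) F

/-- A prime subfield, the conjugation, a square root of minus one and minus one as a sum of squares. -/
structure RS (ι : k →+* F) (φ : F →+* F) (im : F) (a b : k) : Prop where
  him : im ^ 2 = -1
  two : (2 : F) ≠ 0
  conj_im : φ im = -im
  conj_real : ∀ x, φ (ι x) = ι x
  fixed : ∀ x, φ x = x → ∃ y, ι y = x
  sumsq : a * a + b * b = -1

/-- Unitary for the standard form. -/
def UN (φ : F →+* F) (g : GL (Fin 4) F) : Prop :=
  (g : M4)ᵀ * (g : M4).map φ = 1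

variable {ι : k →+* F} {φ : F →+* F} {im : F} {a b : k}

/-- An element of norm minus one. -/
def cc (ι : k →+* F) (im : F) (a b : k) : F := ι a + ι b * im

/-- Its conjugate. -/
def cb (ι : k →+* F) (im : F) (a b : k) : F := ι a - ι b * im

/-- The change of basis. -/
def Pm (im c : F) : Matrix (Fin 4) (Fin 4) F :=
  !![c, -(c * im), 0, 0; 1, im, 0, 0; 0, 0, c, -(c * im); 0, 0, 1, im]

/-- Its inverse. -/
def Qm (im d : F) : Matrix (Fin 4) (Fin 4) F :=
  (2⁻¹ : F) • !![-d, 1, 0, 0; -(im * d), -im, 0, 0; 0, 0, -d, 1; 0, 0, -(im * d), -im]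

/-- The five real involutions. -/
def Sr (a b : k) : Fin 5 → Matrix (Fin 4) (Fin 4) k :=
  ![!![0, 0, 1, 0; 0, 0, 0, 1; 1, 0, 0, 0; 0, 1, 0, 0],
    !![1, 0, 0, 0; 0, 1, 0, 0; 0, 0, -1, 0; 0, 0, 0, -1],
    !![0, 0, -b, a; 0, 0, a, b; b, -a, 0, 0; -a, -b, 0, 0],
    !![0, 0, 0, 1; 0, 0, -1, 0; 0, -1, 0, 0; 1, 0, 0, 0],
    !![0, 0, -a, -b; 0, 0, -b, a; a, b, 0, 0; b, -a, 0, 0]]

/-- The axes of the five involutions. -/
def idx : Fin 5 → Fin 6 := ![1, 5, 2, 0, 3]

/-- The factors. -/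
def kap (im : F) : Fin 5 → F := ![-im, -im, -im, im, im]

lemma A6_four (im : F) : A6 im 4 = Jm F := by
  ext i j
  fin_cases i <;> fin_cases j <;> simp [A6, sk, skm, E, Jm, Pi.single_apply]

section
variable (S : RS ι φ im a b)
include S

lemma cc_conj : φ (cc ι im a b) = cb ι im a b := by
  rw [cc, cb, map_add, map_mul, S.conj_real, S.conj_real, S.conj_im]; ring

lemma cc_cb : cc ι im a b * cb ι im a b = -1 := by
  have h := congrArg ι S.sumsq
  simp at h
  rw [cc, cb]
  linear_combination h - (ι b * ι b) * S.him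

lemma im_ne : im ≠ 0 := fun h => by
  have := S.him
  rw [h] at this
  simp at this

lemma k_two : (2 : k) ≠ 0 := fun h => S.two (by rw [← map_ofNat ι 2, h, map_zero])

lemma P_mul_Q : Pm im (cc ι im a b) * Qm im (cb ι im a b) = 1 := by
  have h := cc_cb S
  have := S.two
  have hi := S.him
  ext i j
  fin_cases i <;> fin_cases j <;> simp [Pm, Qm, Matrix.mul_apply, Fin.sum_univ_four] <;> grind

/-- The change of basis as a unit. -/
def PU : GL (Fin 4) F :=
  ⟨Pm im (cc ι im a b), Qm im (cb ι im a b), P_mul_Q S, mul_eq_one_comm.1 (P_mul_Q S)⟩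

lemma hP1 : Jm F * (Pm im (cc ι im a b)).map φ = (-cb ι im a b) • Pm im (cc ι im a b) := by
  have h := cc_cb S
  have hi := S.him
  ext i j
  fin_cases i <;> fin_cases j <;>
    simp [Pm, Jm, Matrix.mul_apply, Fin.sum_univ_four, cc_conj S, S.conj_im] <;> grind

lemma hP2 : (Pm im (cc ι im a b))ᵀ * (Pm im (cc ι im a b)).map φ = (-(2 * im)) • Jm F := by
  have h := cc_cb S
  have hi := S.him
  ext i j
  fin_cases i <;> fin_cases j <;>
    simp [Pm, Jm, Matrix.mul_apply, Fin.sum_univ_four, cc_conj S, S.conj_im] <;> grind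

set_option maxHeartbeats 2000000 in
lemma key_rel (l : Fin 5) :
    Pm im (cc ι im a b) * (Sr a b l).map ι =
      kap im l • (A6 im (idx l) * A6' im 4 * Pm im (cc ι im a b)) := by
  have h := cc_cb S
  have hi := S.him
  have hs : ι a * ι a + ι b * ι b = -1 := by rw [← map_mul, ← map_mul, ← map_add, S.sumsq, map_neg, map_one]
  simp only [cc, cb] at h ⊢
  fin_cases l <;>
    (ext i j; fin_cases i <;> fin_cases j <;>
      simp [Pm, Sr, idx, kap, A6, A6', sk, skm, E, Matrix.mul_apply, Fin.sum_univ_four, Pi.single_apply] <;>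
      grind)

lemma Sr_sq (l : Fin 5) : Sr a b l * Sr a b l = 1 := by
  have h := S.sumsq
  fin_cases l <;> (ext i j; fin_cases i <;> fin_cases j <;>
    simp [Sr, Matrix.mul_apply, Fin.sum_univ_four] <;> grind)

omit S in
set_option maxHeartbeats 2000000 in
-- twenty cases of sixteen entries
lemma Sr_anti (i j : Fin 5) (hij : i ≠ j) : Sr a b i * Sr a b j = -(Sr a b j * Sr a b i) := by
  fin_cases i <;> fin_cases j <;> first
    | exact absurd rfl hij
    | (ext x y; fin_cases x <;> fin_cases y <;>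
        simp [Sr, Matrix.mul_apply, Fin.sum_univ_four] <;> ring)

omit S in
lemma Sr_adj (i : Fin 5) (x y : Fin 4 → k) : fm k (Sr a b i *ᵥ x) y = fm k x (Sr a b i *ᵥ y) := by
  fin_cases i <;> simp [Sr, fm, Jm, dotProduct, mulVec, Fin.sum_univ_four] <;> ring

/-- The real involutions as units. -/
def SrU (l : Fin 5) : GL (Fin 4) k := ⟨Sr a b l, Sr a b l, Sr_sq S l, Sr_sq S l⟩

/-- The embedding of the real group. -/
noncomputable def emb : GL (Fin 4) k →* GL (Fin 4) F :=
  (MulAut.conj (PU S)).toMonoidHom.comp (Matrix.GeneralLinearGroup.map ι)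

lemma coe_emb (A : GL (Fin 4) k) : ((emb S A : GL (Fin 4) F) : M4) =
    Pm im (cc ι im a b) * (A : Matrix (Fin 4) (Fin 4) k).map ι * Qm im (cb ι im a b) := rfl

lemma map_conj_real (A : Matrix (Fin 4) (Fin 4) k) : (A.map ι).map φ = A.map ι := by
  ext i j; simp [S.conj_real]

end

lemma mem_iso_iff (A : GL (Fin 4) k) : A ∈ isoOf (fm k) ↔
    (A : Matrix (Fin 4) (Fin 4) k)ᵀ * Jm k * (A : Matrix (Fin 4) (Fin 4) k) = Jm k := by
  have e : ∀ u v, fm k ((A : Matrix (Fin 4) (Fin 4) k) *ᵥ u) ((A : Matrix (Fin 4) (Fin 4) k) *ᵥ v) =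
      u ⬝ᵥ (((A : Matrix (Fin 4) (Fin 4) k)ᵀ * Jm k * (A : Matrix (Fin 4) (Fin 4) k)) *ᵥ v) := fun u v => by
    rw [fm, ← mulVec_mulVec, ← mulVec_mulVec, dotProduct_mulVec u, vecMul_transpose]
  rw [mem_isoOf]
  constructor
  · intro h
    ext i j
    have := h (Pi.single i 1) (Pi.single j 1)
    rw [e] at this
    simpa [fm] using this
  · intro h u v
    rw [e, h]; rfl

lemma UN_right {g : GL (Fin 4) F} (hg : UN φ g) : (g : M4).map φ * (g : M4)ᵀ = 1 :=
  mul_eq_one_comm.1 hg

/-- From the commutation with the semilinear map to the fixed alternating matrix. -/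
lemma fix_of_semilinear {g : GL (Fin 4) F} (hg : UN φ g) {μ : F}
    (h : Jm F * (g : M4).map φ = μ • ((g : M4) * Jm F)) : μ • ((g : M4) * Jm F * (g : M4)ᵀ) = Jm F := by
  rw [← Matrix.smul_mul, ← h, Matrix.mul_assoc, UN_right hg, Matrix.mul_one]

section
variable (S : RS ι φ im a b)
include S

lemma det_of_fix {g : GL (Fin 4) F} (h : (g : M4) * A6 im 4 * (g : M4)ᵀ = A6 im 4) :
    Matrix.det (g : M4) = 1 := by
  have e := congrArg pf h
  have h1 : pf (A6 im 4) = 1 := by rw [A6, pf_sk S.him S.two, norm_E]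
  have h2 : pf ((g : M4) * A6 im 4 * (g : M4)ᵀ) = Matrix.det (g : M4) * pf (A6 im 4) := by
    rw [A6, sk, pf_conj]
  rw [h2, h1, mul_one] at e
  exact e

lemma emb_semilinear (A : GL (Fin 4) k) :
    Jm F * ((emb S A : GL (Fin 4) F) : M4).map φ = ((emb S A : GL (Fin 4) F) : M4) * Jm F := by
  have hu : (Pm im (cc ι im a b)).map φ * (Qm im (cb ι im a b)).map φ = 1 := by
    rw [← Matrix.map_mul, P_mul_Q S]; simp
  have hQP := mul_eq_one_comm.1 (P_mul_Q S)
  rw [coe_emb, Matrix.map_mul, Matrix.map_mul, map_conj_real S, ← Matrix.mul_assoc, ← Matrix.mul_assoc,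
    hP1 S]
  calc (-cb ι im a b) • Pm im (cc ι im a b) * (A : Matrix (Fin 4) (Fin 4) k).map ι *
        (Qm im (cb ι im a b)).map φ
      = Pm im (cc ι im a b) * (A : Matrix (Fin 4) (Fin 4) k).map ι * (Qm im (cb ι im a b) *
          ((-cb ι im a b) • Pm im (cc ι im a b))) * (Qm im (cb ι im a b)).map φ := by
        rw [Matrix.mul_smul (Qm im (cb ι im a b)), hQP, Matrix.mul_smul, Matrix.mul_one, Matrix.smul_mul]
    _ = _ := by
        rw [← hP1 S]
        simp only [Matrix.mul_assoc]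
        rw [hu, Matrix.mul_one]

lemma emb_UN {A : GL (Fin 4) k} (hA : A ∈ isoOf (fm k)) : UN φ (emb S A) := by
  have hu : (Pm im (cc ι im a b)).map φ * (Qm im (cb ι im a b)).map φ = 1 := by
    rw [← Matrix.map_mul, P_mul_Q S]; simp
  have hJ : ((A : Matrix (Fin 4) (Fin 4) k).map ι)ᵀ * Jm F * (A : Matrix (Fin 4) (Fin 4) k).map ι = Jm F := by
    have e : (Jm k).map ι = Jm F := by ext i j; fin_cases i <;> fin_cases j <;> simp [Jm]
    rw [← Matrix.transpose_map, ← e, ← Matrix.map_mul, ← Matrix.map_mul, (mem_iso_iff A).1 hA]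
  rw [UN, coe_emb, Matrix.map_mul, Matrix.map_mul, map_conj_real S, transpose_mul, transpose_mul]
  calc _ = (Qm im (cb ι im a b))ᵀ * (((A : Matrix (Fin 4) (Fin 4) k).map ι)ᵀ *
          ((Pm im (cc ι im a b))ᵀ * (Pm im (cc ι im a b)).map φ) *
          (A : Matrix (Fin 4) (Fin 4) k).map ι) * (Qm im (cb ι im a b)).map φ := by
        simp only [Matrix.mul_assoc]
    _ = (Qm im (cb ι im a b))ᵀ * ((Pm im (cc ι im a b))ᵀ * (Pm im (cc ι im a b)).map φ) *
          (Qm im (cb ι im a b)).map φ := by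
        rw [hP2 S, Matrix.mul_smul, Matrix.smul_mul, hJ]
    _ = ((Qm im (cb ι im a b))ᵀ * (Pm im (cc ι im a b))ᵀ) *
          ((Pm im (cc ι im a b)).map φ * (Qm im (cb ι im a b)).map φ) := by simp only [Matrix.mul_assoc]
    _ = 1 := by rw [hu, ← transpose_mul, P_mul_Q S, transpose_one, Matrix.mul_one]

lemma emb_fix {A : GL (Fin 4) k} (hA : A ∈ isoOf (fm k)) :
    ((emb S A : GL (Fin 4) F) : M4) * Jm F * ((emb S A : GL (Fin 4) F) : M4)ᵀ = Jm F := by
  have h := fix_of_semilinear (μ := 1) (emb_UN S hA) (by rw [one_smul]; exact emb_semilinear S A)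
  rwa [one_smul] at h

/-- Unitary elements fixing the alternating matrix are real symplectic. -/
lemma exists_real {g : GL (Fin 4) F} (hg : UN φ g) (hgJ : (g : M4) * Jm F * (g : M4)ᵀ = Jm F) :
    ∃ A ∈ isoOf (fm k), emb S A = g := by
  set P := Pm im (cc ι im a b) with hP
  set Q := Qm im (cb ι im a b) with hQ
  have hPQ : P * Q = 1 := P_mul_Q S
  have hQP : Q * P = 1 := mul_eq_one_comm.1 hPQ
  have hJJ : Jm F * Jm F = -1 := by
    ext i j; fin_cases i <;> fin_cases j <;> simp [Jm, Matrix.mul_apply, Fin.sum_univ_four]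
  have hgφ : Jm F * (g : M4).map φ = (g : M4) * Jm F := by
    have h := congrArg (· * (g : M4).map φ) hgJ
    simp only [Matrix.mul_assoc] at h
    rw [show (g : M4)ᵀ * (g : M4).map φ = 1 from hg, Matrix.mul_one] at h
    exact h.symm
  set M := Q * (g : M4) * P with hM
  have hPM : P * M = (g : M4) * P := by rw [hM, ← Matrix.mul_assoc, ← Matrix.mul_assoc, hPQ, Matrix.one_mul]
  have hMφ : M.map φ = M := by
    have e1 : Jm F * (P.map φ * M.map φ) = Jm F * (P.map φ * M) := by
      rw [← Matrix.map_mul, hPM, Matrix.map_mul, ← Matrix.mul_assoc, hgφ, Matrix.mul_assoc, hP1 S,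
        ← Matrix.mul_assoc (Jm F), hP1 S, Matrix.mul_smul, Matrix.smul_mul, hPM]
    have e2 := congrArg (fun X : M4 => Q.map φ * (-(Jm F * X))) e1
    simp only [← Matrix.mul_assoc, hJJ, neg_mul, one_mul, neg_neg] at e2
    rw [← Matrix.map_mul, ← Matrix.map_mul, hQP] at e2
    simpa using e2
  choose A hA using fun i j => S.fixed (M i j) (congrFun (congrFun hMφ i) j)
  have hAM : (Matrix.of A).map ι = M := by ext i j; simp [hA]
  have hAd : (Matrix.of A).det ≠ 0 := by
    intro h0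
    have e : M.det = 0 := by rw [← hAM, ← RingHom.mapMatrix_apply, ← RingHom.map_det, h0, map_zero]
    have hgP : ((g : M4) * P).det ≠ 0 := by
      rw [Matrix.det_mul]
      exact mul_ne_zero g.det_ne_zero (Matrix.GeneralLinearGroup.det_ne_zero (PU S))
    exact hgP (by rw [← hPM, Matrix.det_mul, e, mul_zero])
  refine ⟨Matrix.GeneralLinearGroup.mkOfDetNeZero (Matrix.of A) hAd, (mem_iso_iff _).2 ?_,
    Units.ext ?_⟩
  · refine Matrix.map_injective ι.injective ?_
    have e : (Jm k).map ι = Jm F := by ext i j; fin_cases i <;> fin_cases j <;> simp [Jm]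
    change ((Matrix.of A)ᵀ * Jm k * Matrix.of A).map ι = (Jm k).map ι
    rw [Matrix.map_mul, Matrix.map_mul, e, Matrix.transpose_map, hAM]
    have h := congrArg (fun X : M4 => Pᵀ * X * P.map φ) (show (g : M4)ᵀ * (g : M4).map φ = 1 from hg)
    simp only [Matrix.mul_one, hP, hP2 S] at h
    rw [← hP, ← Matrix.mul_assoc, ← transpose_mul, Matrix.mul_assoc _ _ (P.map φ), ← Matrix.map_mul,
      ← hPM, Matrix.map_mul, hMφ, transpose_mul, Matrix.mul_assoc, ← Matrix.mul_assoc Pᵀ, hP, hP2 S,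
      Matrix.smul_mul, Matrix.mul_smul, ← Matrix.mul_assoc] at h
    exact smul_right_injective _ (neg_ne_zero.2 (mul_ne_zero S.two (im_ne S))) h
  · change Pm im (cc ι im a b) * (Matrix.of A).map ι * Qm im (cb ι im a b) = _
    rw [hAM, ← hP, hPM, Matrix.mul_assoc, ← hQ, hPQ, Matrix.mul_one]

/-- A real element permuting the five involutions is monomial on the six coordinates. -/
lemma Mon_of_permU {A : GL (Fin 4) k} (hA : A ∈ isoOf (fm k)) (hp : PermU (SrU S) A) :
    Mon (lam S.him S.two (emb S A)) := by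
  refine Mon_of_perm S.him S.two fun i => ?_
  set g := emb S A with hg
  have hfix : (g : M4) * A6 im 4 * (g : M4)ᵀ = A6 im 4 := by rw [A6_four]; exact emb_fix S hA
  by_cases h4 : i = 4
  · subst h4; exact ⟨4, 1, by rw [hfix, one_smul]⟩
  obtain ⟨l, rfl⟩ : ∃ l, idx l = i := by
    revert h4; revert i; decide
  obtain ⟨m, hm⟩ := hp l
  have hk : ∀ l, kap im l ≠ 0 := fun l => by
    have := im_ne S
    fin_cases l <;> simp [kap, this]
  have hval : ∀ l, ((emb S (SrU S l) : GL (Fin 4) F) : M4) = kap im l • (A6 im (idx l) * A6' im 4) := fun l => by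
    rw [coe_emb]
    change Pm im (cc ι im a b) * (Sr a b l).map ι * Qm im (cb ι im a b) = _
    rw [key_rel S, Matrix.smul_mul, Matrix.mul_assoc, P_mul_Q S, Matrix.mul_one]
  have hconj : ∃ s : F, (g : M4) * (kap im l • (A6 im (idx l) * A6' im 4)) * ((g⁻¹ : GL (Fin 4) F) : M4) =
      s • (A6 im (idx m) * A6' im 4) := by
    have e : (g : M4) * ((emb S (SrU S l) : GL (Fin 4) F) : M4) * ((g⁻¹ : GL (Fin 4) F) : M4) =
        ((emb S (A * SrU S l * A⁻¹) : GL (Fin 4) F) : M4) := by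
      simp [hg, map_mul, map_inv]
    rw [← hval, e]
    rcases hm with hm | hm
    · exact ⟨kap im m, by
        rw [show A * SrU S l * A⁻¹ = SrU S m from Units.ext (by simpa using hm)]; exact hval m⟩
    · refine ⟨-kap im m, ?_⟩
      rw [coe_emb, show ((A * SrU S l * A⁻¹ : GL (Fin 4) k) : Matrix (Fin 4) (Fin 4) k) =
        -(SrU S m : Matrix (Fin 4) (Fin 4) k) from by simpa using hm,
        show (-(SrU S m : Matrix (Fin 4) (Fin 4) k)).map ι = -((SrU S m : Matrix (Fin 4) (Fin 4) k).map ι) from by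
          ext x y; simp, Matrix.mul_neg, Matrix.neg_mul, ← coe_emb S, hval, neg_smul]
  obtain ⟨s, hs⟩ := hconj
  refine ⟨idx m, (kap im l)⁻¹ * s, ?_⟩
  have h44 : A6' im 4 * A6 im 4 = (1 : M4) := mul_eq_one_comm.1 (A6_mul S.him S.two 4)
  have e : (g : M4) * (A6 im (idx l) * A6' im 4) * ((g⁻¹ : GL (Fin 4) F) : M4) =
      ((kap im l)⁻¹ * s) • (A6 im (idx m) * A6' im 4) := by
    rw [Matrix.mul_smul, Matrix.smul_mul] at hs
    rw [mul_smul, ← hs, smul_smul, inv_mul_cancel₀ (hk l), one_smul]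
  calc (g : M4) * A6 im (idx l) * (g : M4)ᵀ
      = (g : M4) * (A6 im (idx l) * A6' im 4) * ((g⁻¹ : GL (Fin 4) F) : M4) *
          ((g : M4) * A6 im 4 * (g : M4)ᵀ) := by
        simp only [Matrix.mul_assoc]
        rw [← Matrix.mul_assoc ((g⁻¹ : GL (Fin 4) F) : M4), Units.inv_mul, Matrix.one_mul,
          ← Matrix.mul_assoc (A6' im 4), h44, Matrix.one_mul]
    _ = _ := by rw [e, hfix, Matrix.smul_mul, Matrix.mul_assoc, h44, Matrix.mul_one]

end

end CfsgLib.ClassicalMax.OmSix.U4
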