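/-
The normaliser of a symplectic type group of order sixty-four is maximal in the four-dimensional
special unitary group over a prime congruent to three modulo four.
-/
import Cfsg.Agent.Lib.ClassicalMax.OrthSix.UnitReal
import Cfsg.Agent.Lib.ClassicalMax.OrthSix.C6Max
import Cfsg.Agent.Lib.ClassicalMax.UnitSubFour.Clauses
import Cfsg.Agent.Lib.LinFix.HermModel
set_option autoImplicit false
set_option linter.unusedSectionVars false

namespace CfsgLib.ClassicalMax.OmSix.U4

open Matrix Module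
open CfsgLib.ClassicalMax.MonG CfsgLib.ClassicalMax.OmL CfsgLib.TwoSymp
open CfsgLib.ClassicalMax.SympFourFrameStd (fm PermU)

variable {F k : Type*} [Field F] [Field k]

local notation "M4" => Matrix (Fin 4) (Fin 4) F
local notation "JJ" => CfsgLib.ClassicalMax.SympFourFrameStd.Jm

variable {ι : k →+* F} {φ : F →+* F} {im : F} {a b : k}

lemma mem_GU {q : ℕ} (hφ : ∀ x, φ x = x ^ q) {g : GL (Fin 4) F} : g ∈ Cfsg.GU 4 F q ↔ UN φ g :=
  CfsgLib.LinFix.HermModel.mem_GU_iff hφ

lemma mem_SL {g : GL (Fin 4) F} : g ∈ Cfsg.Geo.specialLinear (Fin 4) F ↔ Matrix.det (g : M4) = 1 :=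
  CfsgLib.LinFix.HermModel.mem_sl_iff

/-- Elements commuting with the semilinear map up to a factor. -/
def semiC (φ : F →+* F) : Subgroup (GL (Fin 4) F) where
  carrier := {g | ∃ μ : Fˣ, JJ F * (g : M4).map φ = (μ : F) • ((g : M4) * JJ F)}
  one_mem' := ⟨1, by simp⟩
  mul_mem' := by
    rintro g h ⟨μ, hg⟩ ⟨ν, hh⟩
    refine ⟨μ * ν, ?_⟩
    rw [Units.val_mul, Units.val_mul, Matrix.map_mul, ← Matrix.mul_assoc, hg, Matrix.smul_mul,
      Matrix.mul_assoc, hh, Matrix.mul_smul, smul_smul, Matrix.mul_assoc]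
  inv_mem' := by
    rintro g ⟨μ, hg⟩
    refine ⟨μ⁻¹, ?_⟩
    have e := congrArg (fun X : M4 => ((g⁻¹ : GL (Fin 4) F) : M4) * X * ((g⁻¹ : GL (Fin 4) F) : M4).map φ) hg
    simp only [Matrix.mul_smul, Matrix.smul_mul] at e
    rw [← Matrix.mul_assoc ((g⁻¹ : GL (Fin 4) F) : M4) (g : M4), Units.inv_mul, Matrix.one_mul,
      Matrix.mul_assoc, Matrix.mul_assoc, ← Matrix.map_mul, Units.mul_inv,
      Matrix.map_one _ (map_zero φ) (map_one φ), Matrix.mul_one] at e
    rw [e, smul_smul, ← Units.val_mul, inv_mul_cancel, Units.val_one, one_smul]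

section
variable (S : RS ι φ im a b)
include S

lemma kap_conj : φ (2⁻¹ : F) = 2⁻¹ := by rw [map_inv₀, map_ofNat]

lemma subfield_le_semiC :
    Cfsg.Geo.subfieldSubgroup ι.fieldRange (PU S) ≤ semiC φ := by
  rw [Cfsg.Geo.subfieldSubgroup, Subgroup.map_le_iff_le_comap, sup_le_iff]
  constructor
  · rintro _ ⟨A, rfl⟩
    choose B hB using fun i j => RingHom.mem_fieldRange.1 ((A : Matrix (Fin 4) (Fin 4) ι.fieldRange) i j).2
    refine ⟨1, ?_⟩
    have hAB : ((Matrix.GeneralLinearGroup.map ι.fieldRange.subtype A : GL (Fin 4) F) : M4) =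
        (Matrix.of B).map ι := by
      ext i j; simp [hB]
    have hd : (Matrix.of B).det ≠ 0 := fun h0 => by
      have e : Matrix.det ((Matrix.of B).map ι) = 0 := by
        rw [← RingHom.mapMatrix_apply, ← RingHom.map_det, h0, map_zero]
      rw [← hAB] at e
      exact Matrix.GeneralLinearGroup.det_ne_zero _ e
    have e : (MulAut.conj (PU S)).toMonoidHom (Matrix.GeneralLinearGroup.map ι.fieldRange.subtype A) =
        emb S (Matrix.GeneralLinearGroup.mkOfDetNeZero (Matrix.of B) hd) := by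
      refine congrArg _ (Units.ext ?_)
      exact hAB
    rw [e, Units.val_one, one_smul]
    exact emb_semilinear S _
  · intro g hg
    obtain ⟨c, hc⟩ := (Cfsg.Geo.mem_scalars_iff g).1 hg
    have hg' : (MulAut.conj (PU S)).toMonoidHom g = g := by
      change PU S * g * (PU S)⁻¹ = g
      rw [show PU S * g = g * PU S from Units.ext (by
        rw [Units.val_mul, Units.val_mul, hc, Matrix.mul_smul, Matrix.smul_mul, Matrix.one_mul,
          Matrix.mul_one]), mul_inv_cancel_right]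
    refine ⟨Units.map φ.toMonoidHom c * c⁻¹, ?_⟩
    rw [hg', hc]
    ext i j
    simp [Matrix.map_smul', mul_comm, mul_left_comm, Matrix.mul_apply, Matrix.one_apply]
    field_simp

omit S in
lemma UN_mul {g h : GL (Fin 4) F} (hg : UN φ g) (hh : UN φ h) : UN φ (g * h) := by
  rw [UN, Units.val_mul, transpose_mul, Matrix.map_mul, Matrix.mul_assoc, ← Matrix.mul_assoc (g : M4)ᵀ,
    show (g : M4)ᵀ * (g : M4).map φ = 1 from hg, Matrix.one_mul]
  exact hh

set_option maxHeartbeats 2000000 in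
lemma UN_gens :
    UN φ (ofDet (det_gens S.him S.two).1) ∧ UN φ (ofDet (det_gens S.him S.two).2.1) ∧
    UN φ (ofDet (det_gens S.him S.two).2.2.1) ∧ UN φ (ofDet (det_gens S.him S.two).2.2.2.1) ∧
    UN φ (ofDet (det_gens S.him S.two).2.2.2.2) := by
  have hi := S.him
  have h2 := S.two
  have h2' := kap_conj S
  have z1 : pZ1 F = !![1, 0, 0, 0; 0, 1, 0, 0; 0, 0, -1, 0; 0, 0, 0, -1] := by
    ext x y; fin_cases x <;> fin_cases y <;> simp [pZ1]
  refine ⟨?_, ?_, ?_, ?_, ?_⟩ <;>
    (rw [UN, ofDet_val]; ext x y; fin_cases x <;> fin_cases y <;>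
      simp [cT1, cTT, cM5, z1, Matrix.mul_apply, Fin.sum_univ_four, S.conj_im, h2', Matrix.one_apply] <;>
      grind)

/-- The sign pattern of the conjugation on the six coordinates. -/
def flipC (z : Fin 6 → F) : Fin 6 → F := ![z 0, -z 1, z 2, -z 3, z 4, -z 5]

omit S in
set_option maxHeartbeats 1000000 in
lemma sk_flip (him : im ^ 2 = -1) (z : Fin 6 → F) :
    sk im (flipC z) * sk im z = (-(z ⬝ᵥ z)) • (1 : M4) := by
  ext i j
  fin_cases i <;> fin_cases j <;>
    simp [flipC, sk, skm, dot_six, Matrix.mul_apply, Fin.sum_univ_four] <;> grind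

lemma sk_conj (z : Fin 6 → F) : (sk im z).map φ = sk im (flipC fun i => φ (z i)) := by
  ext i j
  fin_cases i <;> fin_cases j <;> simp [flipC, sk, skm, S.conj_im, sub_eq_add_neg] <;> ring

/-- The induced map has entries in the prime field. -/
lemma lam_real {g : GL (Fin 4) F} (hu : UN φ g) (hd : Matrix.det (g : M4) = 1) (i x : Fin 6) :
    φ (act (lam S.him S.two g) (E i) x) = act (lam S.him S.two g) (E i) x := by
  set z := act (lam S.him S.two g) (E i) with hz
  set B := sk im z with hB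
  have hBe : B = (g : M4) * sk im (E i) * (g : M4)ᵀ := sk_act_lam S.him S.two g (E i)
  have hE : sk im (flipC (E i : Fin 6 → F)) = (sk im (E i)).map φ := by
    rw [sk_conj S]
    congr 2
    funext l
    by_cases h : l = i
    · subst h; simp [E]
    · simp [E, h]
  have hnorm : z ⬝ᵥ z = 1 := by rw [hz, lam_dot S.him S.two hd, norm_E]
  have e1 : B.map φ * B = -1 := by
    have hu' : ((g : M4).map φ)ᵀ * (g : M4) = 1 := by
      have := congrArg Matrix.transpose (show (g : M4)ᵀ * (g : M4).map φ = 1 from hu)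
      rwa [transpose_mul, transpose_transpose, transpose_one] at this
    rw [hBe, Matrix.map_mul, Matrix.map_mul, Matrix.transpose_map, ← hE]
    calc _ = (g : M4).map φ * (sk im (flipC (E i : Fin 6 → F)) * (((g : M4).map φ)ᵀ * (g : M4)) *
          sk im (E i)) * (g : M4)ᵀ := by simp only [Matrix.mul_assoc]
      _ = _ := by
        rw [hu', Matrix.mul_one, sk_flip S.him, norm_E, neg_one_smul, Matrix.mul_neg, Matrix.mul_one,
          Matrix.neg_mul, UN_right hu]
  have e2 : sk im (flipC z) * B = -1 := by rw [hB, sk_flip S.him, hnorm, neg_one_smul]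
  have e3 : B.map φ = sk im (flipC z) := by
    have hinv : B * (-(sk im (flipC z))) = 1 :=
      mul_eq_one_comm.1 (by rw [Matrix.neg_mul, e2, neg_neg])
    have := congrArg (· * (-(sk im (flipC z)))) (e1.trans e2.symm)
    simpa only [Matrix.mul_assoc, hinv, Matrix.mul_one] using this
  rw [hB, sk_conj S] at e3
  have e4 := congrArg (ext6 im) e3
  rw [ext6_sk S.him S.two, ext6_sk S.him S.two] at e4
  have := congrFun e4 x
  fin_cases x <;> simpa [flipC] using this

/-- An element outside the monomial group generates the special unitary group. -/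
theorem su_le_of_escape [Fintype F] [Fintype k]
    (h3 : (3 : F) ≠ 0 ∨ ((3 : F) = 0 ∧ ∀ y : k, y = 0 ∨ y * y = 1)) (hprime : ∀ x : k, ∃ n : ℕ, x = n)
    {q : ℕ} (hF : Fintype.card F = q ^ 2) (hk : Fintype.card k = q) (hφ : ∀ x, φ x = x ^ q)
    {K : Subgroup (GL (Fin 4) F)} (hKU : ∀ g ∈ K, UN φ g ∧ Matrix.det (g : M4) = 1)
    (hN : ∀ g, UN φ g → Matrix.det (g : M4) = 1 → Mon (lam S.him S.two g) → g ∈ K)
    {g0 : GL (Fin 4) F} (hg0 : g0 ∈ K) (hg0m : ¬ Mon (lam S.him S.two g0)) :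
    ∀ g, UN φ g → Matrix.det (g : M4) = 1 → g ∈ K := by
  classical
  obtain ⟨u1, u2, u3, u4, u5⟩ := UN_gens S
  obtain ⟨d1, d2, d3, d4, d5⟩ := det_gens S.him S.two
  have k1 : ofDet d1 ∈ K := hN _ u1 d1 (by rw [lam_T1]; exact mon_Mon _ _)
  have k5 : ofDet d5 ∈ K := hN _ u5 d5 (by rw [lam_I, ← mon_one, neg_mon]; exact mon_Mon _ _)
  obtain ⟨g1, hg1, hg1m, t, ht, hgt⟩ := exists_fixed_of_gens S.him S.two
    (h3.imp_right fun hh => ⟨hh.1, fun g hg i x => by
      obtain ⟨y, hy⟩ := S.fixed _ (lam_real S (hKU g hg).1 (hKU g hg).2 i x)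
      rw [← hy, ← map_mul]
      exact (hh.2 y).imp (fun e => by rw [e, map_zero]) (fun e => by rw [e, map_one])⟩)
    (fun g hg => (hKU g hg).2) (fun g hg => lam_det_one S.him S.two (hKU g hg).2) k1
    (hN _ u2 d2 (by rw [lam_TT]; exact mon_Mon _ _))
    (hN _ u3 d3 (by rw [lam_M5]; exact mon_Mon _ _))
    (hN _ u4 d4 (by rw [lam_Z1]; exact mon_Mon _ _)) k5 hg0 hg0m
  -- make the factor one
  obtain ⟨g2, hg2, hg2m, hg2t⟩ : ∃ g ∈ K, ¬ Mon (lam S.him S.two g) ∧
      act (lam S.him S.two g) (E 4) = E 4 := by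
    rcases mul_self_eq_one_iff.1 ht with rfl | rfl
    · exact ⟨g1, hg1, hg1m, by rw [hgt, one_smul]⟩
    · refine ⟨ofDet d5 * g1, K.mul_mem k5 hg1, fun h => hg1m ?_, ?_⟩
      · rw [map_mul, lam_I] at h
        have h' := Mon_mul (show Mon (-1 : GL (Fin 6) F) by rw [← mon_one, neg_mon]; exact mon_Mon _ _) h
        rwa [← mul_assoc, neg_mul_neg, one_mul, one_mul] at h'
      · rw [map_mul, lam_I, act_mul, hgt]
        simp [act, Matrix.neg_mulVec]
  have hfix : (g2 : M4) * A6 im 4 * (g2 : M4)ᵀ = A6 im 4 := by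
    have := eq_of_act_E S.him S.two (i := 4) (j := 4) (s := 1) (g := g2) (by rw [hg2t, one_smul])
    rwa [one_smul] at this
  obtain ⟨A, hA, rfl⟩ := exists_real S (hKU _ hg2).1 (by rwa [← A6_four im])
  -- the real symplectic group lies in the subgroup
  have hsp : ∀ B ∈ isoOf (fm k), emb S B ∈ K := by
    have h := SympFourFrameStd.generates_of (u := SrU S) (k_two S) hprime (Sr_sq S) Sr_anti Sr_adj
      (K := (K.comap (emb S)) ⊓ isoOf (fm k)) inf_le_right
      (fun B hB hp => ⟨hN _ (emb_UN S hB)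
        (det_of_fix S (by rw [A6_four]; exact emb_fix S hB)) (Mon_of_permU S hB hp), hB⟩)
      (g0 := A) ⟨hg2, hA⟩ (fun hp => hg2m (Mon_of_permU S hA hp))
    exact fun B hB => (h hB).1
  -- the subfield subgroup
  set F₀ := ι.fieldRange with hF₀
  have hcard0 : Nat.card F₀ = q := by
    rw [← hk, ← Nat.card_eq_fintype_card]
    exact (Nat.card_congr (Equiv.ofBijective ι.rangeRestrictField
      ⟨fun x y e => ι.injective (congrArg Subtype.val e), fun ⟨y, x, hx⟩ => ⟨x, Subtype.ext hx⟩⟩)).symm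
  have hP : ∀ u v : Fin 4 → k, Cfsg.hermForm 4 F q (Pm im (cc ι im a b) *ᵥ fun i => ι (u i))
      (Pm im (cc ι im a b) *ᵥ fun i => ι (v i)) = -(2 * im) * ι (fm k u v) := by
    intro u v
    rw [CfsgLib.LinFix.HermModel.hermForm_eq_sform hφ, CfsgLib.Asch.sform_mulVec, Matrix.mul_one, hP2 S]
    simp [CfsgLib.Asch.sform, fm, SympFourFrameStd.Jm, dotProduct, mulVec, Fin.sum_univ_four, S.conj_real]
    ring
  have hmax := CfsgLib.ClassicalMax.UnitFour4.su_four_subfield_symp hF F₀ (PU S) im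
    (by rw [hF, hcard0]) (im_ne S) (by rw [← hφ, S.conj_im, add_neg_cancel])
    (fun u v hu hv => by
      choose u' hu' using fun i => RingHom.mem_fieldRange.1 (hu i)
      choose v' hv' using fun i => RingHom.mem_fieldRange.1 (hv i)
      obtain rfl : u = fun i => ι (u' i) := funext fun i => (hu' i).symm
      obtain rfl : v = fun i => ι (v' i) := funext fun i => (hv' i).symm
      change im * Cfsg.hermForm 4 F q (Pm im (cc ι im a b) *ᵥ _) (Pm im (cc ι im a b) *ᵥ _) ∈ F₀
      rw [hP]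
      exact ⟨2 * fm k u' v', by rw [map_mul, map_ofNat]; linear_combination (2 * ι (fm k u' v')) * S.him⟩)
    (fun u hu => by
      choose u' hu' using fun i => RingHom.mem_fieldRange.1 (hu i)
      obtain rfl : u = fun i => ι (u' i) := funext fun i => (hu' i).symm
      change Cfsg.hermForm 4 F q (Pm im (cc ι im a b) *ᵥ _) (Pm im (cc ι im a b) *ᵥ _) = 0
      rw [hP, show fm k u' u' = 0 by
        simp [fm, SympFourFrameStd.Jm, dotProduct, mulVec, Fin.sum_univ_four]; ring, map_zero, mul_zero])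
  set H7 := Cfsg.Geo.subfieldSubgroup F₀ (PU S) ⊓ (Cfsg.GU 4 F q ⊓ Cfsg.Geo.specialLinear (Fin 4) F)
  have hdata : ∀ g ∈ H7, UN φ g ∧ Matrix.det (g : M4) = 1 ∧
      ∃ s : F, s * s = 1 ∧ (g : M4) * A6 im 4 * (g : M4)ᵀ = s • A6 im 4 := by
    rintro g ⟨hgs, hgu, hgd⟩
    have hu := (mem_GU hφ).1 hgu
    have hd := mem_SL.1 hgd
    obtain ⟨μ, hμ⟩ := subfield_le_semiC S hgs
    have e := fix_of_semilinear hu hμ
    rw [← A6_four im] at e
    have e' : (g : M4) * A6 im 4 * (g : M4)ᵀ = (μ⁻¹ : Fˣ).val • A6 im 4 := by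
      conv_rhs => rw [← e]
      rw [smul_smul, ← Units.val_mul, inv_mul_cancel, Units.val_one, one_smul]
    exact ⟨hu, hd, _, mult_sq S.him S.two hd e', e'⟩
  have hle : H7 ≤ K := by
    intro g hg
    obtain ⟨hu, hd, s, hs, hgs⟩ := hdata g hg
    rcases mul_self_eq_one_iff.1 hs with rfl | rfl
    · obtain ⟨B, hB, rfl⟩ := exists_real S hu (by rw [← A6_four im, hgs, one_smul])
      exact hsp B hB
    · have hI : (ofDet d5 : GL (Fin 4) F).val = im • (1 : M4) := rfl
      have hfx : ((ofDet d5 * g : GL (Fin 4) F) : M4) * A6 im 4 * ((ofDet d5 * g : GL (Fin 4) F) : M4)ᵀ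
          = A6 im 4 := by
        rw [Units.val_mul, hI, Matrix.smul_mul, Matrix.one_mul, transpose_smul, Matrix.smul_mul,
          Matrix.smul_mul, Matrix.mul_smul, smul_smul, hgs, smul_smul, ← pow_two, S.him,
          neg_mul_neg, one_mul, one_smul]
      obtain ⟨B, hB, hBe⟩ := exists_real S (UN_mul u5 hu) (by rw [← A6_four im]; exact hfx)
      have : ofDet d5 * g ∈ K := hBe ▸ hsp B hB
      exact (Subgroup.mul_mem_cancel_left K k5).1 this
  have hnot : ofDet d1 ∉ H7 := by
    intro h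
    obtain ⟨-, -, s, -, hs⟩ := hdata _ h
    have e := act_E_of_eq S.him S.two hs
    rw [lam_T1, act, E, mon_mulVec_single, mul_one, show pA 4 = 5 by decide] at e
    have e5 := congrFun e 5
    simp at e5
  rcases hmax.2 K hle (fun g hg => ⟨(mem_GU hφ).2 (hKU g hg).1, mem_SL.2 (hKU g hg).2⟩) with e | e
  · exact absurd (e ▸ k1) hnot
  · exact fun g hu hd => e ▸ (⟨(mem_GU hφ).2 hu, mem_SL.2 hd⟩ :
      g ∈ Cfsg.GU 4 F q ⊓ Cfsg.Geo.specialLinear (Fin 4) F)

end

set_option maxHeartbeats 1000000 in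
/-- The normaliser is maximal in the special unitary group. -/
theorem su_four_C6_maximal [Fintype F] {q : ℕ} (hF : Fintype.card F = q ^ 2) (p : ℕ)
    (R : Subgroup (GL (Fin 4) F)) (hp : p.Prime) (hqp : q = p) (hp4 : p % 4 = 3)
    (hR : Cfsg.Geo.IsSymplecticTypeGroup 2 R)
    (hirr : Cfsg.Geo.ActsAbsolutelyIrreducibly (Cfsg.Geo.matrixSet R))
    (hRU : R ≤ Cfsg.GU 4 F q) (hcard : Nat.card R = 64) (hZ : Nat.card (Subgroup.center R) = 4) :
    Cfsg.Geo.IsMaximalIn (Cfsg.GU 4 F q ⊓ Cfsg.Geo.specialLinear (Fin 4) F)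
      (Cfsg.Geo.subgroupNormalizer R ⊓ (Cfsg.GU 4 F q ⊓ Cfsg.Geo.specialLinear (Fin 4) F)) := by
  classical
  subst hqp
  haveI : Fact q.Prime := ⟨hp⟩
  haveI : CharP F q := by
    obtain ⟨c, hc⟩ := CharP.exists F
    obtain ⟨n, hcp, hn⟩ := FiniteField.card F c
    rw [hF] at hn
    have hd : q ∣ c := hp.dvd_of_dvd_pow (n := (n : ℕ)) (hn ▸ dvd_pow_self q two_ne_zero)
    rwa [(Nat.prime_dvd_prime_iff_eq hp hcp).1 hd]
  obtain ⟨σ, hσ, -, hne⟩ := Unit.exists_powEquiv hF
  let φ : F →+* F := σ.toRingHom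
  have hφ : ∀ x, φ x = x ^ q := hσ
  have h2 : (2 : F) ≠ 0 := fun h => by
    rw [show (2 : F) = ((2 : ℕ) : F) by norm_num, CharP.cast_eq_zero_iff F q] at h
    have := (Nat.prime_dvd_prime_iff_eq hp Nat.prime_two).1 h
    omega
  set ι := ZMod.castHom (dvd_refl q) F with hι
  have hιinj : Function.Injective ι := ι.injective
  obtain ⟨im, Q, X1, Z1, X2, Z2, I, hP⟩ :=
    exists_pauli (good_of_sympType hR hirr h2) (by rw [hcard]; rfl) hZ
  have him := hP.im_sq
  obtain ⟨a, b, hab⟩ := ZMod.sq_add_sq q (-1 : ZMod q)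
  have S : RS ι φ im a b := by
    refine ⟨him, h2, ?_, fun x => ?_, fun x hx => ?_, by rw [← pow_two, ← pow_two]; exact hab⟩
    · rw [hφ]
      obtain ⟨m, hm⟩ : ∃ m, q = 2 * (2 * m + 1) + 1 := ⟨q / 4, by omega⟩
      rw [hm, pow_succ, pow_mul, him, pow_succ, pow_mul, neg_one_sq, one_pow, one_mul, neg_one_mul]
    · rw [hφ, ← map_pow, ZMod.pow_card]
    · have hsub : (Finset.univ.image ι) ⊆
          (Polynomial.X ^ q - Polynomial.X : Polynomial F).roots.toFinset := by
        intro y hy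
        obtain ⟨z, -, rfl⟩ := Finset.mem_image.1 hy
        rw [Multiset.mem_toFinset, Polynomial.mem_roots (FiniteField.X_pow_card_sub_X_ne_zero F hp.one_lt)]
        simp [← map_pow, ZMod.pow_card]
      have hc1 : (Polynomial.X ^ q - Polynomial.X : Polynomial F).roots.toFinset.card ≤ q :=
        (Multiset.toFinset_card_le _).trans ((Polynomial.card_roots' _).trans
          (by rw [FiniteField.X_pow_card_sub_X_natDegree_eq F hp.one_lt]))
      have heq := Finset.eq_of_subset_of_card_le hsub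
        (by rw [Finset.card_image_of_injective _ hιinj, Finset.card_univ, ZMod.card]; exact hc1)
      have : x ∈ (Polynomial.X ^ q - Polynomial.X : Polynomial F).roots.toFinset := by
        rw [Multiset.mem_toFinset, Polynomial.mem_roots (FiniteField.X_pow_card_sub_X_ne_zero F hp.one_lt)]
        simp [← hφ, hx]
      rw [← heq] at this
      obtain ⟨z, -, hz⟩ := Finset.mem_image.1 this
      exact ⟨z, hz⟩
  -- the change of basis is a similitude
  set G := (Q : M4)ᵀ * (Q : M4).map φ with hG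
  have hcomm : ∀ (X : GL (Fin 4) F) (P : M4), X ∈ R → (X : M4) = (Q : M4) * P * ((Q⁻¹ : GL (Fin 4) F) : M4) →
      Pᵀ = P → P.map φ = P → P * P = 1 → P * G = G * P := by
    intro X P hX hXP hT hφP hPP
    have h := (mem_GU hφ).1 (hRU hX)
    rw [UN, hXP] at h
    have h' := congrArg (fun Y : M4 => (Q : M4)ᵀ * Y * (Q : M4).map φ) h
    simp only [transpose_mul, Matrix.map_mul, hT, hφP, Matrix.mul_assoc, Matrix.one_mul] at h'
    rw [← Matrix.map_mul, Units.inv_mul, Matrix.map_one _ (map_zero φ) (map_one φ), Matrix.mul_one,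
      ← Matrix.mul_assoc (Q : M4)ᵀ ((Q⁻¹ : GL (Fin 4) F) : M4)ᵀ, ← transpose_mul, Units.inv_mul,
      transpose_one, Matrix.one_mul, ← Matrix.mul_assoc (Q : M4)ᵀ, ← hG] at h'
    calc P * G = P * (P * (G * P)) := by rw [h']
      _ = G * P := by rw [← Matrix.mul_assoc P P, hPP, Matrix.one_mul]
  obtain ⟨mI, m1, m2, m3, m4⟩ := hP.mem
  have c1 := hcomm X1 _ m1 hP.hX1 (by ext i j; fin_cases i <;> fin_cases j <;> simp [pX1])
    (by ext i j; fin_cases i <;> fin_cases j <;> simp [pX1])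
    (by ext i j; fin_cases i <;> fin_cases j <;> simp [pX1, Matrix.mul_apply, Fin.sum_univ_four])
  have c2 := hcomm Z1 _ m2 hP.hZ1 (by ext i j; fin_cases i <;> fin_cases j <;> simp [pZ1])
    (by ext i j; fin_cases i <;> fin_cases j <;> simp [pZ1])
    (by ext i j; fin_cases i <;> fin_cases j <;> simp [pZ1])
  have c3 := hcomm X2 _ m3 hP.hX2 (by ext i j; fin_cases i <;> fin_cases j <;> simp [pX2])
    (by ext i j; fin_cases i <;> fin_cases j <;> simp [pX2])
    (by ext i j; fin_cases i <;> fin_cases j <;> simp [pX2, Matrix.mul_apply, Fin.sum_univ_four])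
  have c4 := hcomm Z2 _ m4 hP.hZ2 (by ext i j; fin_cases i <;> fin_cases j <;> simp [pZ2])
    (by ext i j; fin_cases i <;> fin_cases j <;> simp [pZ2])
    (by ext i j; fin_cases i <;> fin_cases j <;> simp [pZ2])
  have hoff : ∀ i j : Fin 4, i ≠ j → G i j = 0 := by
    intro i j hij
    have e1 := congrFun (congrFun c2 i) j
    have e2 := congrFun (congrFun c4 i) j
    rw [pZ1, Matrix.diagonal_mul, Matrix.mul_diagonal] at e1
    rw [pZ2, Matrix.diagonal_mul, Matrix.mul_diagonal] at e2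
    fin_cases i <;> fin_cases j <;> simp at hij e1 e2 ⊢ <;>
      first
      | exact (mul_eq_zero.1 (show (2 : F) * _ = 0 by linear_combination e1)).resolve_left h2
      | exact (mul_eq_zero.1 (show (2 : F) * _ = 0 by linear_combination -e1)).resolve_left h2
      | exact (mul_eq_zero.1 (show (2 : F) * _ = 0 by linear_combination e2)).resolve_left h2
      | exact (mul_eq_zero.1 (show (2 : F) * _ = 0 by linear_combination -e2)).resolve_left h2
  have e02 : G 0 0 = G 2 2 := by
    have := congrFun (congrFun c1 0) 2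
    simp [Matrix.mul_apply, Fin.sum_univ_four, pX1] at this
    exact this.symm
  have e13 : G 1 1 = G 3 3 := by
    have := congrFun (congrFun c1 1) 3
    simp [Matrix.mul_apply, Fin.sum_univ_four, pX1] at this
    exact this.symm
  have e01 : G 0 0 = G 1 1 := by
    have := congrFun (congrFun c3 0) 1
    simp [Matrix.mul_apply, Fin.sum_univ_four, pX2] at this
    exact this.symm
  obtain ⟨c, hc⟩ : ∃ c : F, G = c • (1 : M4) := ⟨G 0 0, by
    ext i j
    rcases eq_or_ne i j with rfl | hij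
    · fin_cases i <;> simp [← e02, ← e13, ← e01]
    · simp [hij, hoff i j hij]⟩
  have hc0 : c ≠ 0 := by
    intro h0
    have e : G.det = 0 := by rw [hc, h0, zero_smul, Matrix.det_zero]
    rw [hG, Matrix.det_mul, Matrix.det_transpose, ← RingHom.mapMatrix_apply, ← RingHom.map_det] at e
    rcases mul_eq_zero.1 e with e | e
    · exact Matrix.GeneralLinearGroup.det_ne_zero Q e
    · exact Matrix.GeneralLinearGroup.det_ne_zero Q ((map_eq_zero φ).1 e)
  have hUN : ∀ y, UN φ (Q * y * Q⁻¹) ↔ UN φ y := by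
    intro y
    set z := Q * y * Q⁻¹ with hz
    have hQy : (z : M4) * (Q : M4) = (Q : M4) * (y : M4) := by rw [← Units.val_mul, hz, inv_mul_cancel_right, Units.val_mul]
    have e : (Q : M4)ᵀ * ((z : M4)ᵀ * (z : M4).map φ) * (Q : M4).map φ = c • ((y : M4)ᵀ * (y : M4).map φ) := by
      calc _ = ((z : M4) * (Q : M4))ᵀ * ((z : M4) * (Q : M4)).map φ := by
            simp only [transpose_mul, Matrix.map_mul, Matrix.mul_assoc]
        _ = (y : M4)ᵀ * G * (y : M4).map φ := by
            rw [hQy, hG]; simp only [transpose_mul, Matrix.map_mul, Matrix.mul_assoc]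
        _ = _ := by rw [hc, Matrix.mul_smul, Matrix.smul_mul, Matrix.mul_one]
    constructor
    · intro h
      rw [show (z : M4)ᵀ * (z : M4).map φ = 1 from h, Matrix.mul_one, ← hG, hc] at e
      exact (smul_right_injective _ hc0 e).symm
    · intro h
      rw [show (y : M4)ᵀ * (y : M4).map φ = 1 from h, ← hc, hG] at e
      have e' := congrArg (fun Y : M4 => ((Q⁻¹ : GL (Fin 4) F) : M4)ᵀ * Y * ((Q⁻¹ : GL (Fin 4) F) : M4).map φ) e
      simp only [Matrix.mul_assoc] at e'
      rw [← Matrix.map_mul, Units.mul_inv, Matrix.map_one _ (map_zero φ) (map_one φ),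
        Matrix.mul_one, Matrix.mul_one, ← Matrix.mul_assoc _ (Q : M4)ᵀ, ← transpose_mul, Units.mul_inv,
        transpose_one, Matrix.one_mul] at e'
      exact e'
  have hdet : ∀ y : GL (Fin 4) F,
      Matrix.det ((Q * y * Q⁻¹ : GL (Fin 4) F) : M4) = Matrix.det (y : M4) := fun y => by
    rw [Units.val_mul, Units.val_mul, Matrix.det_units_conj]
  have hin : ∀ y, Q * y * Q⁻¹ ∈ Cfsg.GU 4 F q ⊓ Cfsg.Geo.specialLinear (Fin 4) F ↔
      UN φ y ∧ Matrix.det (y : M4) = 1 := fun y => by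
    rw [Subgroup.mem_inf, mem_GU hφ, mem_SL, hUN, hdet]
  refine isMaximalIn_of inf_le_right ?_ fun M hle hMs g hg hgH => ?_
  · -- an element outside
    set A : GL (Fin 4) (ZMod q) := Matrix.GeneralLinearGroup.mkOfDetNeZero
      !![1, 1, 0, 0; 0, 1, 0, 0; 0, 0, 1, 0; 0, 0, 0, 1]
      (by simp [Matrix.det_succ_row_zero, Fin.sum_univ_succ, Fin.succAbove]) with hA
    have hAi : A ∈ isoOf (fm (ZMod q)) := (mem_iso_iff A).2 (by
      ext i j
      fin_cases i <;> fin_cases j <;>
        simp [hA, SympFourFrameStd.Jm, Matrix.mul_apply, Fin.sum_univ_four])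
    set x := emb S A with hx
    refine ⟨Q * x * Q⁻¹, (hin x).2 ⟨emb_UN S hAi, det_of_fix S (by rw [A6_four]; exact emb_fix S hAi)⟩,
      fun h => ?_⟩
    have hmon : ∀ r ∈ R, Mon (Q⁻¹ * r * Q) := by
      intro r hr
      rw [← hP.gen] at hr
      induction hr using Subgroup.closure_induction with
      | mem s hs =>
        have mk : ∀ (s : GL (Fin 4) F) (P : M4), (s : M4) = (Q : M4) * P * ((Q⁻¹ : GL (Fin 4) F) : M4) →
            (∀ b, ∃ a, ∀ y, y ≠ a → P y b = 0) → Mon (Q⁻¹ * s * Q) := fun s P hs hP' b => by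
          obtain ⟨a, ha⟩ := hP' b
          refine ⟨a, fun y hy => ?_⟩
          rw [Units.val_mul, Units.val_mul, hs]
          simpa [Matrix.mul_assoc] using ha y hy
        rcases hs with rfl | rfl | rfl | rfl | rfl
        · refine mk _ (im • (1 : M4)) ?_ fun b => ⟨b, fun y hy => by simp [hy]⟩
          rw [hP.hI, Matrix.mul_smul, Matrix.mul_one, Matrix.smul_mul, Units.mul_inv]
        · exact mk _ _ hP.hX1 fun b => ⟨![2, 3, 0, 1] b, fun y hy => by
            fin_cases b <;> fin_cases y <;> simp [pX1] at hy ⊢⟩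
        · exact mk _ _ hP.hZ1 fun b => ⟨b, fun y hy => by simp [pZ1, hy]⟩
        · exact mk _ _ hP.hX2 fun b => ⟨![1, 0, 3, 2] b, fun y hy => by
            fin_cases b <;> fin_cases y <;> simp [pX2] at hy ⊢⟩
        · exact mk _ _ hP.hZ2 fun b => ⟨b, fun y hy => by simp [pZ2, hy]⟩
      | one => rw [mul_one, inv_mul_cancel]; exact fun b => ⟨b, fun y hy => by simp [hy]⟩
      | mul a b _ _ ha hb =>
        rw [show Q⁻¹ * (a * b) * Q = Q⁻¹ * a * Q * (Q⁻¹ * b * Q) by group]
        exact Mon_mul ha hb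
      | inv a _ ha =>
        rw [show Q⁻¹ * a⁻¹ * Q = (Q⁻¹ * a * Q)⁻¹ by group]
        exact Mon_inv ha
    have hz := (Subgroup.mem_set_normalizer_iff.1 h.1 X1).1 m1
    have hm := hmon _ hz
    rw [show Q⁻¹ * (Q * x * Q⁻¹ * X1 * (Q * x * Q⁻¹)⁻¹) * Q = x * (Q⁻¹ * X1 * Q) * x⁻¹ by group] at hm
    set r := x * (Q⁻¹ * X1 * Q) * x⁻¹ with hr
    have hrx : (r : M4) * (x : M4) = (x : M4) * pX1 F := by
      rw [← Units.val_mul, hr, inv_mul_cancel_right, Units.val_mul, Units.val_mul, Units.val_mul, hP.hX1]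
      simp [Matrix.mul_assoc]
    have hy : im * im = -1 := by rw [← pow_two]; exact him
    have hc := cc_cb S
    have hxv : (x : M4) = !![1 + 2⁻¹ * im, 2⁻¹ * (-(cc ι im a b) * im), 0, 0;
        2⁻¹ * (-(im * cb ι im a b)), 1 - 2⁻¹ * im, 0, 0; 0, 0, 1, 0; 0, 0, 0, 1] := by
      have hAm : (A : Matrix (Fin 4) (Fin 4) (ZMod q)).map ι =
          (!![1, 1, 0, 0; 0, 1, 0, 0; 0, 0, 1, 0; 0, 0, 0, 1] : M4) := by
        ext i j
        fin_cases i <;> fin_cases j <;> simp [hA]
      rw [hx, coe_emb, hAm]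
      ext i j
      fin_cases i <;> fin_cases j <;>
        simp [Pm, Qm, Matrix.mul_apply, Fin.sum_univ_four] <;> grind
    rw [hxv] at hrx
    have r02 := congrFun (congrFun hrx 0) 2
    have r12 := congrFun (congrFun hrx 1) 2
    simp [Matrix.mul_apply, Fin.sum_univ_four, pX1] at r02 r12
    obtain ⟨l, hl⟩ := hm 2
    by_cases hl0 : l = 0
    · have e := hl 1 (by rw [hl0]; decide)
      rw [e] at r12
      have : im = 0 ∨ cb ι im a b = 0 := by simpa [h2] using r12
      rcases this with e0 | e0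
      · exact im_ne S e0
      · rw [e0, mul_zero] at hc
        exact one_ne_zero (neg_eq_zero.1 hc.symm)
    · have e := hl 0 (fun h => hl0 h.symm)
      rw [e] at r02
      have e0 : im = -2 := by
        have e2 : (2 : F) * (1 + 2⁻¹ * im) = 0 := by rw [← r02, mul_zero]
        rw [mul_add, ← mul_assoc, mul_inv_cancel₀ h2, mul_one, one_mul] at e2
        linear_combination e2
      have := S.conj_im
      rw [e0, map_neg, map_ofNat] at this
      have : (2 : F) * 2 = 0 := by linear_combination -this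
      exact mul_ne_zero h2 h2 this
  · -- everything above
    have h3 : (3 : F) ≠ 0 ∨ ((3 : F) = 0 ∧ ∀ y : ZMod q, y = 0 ∨ y * y = 1) := by
      by_cases hq3 : q = 3
      · subst hq3
        exact Or.inr ⟨by exact_mod_cast CharP.cast_eq_zero F 3, fun y => by fin_cases y <;> first
          | exact Or.inl rfl
          | exact Or.inr rfl⟩
      · refine Or.inl fun h => hq3 ((Nat.prime_dvd_prime_iff_eq hp Nat.prime_three).1 ?_)
        rw [← CharP.cast_eq_zero_iff F q]
        exact_mod_cast h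
    set K := M.comap (MulAut.conj Q).toMonoidHom with hKdef
    have hmem : ∀ y, y ∈ K ↔ Q * y * Q⁻¹ ∈ M := fun y => Iff.rfl
    have hnorm : ∀ y : GL (Fin 4) F, Matrix.det (y : M4) = 1 → Mon (lam S.him S.two y) →
        Q * y * Q⁻¹ ∈ Cfsg.Geo.subgroupNormalizer R :=
      fun y hy hm => OmSix.normalizer_of_Mon S.him S.two hP hy hm
    have hconj : Q * (Q⁻¹ * g * Q) * Q⁻¹ = g := by group
    have hgM : Q⁻¹ * g * Q ∈ K := (hmem _).2 (by rw [hconj]; exact hg)
    have hall := su_le_of_escape S h3 (fun y => ⟨y.val, by simp⟩) hF (ZMod.card q) hφ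
      (K := K) (fun y hy => (hin y).1 (hMs ((hmem y).1 hy)))
      (fun y hu hd hm => (hmem y).2 (hle ⟨hnorm y hd hm, (hin y).2 ⟨hu, hd⟩⟩))
      hgM (fun hm => hgH ⟨by
        have h' := hnorm _ ((hin _).1 (hMs ((hmem _).1 hgM))).2 hm
        rwa [hconj] at h', hMs hg⟩)
    intro y hy
    have hcy : Q * (Q⁻¹ * y * Q) * Q⁻¹ = y := by group
    rw [← hcy] at hy
    have := (hmem _).1 (hall _ ((hin _).1 hy).1 ((hin _).1 hy).2)
    rwa [hcy] at this

end CfsgLib.ClassicalMax.OmSix.U4
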